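import Cfsg.Agent.H779.RowHexA
import Cfsg.Agent.H285.D4Sylow
import Cfsg.Agent.H638.G2Iso
import Cfsg.Agent.S1059
import Cfsg.Agent.ClassificationK.GTwoSylow

/-!
# S5161: the rows `G₂(q)`, `³D₄(q)`, `q` odd (helper779)
-/

set_option autoImplicit false

namespace Cfsg.Agent.H779.RowHex

open Cfsg Cfsg.Lie Cfsg.Agent.ClassificationK.GTwoModel Cfsg.Agent.H747

/-- the row `G₂(q)`, `q` odd (Chevalley group) -/
theorem row_chevG2 {F : Type*} [Field F] [Fintype F] (hF : Odd (Fintype.card F)) : RowTwo ↥(chevG2.group F) := by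
  have hcard : Nat.card ↥(chevG2.group F) =
      Fintype.card F ^ 6 * (Fintype.card F ^ 2 - 1) * (Fintype.card F ^ 6 - 1) :=
    Cfsg.Agent.S1059.result (F := F) rfl
  have : Fact (Nat.Prime 2) := ⟨Nat.prime_two⟩
  obtain ⟨Q⟩ : Nonempty (Sylow 2 ↥(chevG2.group F)) := inferInstance
  obtain ⟨k, hk, ⟨f⟩⟩ := Cfsg.Agent.ClassificationK.GTwoSylow.exists_equiv hF hcard Q
  exact row_of_equiv Q hk f

/-- the row `G₂(q)`, `q` odd (octonion definition) -/
theorem row_G2 {F : Type*} [Field F] [Fintype F] (hF : Odd (Fintype.card F)) : RowTwo ↥(Cfsg.Lie.G2 F) := by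
  obtain ⟨e⟩ := Cfsg.Agent.H638.G2Iso.equiv (F := F)
  exact (row_chevG2 hF).congr e.symm

/-- the row `³D₄(q)`, `q` odd -/
theorem row_3D4 {E : Type*} [Field E] [Fintype E] {q : ℕ} (hq : Odd q) (hE : Fintype.card E = q ^ 3) :
    RowTwo ↥(twistedD4 E q) := by
  have : Fact (Nat.Prime 2) := ⟨Nat.prime_two⟩
  obtain ⟨Q⟩ : Nonempty (Sylow 2 ↥(twistedD4 E q)) := inferInstance
  obtain ⟨k, m, hk, -, -, ⟨f⟩⟩ := Cfsg.Agent.H285.D4Sylow.exists_equiv hq hE Q
  exact row_of_equiv Q hk f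

end Cfsg.Agent.H779.RowHex
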