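import Cfsg.Agent.H779.NPC
import Cfsg.Agent.H782.Weyl.Dual

/-!
# Block NPC of S5267 (helper779): final form, with N2 and N3 of `H782.Weyl`
-/

set_option autoImplicit false

namespace Cfsg.Agent.H779.Core

open Subgroup Cfsg.Agent.H467.MaxClass Cfsg.Agent.H786
open scoped commutatorElement

universe u

/-- Blocks N2, N3. -/
theorem selfDual (p : ℕ) [Fact p.Prime] : SelfDual.{u} p := by
  intro G _ _ x ord syl cent hnn B _ _ _ ρ faith _ h2 h3 reg C _ _ _ σ irr h4 h5 regC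
  obtain ⟨θ, hθ⟩ := Cfsg.Agent.H782.Weyl.exists_dual_equiv ord syl cent hnn ρ faith rfl h2 h3 reg σ rfl
    (by omega) (by omega) regC irr
  exact ⟨θ, fun g f => hθ g f⟩

variable {P : Type u} [Group P] {p n : ℕ} {W : ℕ → Subgroup P} [hN1 : (W 1).Normal] {A : Subgroup (MulAut (W 1))}
variable [hp : Fact p.Prime] [Finite P]

/-- **Block NPC, final form.**  In the non-`p`-closed case either the bottom chief factor of `A` is a characteristic
elementary abelian central subgroup which is self-dual, or we are in the special case. -/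
theorem dual_or_special (mc : MC P p n W) (five : 5 ≤ p)
    (deg : ∀ i j, 1 ≤ i → 1 ≤ j → ⁅W i, W j⁆ ≤ W (i + j + 1))
    (conj_le : conjGrp (W 1) ≤ A) (sylow : ¬ p ∣ (conjGrp (W 1)).relIndex A)
    (hnab : ⁅W 1, W 1⁆ ≠ ⊥) (hnp : ¬ PClosed A) (hΩ : p + 2 ≤ n → ⁅W (n - (p - 1)), W 1⁆ ≠ ⊥) :
    (∃ i, 1 ≤ i ∧ i < n ∧ AInv A (W i) ∧ ⁅W i, W 1⁆ = ⊥ ∧ (∀ w ∈ W i, w ^ p = 1) ∧
      ∃ θ : (W i →* Multiplicative (ZMod p)) →* W i, Function.Surjective θ ∧
        ∀ a ∈ A, ∀ f f' : W i →* Multiplicative (ZMod p),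
          (∀ w w' : W i, (w' : P) = ap a (w : P) → f' w' = f w) →
          ((θ f' : W i) : P) = ap a ((θ f : W i) : P)) ∨
    (p + 2 ≤ n ∧ ⁅W (n - (p - 1)), W 2⁆ = ⊥ ∧ ⁅W (n - (p - 1)), W 1⁆ ≤ W (n - 1) ∧
      AInv A (W (n - 1))) :=
  dual_or_special_of (selfDual p) mc five deg conj_le sylow hnab hnp hΩ

end Cfsg.Agent.H779.Core
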