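import Cfsg.Agent.H779.W5

/-!
# Step (W4) of the exceptional case of S5267 (helper779)
-/

set_option autoImplicit false
set_option linter.unusedSectionVars false

namespace Cfsg.Agent.H779.Core

open Subgroup Cfsg.Agent.H467.MaxClass Cfsg.Agent.H786
open scoped commutatorElement

universe u

variable {P : Type u} [Group P] {p n : ℕ} {W : ℕ → Subgroup P} [hN1 : (W 1).Normal] {A : Subgroup (MulAut (W 1))}
variable [hp : Fact p.Prime] [Finite P]

omit hN1 in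
theorem five_le (mc : MC P p n W) (exc : mc.Ksub (n - 2) ≠ W 1) : 5 ≤ n := by
  have h4 := mc.four_le
  by_contra hlt
  have hn4 : n = 4 := by omega
  apply mc.last_comm_ne_bot exc
  rw [eq_bot_iff, ← mc.bot]
  subst hn4
  exact mc.two

/-- **Step (W4).** -/
theorem w4_xdata {E : Subgroup P} {B H : Subgroup (MulAut E)} (c : CfgX p n W A E B H) {a t l : ℕ} {v z : P}
    {k : MulAut E} (x : XData p n W E B H a t l v z k) (hab : ⁅W 1, W 1⁆ ≤ W (n - 1)) : False := by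
  have mc := c.mc
  have h4 := mc.four_le
  have hn5 := five_le c.mc c.exc
  have hp3 : 3 ≤ p := by have := c.five; omega
  have hat := x.a_add_t
  have ha1 := x.one_le_a
  have ht3 := x.three_le_t
  have hv1 : v ∈ W 1 := mc.antitone ha1 x.v_mem
  have hz1 : z ∈ W 1 := mc.antitone (by omega) x.z_mem
  have hcomm : ∀ {y w : P}, y ∈ W 1 → w ∈ W 1 → ⁅y, w⁆ ∈ W (n - 1) := fun hy hw =>
    hab (commutator_mem_commutator hy hw)
  have hcen : ∀ {y w : P}, y ∈ W 1 → w ∈ W 1 → ∀ u, Commute ⁅y, w⁆ u := fun hy hw u =>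
    mc.center_le (hcomm hy hw) u
  have hzv : ⁅z, v⁆ ≠ 1 := by
    intro h
    exact x.z_not ((x.E_iff z hz1).2 (commutatorElement_eq_one_iff_mul_comm.1 h))
  -- powers on the centre
  have hgen : ∀ {y w : P}, y ∈ W (n - 1) → y ≠ 1 → w ∈ W (n - 1) → ∃ m : ℕ, w = y ^ m := by
    intro y w hy hy1 hw
    obtain ⟨m, hm⟩ := exists_pow mc (i := n - 1) (by omega) hy (by
      rw [show n - 1 + 1 = n by omega, mc.bot, Subgroup.mem_bot]; exact hy1) hw
    rw [show n - 1 + 1 = n by omega, mc.bot, Subgroup.mem_bot, inv_mul_eq_one] at hm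
    exact ⟨m, hm.symm⟩
  -- elements of `E` of all indices but `t - 1`
  have hex : ∀ i, 1 ≤ i → i < n → i ≠ t - 1 → ∃ e ∈ E, e ∈ W i ∧ e ∉ W (i + 1) := by
    intro i hi hin hne
    obtain ⟨w, hw, hw'⟩ := mc.ne_succ hin
    rcases Nat.lt_or_ge i t with hlt | hge
    · have hit : i + 1 ≤ t - 1 := by omega
      have hw1 : w ∈ W 1 := mc.antitone hi hw
      obtain ⟨m, hm⟩ := hgen (hcomm hz1 hv1) hzv (hcomm hw1 hv1)
      have hzm : (z ^ m)⁻¹ ∈ W (i + 1) := mc.antitone hit (inv_mem (pow_mem x.z_mem m))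
      have hzm1 : (z ^ m)⁻¹ ∈ W 1 := inv_mem (pow_mem hz1 m)
      refine ⟨w * (z ^ m)⁻¹, ?_, mul_mem hw (mc.antitone (Nat.le_succ i) hzm), fun h => ?_⟩
      · refine (x.E_iff _ (mul_mem hw1 hzm1)).2 ?_
        have h5 : ⁅z ^ m, v⁆ = ⁅z, v⁆ ^ m := comm_pow_left (hcen hz1 hv1) m
        have h6 : ⁅w * (z ^ m)⁻¹, v⁆ = 1 := by
          have e1 : ⁅w * (z ^ m)⁻¹, v⁆ = w * ((z ^ m)⁻¹ * ⁅z ^ m, v⁆⁻¹ * z ^ m) * w⁻¹ * ⁅w, v⁆ := by
            simp only [commutatorElement_def]; group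
          have e2 : (z ^ m)⁻¹ * ⁅z ^ m, v⁆⁻¹ * z ^ m = ⁅z ^ m, v⁆⁻¹ := by
            have h7 := ((hcen (pow_mem hz1 m) hv1 (z ^ m)).inv_left).eq
            rw [mul_assoc, h7, inv_mul_cancel_left]
          have h8 := ((hcen (pow_mem hz1 m) hv1 w⁻¹).inv_left).eq
          rw [e1, e2, mul_assoc w, h8, mul_inv_cancel_left, h5, ← hm, inv_mul_cancel]
        exact commutatorElement_eq_one_iff_mul_comm.1 h6
      · apply hw'
        have h9 := mul_mem h (inv_mem hzm)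
        rwa [inv_inv, inv_mul_cancel_right] at h9
    · exact ⟨w, x.Wt_le (mc.antitone hge hw), hw, hw'⟩
  obtain ⟨i, hi1, hi2, hi3, hi4⟩ : ∃ i, 1 ≤ i ∧ i ≤ n - 2 ∧ i ≠ t - 1 ∧ i ≠ a := by
    by_cases h1 : 1 ≠ t - 1 ∧ 1 ≠ a
    · exact ⟨1, le_rfl, by omega, h1.1, h1.2⟩
    · by_cases h2 : 2 ≠ t - 1 ∧ 2 ≠ a
      · exact ⟨2, by omega, by omega, h2.1, h2.2⟩
      · exact ⟨3, by omega, by omega, by omega, by omega⟩
  obtain ⟨e, heE, he, he'⟩ := hex i hi1 (by omega) hi3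
  obtain ⟨f, hfE, hf, hf'⟩ := hex (n - 1 - i) (by omega) (by omega) (by omega)
  obtain ⟨h5, h6⟩ := mc.D4 hp3 c.exc hi1 hi2 he he' hf (by rwa [show n - 1 - i + 1 = n - i by omega] at hf')
  refine x.not_inv fun g _ u hu => ?_
  obtain ⟨m, hm⟩ := hgen h6 h5 hu
  have h7 : u = ⁅(⟨e, heE⟩ : E), ⟨f, hfE⟩⁆ ^ m := Subtype.ext hm
  rw [h7, map_pow, map_commutatorElement]
  exact pow_mem (hcomm (c.E_le (SetLike.coe_mem _)) (c.E_le (SetLike.coe_mem _))) m

end Cfsg.Agent.H779.Core
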