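import Cfsg.Agent.H779.W5Abs
import Cfsg.Agent.H42.MaxEss.Quot
import Cfsg.Agent.H467.DegUnif
import Cfsg.Agent.H786.XData

/-!
# Step (W5) of the exceptional case of S5267 (helper779)
-/

set_option autoImplicit false
set_option linter.unusedSectionVars false

namespace Cfsg.Agent.H779.Core

open Subgroup Cfsg.Agent.H467.MaxClass Cfsg.Agent.H786
open scoped commutatorElement

universe u

variable {P : Type u} [Group P] {p n : ℕ} {W : ℕ → Subgroup P} [hN1 : (W 1).Normal] {A : Subgroup (MulAut (W 1))}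
variable [hp : Fact p.Prime] [Finite P]

omit hN1 hp [Finite P] in
theorem Z_pow (mc : MC P p n W) {z : P} (hz : z ∈ W (n - 1)) : z ^ p = 1 := by
  have h4 := mc.four_le
  have h1 := mc.card_W 1 (by omega)
  have h2 : (⟨z, hz⟩ : W (n - 1)) ^ Nat.card (W (n - 1)) = 1 := pow_card_eq_one'
  rw [h1, pow_one] at h2
  exact congrArg Subtype.val h2

omit hN1 hp [Finite P] in
theorem comm_aux {v w s z : P} (hz : ∀ x, Commute z x) (hws : Commute w s) : ⁅v * w, s * z⁆ = ⁅v, s⁆ := by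
  have h1 : w * (s * z) = s * z * w := (hws.mul_right (hz w).symm).eq
  calc ⁅v * w, s * z⁆ = v * (w * (s * z)) * w⁻¹ * v⁻¹ * z⁻¹ * s⁻¹ := by
        simp only [commutatorElement_def]; group
    _ = v * s * (z * v⁻¹) * z⁻¹ * s⁻¹ := by rw [h1]; group
    _ = v * s * (v⁻¹ * z) * z⁻¹ * s⁻¹ := by rw [(hz v⁻¹).eq]
    _ = ⁅v, s⁆ := by simp only [commutatorElement_def]; group

/-- The weights on the first and the next-to-last factor multiply to the weight on the centre. -/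
theorem pair_weight (mc : MC P p n W) (hn : 5 ≤ n) (hp3 : 3 ≤ p) (exc : mc.Ksub (n - 2) ≠ W 1) {a : MulAut (W 1)}
    {r t m : ℕ} (hr : ∀ e : W 1, ((e : P) ^ r)⁻¹ * ((a e : W 1) : P) ∈ W 2)
    (ht : ∀ e : W 1, (e : P) ∈ W (n - 2) → ((e : P) ^ t)⁻¹ * ((a e : W 1) : P) ∈ W (n - 1))
    (hm : ∀ e : W 1, (e : P) ∈ W (n - 1) → a e = e ^ m) : r * t ≡ m [MOD p] := by
  obtain ⟨v, hv, hv'⟩ := mc.ne_succ (show 1 < n by omega)
  obtain ⟨s, hs, hs'⟩ := mc.ne_succ (show n - 2 < n by omega)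
  have hs1 : s ∈ W 1 := mc.antitone (by omega) hs
  obtain ⟨h1, h2⟩ := mc.D4 hp3 exc le_rfl (by omega) hv hv' (s' := s) (by rwa [show n - 1 - 1 = n - 2 by omega])
    (by rwa [show n - 2 + 1 = n - 1 by omega] at hs')
  have hcen : ∀ x : P, Commute ⁅v, s⁆ x := fun x => mc.center_le h2 x
  have h3 := hr ⟨v, hv⟩
  have h4 := ht ⟨s, hs1⟩ hs
  set w := (v ^ r)⁻¹ * ((a ⟨v, hv⟩ : W 1) : P) with hw
  set z := (s ^ t)⁻¹ * ((a ⟨s, hs1⟩ : W 1) : P) with hz
  have h5 : ((a ⟨v, hv⟩ : W 1) : P) = v ^ r * w := by rw [hw]; group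
  have h6 : ((a ⟨s, hs1⟩ : W 1) : P) = s ^ t * z := by rw [hz]; group
  have h7 : ((a ⁅(⟨v, hv⟩ : W 1), ⟨s, hs1⟩⁆ : W 1) : P) = ⁅v, s⁆ ^ (r * t) := by
    rw [map_commutatorElement]
    show ⁅((a ⟨v, hv⟩ : W 1) : P), ((a ⟨s, hs1⟩ : W 1) : P)⁆ = _
    have hws : Commute w (s ^ t) := by
      have h8 := mc.comm_comm_mem (i := 2) (j := n - 2) h3 (pow_mem hs t)
      rw [mc.bot_of_le (by omega), Subgroup.mem_bot] at h8
      exact commutatorElement_eq_one_iff_mul_comm.1 h8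
    rw [h5, h6, comm_aux (fun x => mc.center_le h4 x) hws]
    have e2 : ⁅v, s ^ t⁆ = ⁅v, s⁆ ^ t := comm_pow_right hcen t
    have e3 : ⁅v ^ r, s ^ t⁆ = ⁅v, s ^ t⁆ ^ r := by
      refine comm_pow_left (fun x => ?_) r
      rw [e2]
      exact (hcen x).pow_left t
    rw [e3, e2, ← pow_mul, mul_comm]
  have h8 := hm ⁅(⟨v, hv⟩ : W 1), ⟨s, hs1⟩⁆ h2
  rw [h8] at h7
  have h9 : ⁅v, s⁆ ^ m = ⁅v, s⁆ ^ (r * t) := h7
  have h10 : orderOf ⁅v, s⁆ = p := orderOf_eq_prime (Z_pow mc h2) h1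
  rw [pow_eq_pow_iff_modEq, h10] at h9
  exact h9.symm

/-- the action on the centre is a power map -/
theorem exists_weight_Z (mc : MC P p n W) {a : MulAut (W 1)}
    (ha : ∀ e : W 1, (e : P) ∈ W (n - 1) → ((a e : W 1) : P) ∈ W (n - 1)) :
    ∃ m : ℕ, ∀ e : W 1, (e : P) ∈ W (n - 1) → a e = e ^ m := by
  have h4 := mc.four_le
  have hnn : n - 1 + 1 = n := by omega
  obtain ⟨m, hm⟩ := exists_sc mc (a := a) (i := n - 1) (by omega) (by omega) ha (by
    intro e he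
    rw [hnn, mc.bot, Subgroup.mem_bot] at he
    have h5 : e = 1 := Subtype.ext he
    rw [h5, map_one]
    exact one_mem _)
  refine ⟨m, fun e he => ?_⟩
  have h5 := hm e he
  rw [hnn, mc.bot, Subgroup.mem_bot, inv_mul_eq_one] at h5
  exact Subtype.ext h5.symm

/-- **Step (W5).** -/
theorem w5 (mc : MC P p n W) (five : 5 ≤ p) (exc : mc.Ksub (n - 2) ≠ W 1) (conj_le : conjGrp (W 1) ≤ A)
    (sylow : ¬ p ∣ (conjGrp (W 1)).relIndex A) (Z_inv : AInv A (W (n - 1)))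
    (hnab : ¬ ⁅W 1, W 1⁆ ≤ W (n - 1)) {k : MulAut (W 1)} (hk : k ∈ A) {l : ℕ}
    (hkl : ∀ e : W 1, (e : P) ∈ W (n - 1) → k e = e ^ l)
    (l_prim : ∀ m : ℕ, (l : ZMod p) ^ m = 1 → p - 1 ∣ m) : PClosed A := by
  classical
  have hp3 : 3 ≤ p := by omega
  have h4 := mc.four_le
  have hn5 : 5 ≤ n := by
    by_contra hlt
    have hn4 : n = 4 := by omega
    apply mc.last_comm_ne_bot exc
    rw [eq_bot_iff, ← mc.bot]
    subst hn4
    exact mc.two
  have hnj := mc.normal (n - 1)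
  set q := QuotientGroup.mk' (W (n - 1)) with hq
  have hqs : Function.Surjective q := QuotientGroup.mk'_surjective _
  have hq1 : ∀ x, q x = 1 ↔ x ∈ W (n - 1) := fun x => QuotientGroup.eq_one_iff _
  let W' : ℕ → Subgroup (P ⧸ W (n - 1)) := fun i => (W i).map q
  have hmc : MC (P ⧸ W (n - 1)) p (n - 1) W' := mc.quot (by omega) (by omega)
  have hn1' : (W' 1).Normal := hmc.normal 1
  let θ : W 1 →* P ⧸ W (n - 1) := q.comp (W 1).subtype
  have hr : θ.range = W' 1 := by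
    show (q.comp (W 1).subtype).range = (W 1).map q
    rw [MonoidHom.range_comp, Subgroup.range_subtype]
  have hθ : ∀ v : W' 1, ∃ x, θ x = v := fun v => by
    have hv : (v : P ⧸ W (n - 1)) ∈ θ.range := by rw [hr]; exact v.2
    exact hv
  have hθW : ∀ x : W 1, θ x ∈ W' 1 := fun x => by rw [← hr]; exact ⟨x, rfl⟩
  obtain ⟨ρ, hρ⟩ := Cfsg.Agent.H42.MaxEss.exists_act θ (W' 1) hr.ge A.subtype
    (fun a x hx => (hq1 _).2 (Z_inv a a.2 x ((hq1 _).1 hx))) (fun a x _ => hθW _)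
  have hconj : ∀ (y : P) (a : A), (a : MulAut (W 1)) = MulAut.conjNormal (H := W 1) y →
      ρ a = MulAut.conjNormal (H := W' 1) (q y) := by
    intro y a ha
    apply MulEquiv.ext
    intro v
    apply Subtype.ext
    obtain ⟨x, hx⟩ := hθ v
    rw [hρ a v x hx, MulAut.conjNormal_apply, ← hx]
    show q (((a : MulAut (W 1)) x : W 1) : P) = q y * q (x : P) * (q y)⁻¹
    rw [ha, MulAut.conjNormal_apply, map_mul, map_mul, map_inv]
  have S : Sit p (n - 1) W' ρ.range := by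
    refine ⟨hmc, ?_, five, ?_, ?_, ?_⟩
    · intro i j hi hj
      show ⁅(W i).map q, (W j).map q⁆ ≤ (W (i + j + 1)).map q
      rw [← map_commutator]
      rcases Nat.lt_or_ge (n - 2) (i + j) with h | h
      · have h1 : (⁅W i, W j⁆).map q = ⊥ := by
          rw [Subgroup.map_eq_bot_iff, QuotientGroup.ker_mk']
          exact (mc.comm_comm j i).trans (mc.antitone (by omega))
        rw [h1]
        exact bot_le
      · exact Subgroup.map_mono (mc.deg_of_add_le hp3 hi hj h)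
    · rintro _ ⟨y', rfl⟩
      obtain ⟨y, rfl⟩ := hqs y'
      exact ⟨⟨_, conj_le ⟨y, rfl⟩⟩, hconj y _ rfl⟩
    · intro hd
      apply sylow
      refine hd.trans ?_
      have h1 : ((conjGrp (W 1)).subgroupOf A).map ρ ≤ conjGrp (W' 1) := by
        rintro _ ⟨a, ⟨y, hy⟩, rfl⟩
        exact ⟨q y, (hconj y a hy.symm).symm⟩
      refine (Subgroup.relIndex_dvd_of_le_left ρ.range h1).trans ?_
      have e1 : (((conjGrp (W 1)).subgroupOf A).map ρ).relIndex ρ.range =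
          (((conjGrp (W 1)).subgroupOf A).map ρ.rangeRestrict).index := by
        rw [Subgroup.relIndex]
        congr 1
        ext ⟨y, hy⟩
        constructor
        · rintro ⟨a, ha, hay⟩
          exact ⟨a, ha, Subtype.ext hay⟩
        · rintro ⟨a, ha, hay⟩
          exact ⟨a, ha, congrArg Subtype.val hay⟩
      rw [e1]
      exact ((conjGrp (W 1)).subgroupOf A).index_map_dvd ρ.rangeRestrict_surjective
    · intro h
      apply hnab
      have h1 : (⁅W 1, W 1⁆).map q = ⊥ := by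
        rw [map_commutator]
        exact h
      rwa [Subgroup.map_eq_bot_iff, QuotientGroup.ker_mk'] at h1
  -- the weights
  have hsc1 : ∀ (a : A) (r : ℕ), Sc W' (ρ a) 1 r → ∀ e : W 1, ((e : P) ^ r)⁻¹ * (((a : MulAut (W 1)) e : W 1) : P) ∈ W 2 := by
    intro a r h e
    have h1 := h ⟨θ e, hθW e⟩ (hθW e)
    rw [hρ a _ e rfl] at h1
    refine (Cfsg.Agent.H42.MaxEss.mem_map_mk (mc.antitone (show 2 ≤ n - 1 by omega))).1 ?_
    rw [map_mul, map_inv, map_pow]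
    exact h1
  have hsc2 : ∀ (a : A) (t : ℕ), Sc W' (ρ a) (n - 2) t → ∀ e : W 1, (e : P) ∈ W (n - 2) →
      ((e : P) ^ t)⁻¹ * (((a : MulAut (W 1)) e : W 1) : P) ∈ W (n - 1) := by
    intro a t h e he
    have h1 := h ⟨θ e, hθW e⟩ ⟨(e : P), he, rfl⟩
    rw [hρ a _ e rfl, show n - 2 + 1 = n - 1 by omega] at h1
    refine (Cfsg.Agent.H42.MaxEss.mem_map_mk (N := W (n - 1)) le_rfl).1 ?_
    rw [map_mul, map_inv, map_pow]
    exact h1
  -- the kernel of the action on the centre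
  let K₀ : Subgroup A :=
    { carrier := {a | ∀ e : W 1, (e : P) ∈ W (n - 1) → (a : MulAut (W 1)) e = e}
      one_mem' := fun e _ => rfl
      mul_mem' := by
        intro a b ha hb e he
        show (a : MulAut (W 1)) ((b : MulAut (W 1)) e) = e
        rw [hb e he, ha e he]
      inv_mem' := by
        intro a ha e he
        show (a : MulAut (W 1))⁻¹ e = e
        conv_lhs => rw [← ha e he]
        exact MulAut.inv_apply_self _ _ _ }
  have hK₀ : ∀ a : A, a ∈ K₀ ↔ ∀ e : W 1, (e : P) ∈ W (n - 1) → (a : MulAut (W 1)) e = e := fun a => Iff.rfl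
  have hK₀n : ∀ a c : A, c ∈ K₀ → a * c * a⁻¹ ∈ K₀ := by
    intro a c hc e he
    show (a : MulAut (W 1)) ((c : MulAut (W 1)) ((a : MulAut (W 1))⁻¹ e)) = e
    have h1 : (((a : MulAut (W 1))⁻¹ e : W 1) : P) ∈ W (n - 1) := Z_inv _ (inv_mem a.2) e he
    rw [hc _ h1, MulAut.apply_inv_self]
  have hcK₀ : ∀ c : A, (c : MulAut (W 1)) ∈ conjGrp (W 1) → c ∈ K₀ := by
    rintro c ⟨y, hy⟩ e he
    rw [← hy]
    apply Subtype.ext
    rw [MulAut.conjNormal_apply]
    have h1 : Commute (e : P) y := mc.center_le he y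
    rw [← h1.eq, mul_inv_cancel_right]
  have key : K₀.map ρ ≤ conjGrp (W' 1) := by
    refine S.le_conjGrp_of_weights (a₀ := ρ ⟨k, hk⟩) (l := l) ?_ ?_ ?_ ⟨_, rfl⟩ l_prim ?_ ?_
    · rintro _ ⟨a, -, rfl⟩
      exact ⟨a, rfl⟩
    · rintro _ ⟨a, rfl⟩ _ ⟨c, hc, rfl⟩
      refine ⟨a * c * a⁻¹, hK₀n a c hc, ?_⟩
      rw [map_mul, map_mul, map_inv]
    · rintro _ ⟨y', rfl⟩
      obtain ⟨y, rfl⟩ := hqs y'
      exact ⟨⟨_, conj_le ⟨y, rfl⟩⟩, hcK₀ _ ⟨y, rfl⟩, hconj y _ rfl⟩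
    · rintro _ ⟨c, hc, rfl⟩ - r t h1 h2
      rw [show n - 1 - 1 = n - 2 by omega] at h2
      refine pair_weight mc hn5 hp3 exc (hsc1 c r h1) (hsc2 c t h2) fun e he => ?_
      rw [pow_one]
      exact hc e he
    · rintro _ ⟨c, hc, rfl⟩ - r t h1 h2
      rw [show n - 1 - 1 = n - 2 by omega] at h2
      rw [← map_mul] at h1 h2
      refine pair_weight mc hn5 hp3 exc (hsc1 _ r h1) (hsc2 _ t h2) fun e he => ?_
      show (c : MulAut (W 1)) (k e) = e ^ l
      rw [hkl e he, map_pow, hc e he]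
  -- the kernel of `ρ`
  have hker : ∀ d : A, ρ d = 1 → ∀ e : W 1, (e : P)⁻¹ * (((d : MulAut (W 1)) e : W 1) : P) ∈ W (n - 1) := by
    intro d hd e
    have h1 := hρ d ⟨θ e, hθW e⟩ e rfl
    rw [hd] at h1
    have h2 : q (e : P) = q (((d : MulAut (W 1)) e : W 1) : P) := h1
    rw [← hq1, map_mul, map_inv, h2, inv_mul_cancel]
  have hkerZ : ∀ d : A, ρ d = 1 → d ∈ K₀ := by
    intro d hd
    obtain ⟨m, hm⟩ := exists_weight_Z mc (a := (d : MulAut (W 1))) (fun e he => Z_inv d d.2 e he)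
    have h1 := pair_weight mc hn5 hp3 exc (a := (d : MulAut (W 1))) (r := 1) (t := 1) (m := m)
      (fun e => by rw [pow_one]; exact mc.antitone (show 2 ≤ n - 1 by omega) (hker d hd e))
      (fun e _ => by rw [pow_one]; exact hker d hd e) hm
    rw [mul_one] at h1
    intro e he
    rw [hm e he]
    apply Subtype.ext
    have h2 : ((e : P)) ^ m = (e : P) ^ 1 := by
      by_cases he1 : (e : P) = 1
      · rw [he1, one_pow, one_pow]
      · rw [pow_eq_pow_iff_modEq, orderOf_eq_prime (Z_pow mc he) he1]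
        exact h1.symm
    rw [Subgroup.coe_pow, h2, pow_one]
  have hpow : ∀ d : A, ρ d = 1 → d ^ p = 1 := by
    intro d hd
    have h1 : ∀ (j : ℕ) (e : W 1), ((((d : MulAut (W 1)) ^ j) e : W 1) : P) =
        e * ((e : P)⁻¹ * (((d : MulAut (W 1)) e : W 1) : P)) ^ j := by
      intro j
      induction j with
      | zero => intro e; simp
      | succ j ih =>
        intro e
        rw [pow_succ', MulAut.mul_apply]
        set z : P := (e : P)⁻¹ * (((d : MulAut (W 1)) e : W 1) : P) with hz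
        have hzZ : z ∈ W (n - 1) := hker d hd e
        have hz1 : z ∈ W 1 := mc.antitone (by omega) hzZ
        have h2 : ((d : MulAut (W 1)) ^ j) e = e * (⟨z, hz1⟩ : W 1) ^ j := Subtype.ext (ih e)
        rw [h2, map_mul, map_pow, hkerZ d hd ⟨z, hz1⟩ hzZ]
        show (((d : MulAut (W 1)) e : W 1) : P) * z ^ j = e * z ^ (j + 1)
        have h3 : (((d : MulAut (W 1)) e : W 1) : P) = e * z := by rw [hz]; group
        rw [h3, pow_succ', mul_assoc]
    apply Subtype.ext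
    apply MulEquiv.ext
    intro e
    apply Subtype.ext
    show ((((d : MulAut (W 1)) ^ p) e : W 1) : P) = e
    rw [h1 p e, Z_pow mc (hker d hd e), mul_one]
  -- the Sylow subgroup
  have hpP : IsPGroup p P := IsPGroup.of_card mc.card_group
  have hpc : IsPGroup p (conjGrp (W 1)) := by
    have : IsPGroup p (MulAut.conjNormal (H := W 1)).range :=
      hpP.of_surjective (MulAut.conjNormal (H := W 1)).rangeRestrict
        (MulAut.conjNormal (H := W 1)).rangeRestrict_surjective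
    exact this
  let T : Sylow p A := IsPGroup.toSylow (P := (conjGrp (W 1)).subgroupOf A)
    (hpc.comap_of_injective _ (Subgroup.subtype_injective A)) sylow
  have hT : ∀ a : A, a ∈ (T : Subgroup A) ↔ (a : MulAut (W 1)) ∈ conjGrp (W 1) := fun a => Iff.rfl
  have hkT : ρ.ker ≤ (T : Subgroup A) := by
    refine IsPGroup.le_sylow_of_normal (fun d => ⟨1, ?_⟩) T
    rw [pow_one]
    exact Subtype.ext (hpow d d.2)
  intro a ha c hc
  obtain ⟨d, hd, hdK⟩ : ∃ d : A, (d : MulAut (W 1)) = a * c * a⁻¹ ∧ d ∈ K₀ :=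
    ⟨(⟨a, ha⟩ : A) * ⟨c, conj_le hc⟩ * (⟨a, ha⟩ : A)⁻¹, rfl, hK₀n _ _ (hcK₀ _ hc)⟩
  obtain ⟨y', hy'⟩ := key ⟨_, hdK, rfl⟩
  obtain ⟨y, rfl⟩ := hqs y'
  obtain ⟨b, hb, hbρ⟩ : ∃ b : A, (b : MulAut (W 1)) = MulAut.conjNormal (H := W 1) y ∧
      ρ b = MulAut.conjNormal (H := W' 1) (q y) :=
    ⟨⟨MulAut.conjNormal (H := W 1) y, conj_le ⟨y, rfl⟩⟩, rfl, hconj y _ rfl⟩
  have h1 : d * b⁻¹ ∈ ρ.ker := by
    rw [MonoidHom.mem_ker, map_mul, map_inv, hbρ, ← hy']
    exact mul_inv_cancel _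
  have h2 : (d : MulAut (W 1)) * (b : MulAut (W 1))⁻¹ ∈ conjGrp (W 1) := (hT _).1 (hkT h1)
  rw [hd, hb] at h2
  have h4 := mul_mem h2 (show MulAut.conjNormal (H := W 1) y ∈ conjGrp (W 1) from ⟨y, rfl⟩)
  rwa [inv_mul_cancel_right] at h4

/-- **Step (W5) in the form of `XData`.** -/
theorem w5_xdata {E : Subgroup P} {B H : Subgroup (MulAut E)} (c : CfgX p n W A E B H) {a t l : ℕ} {v z : P}
    {k : MulAut E} (x : XData p n W E B H a t l v z k) (hnab : ¬ ⁅W 1, W 1⁆ ≤ W (n - 1)) : PClosed A := by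
  obtain ⟨a', ha', hk⟩ := c.ext k x.k_H
  refine w5 c.mc c.five c.exc c.conj_le c.sylow c.Z_inv hnab ha' (l := l) ?_ x.l_prim
  intro e he
  have h4 := c.mc.four_le
  have hE : (e : P) ∈ E := x.Wt_le (by
    have h1 := x.one_le_a
    have h2 := x.a_add_t
    exact c.mc.antitone (by omega) he)
  apply Subtype.ext
  rw [← ap_coe, hk ⟨e, hE⟩, x.k_Z ⟨e, hE⟩ he]
  rfl

end Cfsg.Agent.H779.Core
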