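import Cfsg.Agent.H779.PearlFinal
import Cfsg.Agent.H764.Center2
import Cfsg.Agent.S0112
import Cfsg.Agent.S0095

/-!
# `pearl_final` (task 54, for S5177)
-/

set_option autoImplicit false

open scoped commutatorElement

namespace Cfsg.Agent.H779.PearlFinal

open Cfsg.Agent.H764 Cfsg.Agent.H467.MaxClass

theorem pearl_final {Ω : Type*} [Group Ω] {p : ℕ} [hp : Fact p.Prime] {S Q : Subgroup Ω} [Finite S]
    (h : Ext p S Q)
    (h5 : p ^ 5 ≤ Nat.card Q) {x : Ω} (hx : x ∈ S) (hxQ : x ∉ Q) (hxp : x ^ p = 1)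
    (hC : ∀ q ∈ Q, x * q = q * x → q ∈ ZQ Q)
    (hτ : ∀ c d : ℕ, c * d ≡ 1 [MOD p] → ∃ τ : MulAut S, ((τ ⟨x, hx⟩ : S) : Ω) = x ^ c ∧
      ∀ z : S, (z : Ω) ∈ ZQ Q → τ z = z ^ d) [Group.IsNilpotent S] :
    (Nat.card Q = p ^ 5 ∧ (∀ q ∈ Q, q ^ p = 1) ∧ ∃ s ∈ S, s ∉ Q ∧ s ^ p = 1 ∧ ∃ y ∈ Q, ∃ e k a : Ω,
      e = s * y * s⁻¹ * y⁻¹ ∧ k = s * e * s⁻¹ * e⁻¹ ∧ a = s * k * s⁻¹ * k⁻¹ ∧ a ∉ ZQ Q ∧ s * a = a * s) ∨
    (11 ≤ p ∧ Nat.card S = p ^ (p - 1) ∧ (∀ s : S, s ^ p = 1) ∧ Group.nilpotencyClass S = p - 2) := by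
  classical
  have hpr := hp.out
  have hQf : Finite Q := Cfsg.Agent.H802.finite_of_le h.le
  obtain ⟨n, hn1, hn⟩ := Cfsg.Agent.S0095.result h.ex
  have hn2 : 2 ≤ n := by
    rw [hn] at h5
    have := (Nat.pow_le_pow_iff_right hpr.one_lt).1 h5
    omega
  set M : Subgroup S := Q.subgroupOf S with hM
  set Z : Subgroup S := (ZQ Q).subgroupOf S with hZ
  have hZS : ZQ Q ≤ S := (ZQ_le Q).trans h.le
  have hMc : Nat.card M = Nat.card Q := Nat.card_congr (Subgroup.subgroupOfEquivOfLe h.le).toEquiv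
  have hZc : Nat.card Z = p := by
    rw [← h.card_Z]
    exact Nat.card_congr (Subgroup.subgroupOfEquivOfLe hZS).toEquiv
  have hS : Nat.card S = p ^ (2 * n + 2) := by
    have h1 := M.card_mul_index
    rw [hMc, hn, h.index, ← pow_succ] at h1
    rw [← h1]
  have hMm : ∀ a : S, a ∈ M ↔ (a : Ω) ∈ Q := fun a => Subgroup.mem_subgroupOf
  have hZm : ∀ a : S, a ∈ Z ↔ (a : Ω) ∈ ZQ Q := fun a => Subgroup.mem_subgroupOf
  have hMn : M.Normal := by
    apply Subgroup.normal_of_index_eq_minFac_card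
    rw [h.index, hS, hpr.pow_minFac (by omega)]
  -- maximal class
  have hcls : Group.nilpotencyClass S = 2 * n + 2 - 1 := by
    set A : Subgroup S := Subgroup.centralizer {(⟨x, hx⟩ : S)} with hA
    have hxA : (⟨x, hx⟩ : S) ∈ A := Subgroup.mem_centralizer_singleton_iff.2 rfl
    have hAM : A ⊓ M = Z := by
      apply le_antisymm
      · rintro a ⟨ha1, ha2⟩
        rw [hZm]
        refine hC a ((hMm a).1 ha2) ?_
        have := Subgroup.mem_centralizer_singleton_iff.1 ha1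
        exact (congrArg Subtype.val this).symm
      · intro z hz
        exact ⟨Subgroup.mem_centralizer_singleton_iff.2
          (Subtype.ext (h.Z_comm hx ((hZm z).1 hz)).symm), (hMm z).2 (ZQ_le Q ((hZm z).1 hz))⟩
    have hAc : Nat.card A = p ^ 2 := by
      have h1 : M.relIndex A ∣ p := by
        have := Subgroup.relIndex_dvd_index_of_normal M A
        rwa [h.index] at this
      have h2 : M.relIndex A ≠ 1 := by
        intro h3
        exact hxQ ((hMm _).1 (Subgroup.relIndex_eq_one.1 h3 hxA))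
      have h3 : M.relIndex A = p := ((Nat.dvd_prime hpr).1 h1).resolve_left h2
      have h4 := Subgroup.relIndex_mul_relIndex ⊥ (A ⊓ M) A bot_le inf_le_left
      rw [Subgroup.relIndex_bot_left, Subgroup.relIndex_bot_left, Subgroup.inf_relIndex_left, h3,
        hAM, hZc] at h4
      rw [← h4, pow_two]
    refine Cfsg.Agent.S0112.result (2 * n + 2) hS A hAc ?_
    have hcomm : IsMulCommutative A := IsPGroup.isMulCommutative_of_card_eq_prime_sq hAc
    apply le_antisymm
    · intro a ha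
      rw [hA, Subgroup.mem_centralizer_singleton_iff]
      exact (Subgroup.mem_centralizer_iff.1 ha _ hxA).symm
    · intro a ha
      rw [Subgroup.mem_centralizer_iff]
      intro b hb
      have := hcomm.is_comm.comm (⟨b, hb⟩ : A) ⟨a, ha⟩
      exact congrArg (fun t : A => (t : S)) this
  have hsit : Sit p (2 * n + 2) M Z (⟨x, hx⟩ : S) :=
    { ne_two := h.ne_two
      card := hS
      six := by omega
      even := ⟨n + 1, by ring⟩
      cls := hcls
      index := h.index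
      cardZ := hZc
      cent := fun z hz g => Subtype.ext (h.Z_comm g.2 ((hZm z).1 hz)).symm
      comm := fun a ha b hb => (hZm _).2 (h.comm_mem ((hMm a).1 ha) ((hMm b).1 hb))
      self := fun a ha hab => (hZm a).2 (mem_ZQ.2 ⟨(hMm a).1 ha, fun q hq =>
        (congrArg Subtype.val (hab ⟨q, h.le hq⟩ ((hMm _).2 hq))).symm⟩)
      pow := fun a ha => (hZm _).2 (by
        have := h.pow_mem ((hMm a).1 ha)
        simpa using this)
      mul_pow := fun a ha b hb => Subtype.ext (by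
        have := h.mul_pow ((hMm a).1 ha) ((hMm b).1 hb)
        simpa using this)
      not_mem := fun hh => hxQ ((hMm _).1 hh)
      xpow := Subtype.ext (by simpa using hxp)
      fix := fun q hq hxq => (hZm q).2 (hC q ((hMm q).1 hq) (congrArg Subtype.val hxq)) }
  obtain ⟨hmp, hp7, hexp⟩ := hsit.final (fun c d hcd => by
    obtain ⟨τ, h1, h2⟩ := hτ c d hcd
    exact ⟨τ, Subtype.ext (by simpa using h1), fun z hz => h2 z ((hZm z).1 hz)⟩)
  rcases Nat.eq_or_lt_of_le hp7 with h7 | h7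
  · left
    have hn' : n = 2 := by omega
    subst hn'
    refine ⟨hn, fun q hq => ?_, ?_⟩
    · have := congrArg Subtype.val (hexp ⟨q, h.le hq⟩)
      simpa using this
    obtain ⟨s, hs, hsc⟩ := hsit.exists_nonuniform
    obtain ⟨y, hy, hy2⟩ := hsit.exists_gen
    have hmc := hsit.mc
    have hy1 : y ∈ chain S 1 := by rw [hsit.one_eq]; exact hy
    have e2 : ⁅s, y⁆ ∈ chain S 2 := hmc.comm_mem' hy1
    have e2' := hsit.comm_notMem hs (i := 1) le_rfl (by omega) hy1 hy2
    have e3 : ⁅s, ⁅s, y⁆⁆ ∈ chain S 3 := hmc.comm_mem' e2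
    have e3' := hsit.comm_notMem hs (i := 2) (by omega) (by omega) e2 e2'
    have e4 : ⁅s, ⁅s, ⁅s, y⁆⁆⁆ ∈ chain S 4 := hmc.comm_mem' e3
    have e4' := hsit.comm_notMem hs (i := 3) (by omega) (by omega) e3 e3'
    refine ⟨s, s.2, fun hh => hs ((hMm s).2 hh), ?_, y, (hMm y).1 hy, _, _, _, rfl, rfl, rfl, ?_, ?_⟩
    · have := congrArg Subtype.val (hexp s)
      simpa using this
    · intro hh
      apply e4'
      have : (⁅s, ⁅s, ⁅s, y⁆⁆⁆ : S) ∈ Z := (hZm _).2 hh
      rw [← hsit.last_eq] at this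
      exact this
    · exact congrArg Subtype.val (hsc _ e4)
  · right
    have h11 : 11 ≤ p := by
      by_contra hcon
      have : p = 8 ∨ p = 9 ∨ p = 10 := by omega
      rcases this with rfl | rfl | rfl <;> norm_num at hpr
    refine ⟨h11, by rw [hS, hmp], hexp, ?_⟩
    rw [hcls, hmp]
    omega

end Cfsg.Agent.H779.PearlFinal
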