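import Cfsg.Agent.H779.MaxPow
import Cfsg.Agent.H449.Lcs

/-!
# The chain of a `p`-group of maximal class

* `gam M` : the chain `⊤, M, γ_2(G), γ_3(G), …`.
* `chain_of_maxClass` : it is a `Chain p n` for a group of order `p ^ n`, `n ≥ 3`, of class `n - 1` and a
  maximal subgroup `M`.
* `unif_of_card` : `x ∉ M` with `|C(x)| ≤ p ^ 2` is uniform.
* `exists_chain` : for `x ∉ G'` with `|C(x)| ≤ p ^ 2` there is such a chain with `x` uniform.
* `rank_le` : every subgroup of a group of maximal class which has `x ∉ G'`, `|C(x)| ≤ p ^ 2`, is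
  generated by at most `p` elements (`p` odd or not).
-/

set_option autoImplicit false

open scoped commutatorElement

namespace Cfsg.Agent.H779.MaxChain

open Cfsg.Agent.H779.MaxPow Cfsg.Agent.Lib.FrattiniPGroup

variable {G : Type*} [Group G]

/-- The chain `⊤, M, γ_2(G), γ_3(G), …`. -/
def gam (M : Subgroup G) (i : ℕ) : Subgroup G :=
  if i = 0 then ⊤ else if i = 1 then M else (⊤ : Subgroup G).lowerCentralSeries (i - 1)

theorem gam_zero (M : Subgroup G) : gam M 0 = ⊤ := by unfold gam; rw [if_pos rfl]

theorem gam_one (M : Subgroup G) : gam M 1 = M := by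
  unfold gam; rw [if_neg (by omega), if_pos rfl]

theorem gam_of {M : Subgroup G} {i : ℕ} (hi : 2 ≤ i) :
    gam M i = (⊤ : Subgroup G).lowerCentralSeries (i - 1) := by
  unfold gam; rw [if_neg (by omega), if_neg (by omega)]

/-- In a noncyclic group the Frattini subgroup has index at least `p ^ 2`. -/
theorem sq_le_index_frattini [Finite G] {p : ℕ} [hp : Fact p.Prime] (hG : IsPGroup p G)
    (hna : ¬ IsMulCommutative G) : p ^ 2 ≤ (frattini G).index := by
  by_contra hcon
  push Not at hcon
  obtain ⟨d, hd⟩ := hG.index (frattini G)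
  rw [hd] at hcon
  have hd1 : d ≤ 1 := by
    have := (Nat.pow_lt_pow_iff_right hp.out.one_lt).1 hcon
    omega
  obtain ⟨T, hT, hTc⟩ := Cfsg.Agent.H508.ThompsonGen.exists_gen_of_index hG (a := 1) (by
    rw [hd]; exact Nat.pow_le_pow_right hp.out.pos hd1)
  apply hna
  have : ∃ t : G, (T : Set G) ⊆ {t} := by
    rcases Finset.card_le_one_iff_subsingleton.1 hT |>.eq_empty_or_singleton with h | ⟨t, h⟩
    · exact ⟨1, by rw [h]; simp⟩
    · exact ⟨t, by rw [h]⟩
  obtain ⟨t, ht⟩ := this
  have h1 : Subgroup.zpowers t = ⊤ := by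
    rw [eq_top_iff, ← hTc, Subgroup.zpowers_eq_closure]
    exact Subgroup.closure_mono ht
  refine ⟨⟨fun a b => ?_⟩⟩
  have ha : a ∈ Subgroup.zpowers t := h1 ▸ Subgroup.mem_top a
  have hb : b ∈ Subgroup.zpowers t := h1 ▸ Subgroup.mem_top b
  obtain ⟨i, rfl⟩ := Subgroup.mem_zpowers_iff.1 ha
  obtain ⟨j, rfl⟩ := Subgroup.mem_zpowers_iff.1 hb
  rw [← zpow_add, ← zpow_add, add_comm]

section maxClass

variable {p n : ℕ}

theorem not_comm_of_maxClass [Finite G] (hn : 3 ≤ n)
    (hc : Group.nilpotencyClass G = n - 1) : ¬ IsMulCommutative G := by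
  intro h
  have h1 : (⊤ : Subgroup G).lowerCentralSeries 1 = ⊥ := by
    rw [Subgroup.top_lowerCentralSeries_one, commutator_def, Subgroup.commutator_eq_bot_iff_le_centralizer]
    intro x _
    rw [Subgroup.mem_centralizer_iff]
    intro y _
    exact h.is_comm.comm y x
  by_cases hnil : Group.IsNilpotent G
  · have h2 := Subgroup.lowerCentralSeries_eq_bot_iff_nilpotencyClass_le.1 h1
    omega
  · exact hnil (Subgroup.nilpotent_iff_lowerCentralSeries.2 ⟨1, h1⟩)

/-- The orders of the terms of the lower central series. -/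
theorem card_lcs [Finite G] [hp : Fact p.Prime] (hG : Nat.card G = p ^ n) (hn : 3 ≤ n)
    (hc : Group.nilpotencyClass G = n - 1) (i : ℕ) (hi : 1 ≤ i) (hin : i + 1 ≤ n) :
    Nat.card ((⊤ : Subgroup G).lowerCentralSeries i) = p ^ (n - 1 - i) := by
  have hpG : IsPGroup p G := IsPGroup.of_card hG
  have hnil : Group.IsNilpotent G := hpG.isNilpotent
  have hna := not_comm_of_maxClass hn hc
  have hbot : ∀ j, n - 1 ≤ j → (⊤ : Subgroup G).lowerCentralSeries j = ⊥ := fun j hj => by
    rw [Subgroup.lowerCentralSeries_eq_bot_iff_nilpotencyClass_le, hc]; exact hj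
  have hne : ∀ j, j < n - 1 → (⊤ : Subgroup G).lowerCentralSeries j ≠ ⊥ := fun j hj h => by
    rw [Subgroup.lowerCentralSeries_eq_bot_iff_nilpotencyClass_le, hc] at h; omega
  have hlt : ∀ j, j < n - 1 → (⊤ : Subgroup G).lowerCentralSeries (j + 1) <
      (⊤ : Subgroup G).lowerCentralSeries j := by
    intro j hj
    refine lt_of_le_of_ne ((⊤ : Subgroup G).lowerCentralSeries_antitone (Nat.le_succ j)) (fun he => ?_)
    have hconst : ∀ k, (⊤ : Subgroup G).lowerCentralSeries (j + k) =
        (⊤ : Subgroup G).lowerCentralSeries j := by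
      intro k
      induction k with
      | zero => rfl
      | succ k ih =>
        rw [← add_assoc, Subgroup.lowerCentralSeries_succ, ih, ← Subgroup.lowerCentralSeries_succ, he]
    have := hconst (n - 1)
    rw [hbot _ (by omega)] at this
    exact hne j hj this.symm
  -- lower bound
  have hlow : ∀ k, k + 1 ≤ n → p ^ k ≤ Nat.card ((⊤ : Subgroup G).lowerCentralSeries (n - 1 - k)) := by
    intro k
    induction k with
    | zero => intro _; rw [pow_zero]; exact Nat.card_pos
    | succ k ih =>
      intro hk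
      have h1 := mul_card_le_of_lt hp.out hpG (hlt (n - 1 - (k + 1)) (by omega))
      rw [show n - 1 - (k + 1) + 1 = n - 1 - k by omega] at h1
      rw [pow_succ']
      exact (Nat.mul_le_mul_left p (ih (by omega))).trans h1
  -- upper bound
  have h1up : Nat.card ((⊤ : Subgroup G).lowerCentralSeries 1) ≤ p ^ (n - 2) := by
    have h1 : (⊤ : Subgroup G).lowerCentralSeries 1 ≤ frattini G := by
      rw [Subgroup.top_lowerCentralSeries_one]
      exact commutator_le_frattini hpG
    have h2 := Subgroup.card_le_of_le h1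
    refine h2.trans ?_
    have h3 := (frattini G).card_mul_index
    have h4 := sq_le_index_frattini hpG hna
    rw [hG, show p ^ n = p ^ (n - 2) * p ^ 2 by rw [← pow_add, Nat.sub_add_cancel (by omega)]] at h3
    have h5 : Nat.card (frattini G) * p ^ 2 ≤ p ^ (n - 2) * p ^ 2 := by
      rw [← h3]; exact Nat.mul_le_mul_left _ h4
    exact Nat.le_of_mul_le_mul_right h5 (pow_pos hp.out.pos 2)
  have hup : ∀ k, k + 2 ≤ n →
      Nat.card ((⊤ : Subgroup G).lowerCentralSeries (1 + k)) ≤ p ^ (n - 2 - k) := by
    intro k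
    induction k with
    | zero => intro _; exact h1up
    | succ k ih =>
      intro hk
      have h1 := mul_card_le_of_lt hp.out hpG (hlt (1 + k) (by omega))
      have h2 := h1.trans (ih (by omega))
      rw [show n - 2 - k = n - 2 - (k + 1) + 1 by omega, pow_succ'] at h2
      exact Nat.le_of_mul_le_mul_left h2 hp.out.pos
  refine le_antisymm ?_ ?_
  · have := hup (i - 1) (by omega)
    rw [show 1 + (i - 1) = i by omega, show n - 2 - (i - 1) = n - 1 - i by omega] at this
    exact this
  · have := hlow (n - 1 - i) (by omega)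
    rw [show n - 1 - (n - 1 - i) = i by omega] at this
    exact this

/-- **The chain of a group of maximal class.** -/
theorem chain_of_maxClass [Finite G] [hp : Fact p.Prime] (hG : Nat.card G = p ^ n) (hn : 3 ≤ n)
    (hc : Group.nilpotencyClass G = n - 1) {M : Subgroup G} (hM : IsCoatom M) :
    Chain p n (gam M) := by
  have hpG : IsPGroup p G := IsPGroup.of_card hG
  have hMn := normal_of_coatom hpG hM
  have hMi := index_of_coatom hpG hM
  have hder : (⊤ : Subgroup G).lowerCentralSeries 1 ≤ M := by
    rw [Subgroup.top_lowerCentralSeries_one]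
    exact (commutator_le_frattini hpG).trans (frattini_le_coatom hM)
  refine ⟨gam_zero M, ?_, ?_, ?_, ?_, ?_, ?_⟩
  · intro i hi
    rcases Nat.lt_or_ge i 2 with h | h
    · interval_cases i
      · rw [gam_zero, Subgroup.card_top, hG, Nat.sub_zero]
      · rw [gam_one]
        have h1 := M.card_mul_index
        rw [hG, hMi, show p ^ n = p ^ (n - 1) * p by rw [← pow_succ, show n - 1 + 1 = n by omega]] at h1
        exact Nat.eq_of_mul_eq_mul_right hp.out.pos h1
    · rw [gam_of h]
      have h1 := card_lcs hG hn hc (i - 1) (by omega) (by omega)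
      rw [h1]
      congr 1
      omega
  · intro i
    rcases Nat.lt_or_ge i 2 with h | h
    · interval_cases i
      · rw [gam_zero]; exact le_top
      · rw [gam_one, gam_of le_rfl]; exact hder
    · rw [gam_of h, gam_of (by omega)]
      exact (⊤ : Subgroup G).lowerCentralSeries_antitone (by omega)
  · intro i
    rcases Nat.lt_or_ge i 2 with h | h
    · interval_cases i
      · rw [gam_zero]; infer_instance
      · rw [gam_one]; exact hMn
    · rw [gam_of h]; infer_instance
  · rw [gam_of le_rfl]; rfl
  · intro i hi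
    rcases Nat.lt_or_ge i 2 with h | h
    · interval_cases i
      rw [gam_one, gam_of (by omega)]
      exact Subgroup.commutator_mono le_rfl le_top
    · rw [gam_of h, gam_of (by omega), Subgroup.commutator_comm]
      rw [show i + 1 - 1 = (i - 1) + 1 by omega, Subgroup.lowerCentralSeries_succ]
  · intro i j hi hj
    rcases Nat.lt_or_ge i 2 with h | h
    · interval_cases i
      rcases Nat.lt_or_ge j 2 with h' | h'
      · interval_cases j
        rw [gam_one, gam_of (by omega)]
        exact Subgroup.commutator_mono le_top le_top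
      · rw [gam_one, gam_of h', gam_of (by omega), Subgroup.commutator_comm]
        rw [show 1 + j - 1 = (j - 1) + 1 by omega, Subgroup.lowerCentralSeries_succ]
        exact Subgroup.commutator_mono le_rfl le_top
    · rcases Nat.lt_or_ge j 2 with h' | h'
      · interval_cases j
        rw [gam_one, gam_of h, gam_of (by omega)]
        rw [show i + 1 - 1 = (i - 1) + 1 by omega, Subgroup.lowerCentralSeries_succ]
        exact Subgroup.commutator_mono le_rfl le_top
      · rw [gam_of h, gam_of h', gam_of (by omega)]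
        refine (Cfsg.Agent.H449.commutator_lcs_le _ (i - 1) (j - 1)).trans (le_of_eq ?_)
        congr 1
        omega

/-- An element outside `Γ 1` with a centralizer of order at most `p ^ 2` is uniform. -/
theorem unif_of_card [Finite G] [hp : Fact p.Prime] {Γ : ℕ → Subgroup G} (h : Chain p n Γ)
    (hn : 2 ≤ n) {x : G} (hx : x ∉ Γ 1) (hC : Nat.card (Subgroup.centralizer {x}) ≤ p ^ 2) :
    Unif n Γ x := by
  refine ⟨hx, fun y hy hxy => ?_⟩
  have hpG := h.isPGroup
  have hle : Γ (n - 1) ≤ Subgroup.centralizer {x} ⊓ Γ 1 := by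
    refine le_inf ?_ (h.mono_le (by omega))
    intro z hz
    rw [Subgroup.mem_centralizer_singleton_iff]
    have h1 := h.comm_mem (i := n - 1) (by omega) x hz
    rw [h.last _ (by omega), Subgroup.mem_bot, commutatorElement_eq_one_iff_mul_comm] at h1
    exact h1.symm
  have hlt : Subgroup.centralizer {x} ⊓ Γ 1 < Subgroup.centralizer {x} := by
    refine lt_of_le_of_ne inf_le_left (fun he => hx ?_)
    have : x ∈ Subgroup.centralizer {x} := Subgroup.mem_centralizer_singleton_iff.2 rfl
    rw [← he] at this
    exact this.2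
  have h1 := (mul_card_le_of_lt hp.out hpG hlt).trans hC
  rw [pow_two] at h1
  have h2 := Nat.le_of_mul_le_mul_left h1 hp.out.pos
  have h3 : Γ (n - 1) = Subgroup.centralizer {x} ⊓ Γ 1 := by
    refine Subgroup.eq_of_le_of_card_ge hle ?_
    rw [h.card (n - 1) (by omega), show n - (n - 1) = 1 by omega, pow_one]
    exact h2
  rw [h3]
  exact ⟨Subgroup.mem_centralizer_singleton_iff.2 hxy.symm, hy⟩

/-- For an element `x` outside `G'` there is a maximal subgroup not containing it. -/
theorem exists_coatom [Finite G] [hp : Fact p.Prime] (hG : Nat.card G = p ^ n) (hn : 3 ≤ n)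
    (hc : Group.nilpotencyClass G = n - 1) {x : G} (hx : x ∉ (⊤ : Subgroup G).lowerCentralSeries 1) :
    ∃ M : Subgroup G, IsCoatom M ∧ x ∉ M := by
  have hpG : IsPGroup p G := IsPGroup.of_card hG
  have h1 : (⊤ : Subgroup G).lowerCentralSeries 1 = frattini G := by
    refine Subgroup.eq_of_le_of_card_ge ?_ ?_
    · rw [Subgroup.top_lowerCentralSeries_one]
      exact commutator_le_frattini hpG
    · rw [card_lcs hG hn hc 1 le_rfl (by omega)]
      have h3 := (frattini G).card_mul_index
      have h4 := sq_le_index_frattini hpG (not_comm_of_maxClass hn hc)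
      rw [hG, show p ^ n = p ^ (n - 1 - 1) * p ^ 2 by rw [← pow_add]; congr 1; omega] at h3
      have h5 : Nat.card (frattini G) * p ^ 2 ≤ p ^ (n - 1 - 1) * p ^ 2 := by
        rw [← h3]; exact Nat.mul_le_mul_left _ h4
      exact Nat.le_of_mul_le_mul_right h5 (pow_pos hp.out.pos 2)
  by_contra hcon
  push Not at hcon
  apply hx
  rw [h1, frattini, Order.radical]
  simp only [Subgroup.mem_iInf, Set.mem_ofPred_eq]
  intro M hM
  exact hcon M hM

/-- A chain for which `x` is uniform. -/
theorem exists_chain [Finite G] [hp : Fact p.Prime] (hG : Nat.card G = p ^ n) (hn : 3 ≤ n)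
    (hc : Group.nilpotencyClass G = n - 1) {x : G} (hx : x ∉ (⊤ : Subgroup G).lowerCentralSeries 1)
    (hC : Nat.card (Subgroup.centralizer {x}) ≤ p ^ 2) :
    ∃ M : Subgroup G, IsCoatom M ∧ Chain p n (gam M) ∧ Unif n (gam M) x := by
  obtain ⟨M, hM, hxM⟩ := exists_coatom hG hn hc hx
  have h := chain_of_maxClass hG hn hc hM
  exact ⟨M, hM, h, unif_of_card h (by omega) (by rwa [gam_one]) hC⟩

/-- **The rank bound**. -/
theorem rank_le [Finite G] [hp : Fact p.Prime] (hG : Nat.card G = p ^ n) (hn : 3 ≤ n)
    (hc : Group.nilpotencyClass G = n - 1) {x : G} (hx : x ∉ (⊤ : Subgroup G).lowerCentralSeries 1)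
    (hC : Nat.card (Subgroup.centralizer {x}) ≤ p ^ 2) (H : Subgroup G) :
    ∃ T : Finset G, T.card ≤ p ∧ Subgroup.closure (T : Set G) = H := by
  classical
  obtain ⟨M, hM, h, hu⟩ := exists_chain hG hn hc hx hC
  by_cases hH : H = ⊤
  · -- `G` is generated by two elements
    have hpG : IsPGroup p G := IsPGroup.of_card hG
    have h1 : (⊤ : Subgroup G).lowerCentralSeries 1 ≤ frattini G := by
      rw [Subgroup.top_lowerCentralSeries_one]
      exact commutator_le_frattini hpG
    have h2 : (frattini G).index ≤ p ^ 2 := by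
      have h3 := (frattini G).card_mul_index
      have h4 := Subgroup.card_le_of_le h1
      rw [card_lcs hG hn hc 1 le_rfl (by omega)] at h4
      rw [hG, show p ^ n = p ^ (n - 1 - 1) * p ^ 2 by rw [← pow_add]; congr 1; omega] at h3
      have h5 : p ^ (n - 1 - 1) * (frattini G).index ≤ p ^ (n - 1 - 1) * p ^ 2 := by
        rw [← h3]; exact Nat.mul_le_mul_right _ h4
      exact Nat.le_of_mul_le_mul_left h5 (pow_pos hp.out.pos _)
    obtain ⟨T, hT, hTc⟩ := Cfsg.Agent.H508.ThompsonGen.exists_gen_of_index hpG h2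
    exact ⟨T, hT.trans hp.out.two_le, by rw [hTc, hH]⟩
  · exact exists_gen h (by omega) hu H hH

end maxClass

end Cfsg.Agent.H779.MaxChain
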