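import Cfsg.Agent.H779.MaxChain
import Cfsg.Agent.H467.MaxClassUniform
import Cfsg.Agent.H467.UnifFusion

/-!
# `3`-groups of maximal class of order at least `3 ^ 5`

* `comm_one` : `⁅W (n - 2), W 1⁆ = 1` (there are no exceptional `3`-groups of maximal class of order
  at least `3 ^ 5`).
* `cube_mem` : `g ^ 3 ∈ W 3`, `g ^ 3 ∉ W 4` for `g ∈ W 1`, `g ∉ W 2`.
* `two_gen` : **every subgroup of a `3`-group of maximal class of order at least `3 ^ 5` is generated by
  at most two elements**.
-/

set_option autoImplicit false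

open scoped commutatorElement

namespace Cfsg.Agent.H779.MaxThree

open Cfsg.Agent.H779.MaxPow Cfsg.Agent.H779.MaxChain Cfsg.Agent.H467.MaxClass
open Cfsg.Agent.Lib.FrattiniPGroup

universe u

variable {G : Type u} [Group G] [Finite G] {n : ℕ}

/-- The number three. -/
abbrev three : ℕ := 3

instance fact_three : Fact (Nat.Prime 3) := ⟨Nat.prime_three⟩

theorem gam_twoStep : gam (twoStep G) = chain G := by
  funext i
  unfold gam chain
  rfl

theorem twoStep_coatom (hG : Nat.card G = 3 ^ n) (hc : Group.nilpotencyClass G = n - 1) (hn : 4 ≤ n) :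
    IsCoatom (twoStep G) := by
  have h1 : (twoStep G).index = 3 := twoStep_index (p := 3) hG hc hn
  refine ⟨fun h => ?_, fun K hK => ?_⟩
  · rw [h, Subgroup.index_top] at h1; omega
  · have h2 := Subgroup.relIndex_mul_index hK.le
    rw [h1] at h2
    have h3 : K.index ∣ 3 := ⟨_, by rw [← h2, mul_comm]⟩
    rcases (Nat.dvd_prime Nat.prime_three).1 h3 with h4 | h4
    · exact Subgroup.index_eq_one.1 h4
    · exfalso
      rw [h4] at h2
      have h5 : (twoStep G).relIndex K = 1 := by omega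
      exact hK.not_ge (Subgroup.relIndex_eq_one.1 h5)

/-- The chain. -/
theorem exists_both (hG : Nat.card G = 3 ^ n) (hc : Group.nilpotencyClass G = n - 1) (hn : 4 ≤ n) :
    MC G 3 n (chain G) ∧ Chain 3 n (chain G) := by
  refine ⟨chain_mc hG hc hn, ?_⟩
  rw [← gam_twoStep]
  exact chain_of_maxClass hG (by omega) hc (twoStep_coatom hG hc hn)

variable {W : ℕ → Subgroup G}

/-- No `3`-group of maximal class of order at least `3 ^ 5` is exceptional. -/
theorem le_Ksub (h : MC G 3 n W) (hC : Chain 3 n W) (hn : 5 ≤ n) : W 1 ≤ h.Ksub (n - 2) := by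
  have hW1 : W 1 ≠ ⊤ := by
    intro htop
    have := h.W1_index
    rw [htop, Subgroup.index_top] at this
    omega
  rcases Nat.lt_or_ge n 6 with hn6 | hn6
  · -- `n = 5`
    have h5 : n = 5 := by omega
    subst h5
    show W 1 ≤ h.Ksub 3
    have hK1 : h.Ksub 1 = W 1 := by
      refine h.eq_W1 ?_ (h.Ksub_ne_top' le_rfl (by omega))
      intro x hx w hw
      exact h.comm_self hw hx
    have hK2 : h.Ksub 2 = W 1 := by
      refine h.eq_W1 ?_ (h.Ksub_ne_top' (by omega) (by omega))
      intro x hx w hw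
      exact h.two (Subgroup.commutator_mem_commutator hw hx)
    obtain ⟨a, ha, ha'⟩ := h.ne_succ (i := 1) (by omega)
    obtain ⟨s, -, hs⟩ := h.ne_succ (i := 0) (by omega)
    rw [zero_add] at hs
    have h2 : ⁅a, s⁆ ∈ W 2 := h.comm_mem ha
    have h2' : ⁅a, s⁆ ∉ W 3 := by
      intro hmem
      apply hs
      rw [← hK1]
      exact (h.mem_K_iff (by omega) ha ha' s).2 hmem
    have h3 : ⁅⁅a, s⁆, s⁆ ∈ W 3 := h.comm_mem h2
    have h3' : ⁅⁅a, s⁆, s⁆ ∉ W 4 := by
      intro hmem
      apply hs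
      rw [← hK2]
      exact (h.mem_K_iff (by omega) h2 h2' s).2 hmem
    have hd := h.deriv (i := 1) (j := 2) le_rfl (by omega) ha h2 s
    rw [show 1 + 2 + 2 = 5 from rfl, h.bot, Subgroup.mem_bot, commutatorElement_self, one_mul] at hd
    have h4 : ⁅a, ⁅a, s⁆⁆ ∈ W 4 := by
      have := h.two (Subgroup.commutator_mem_commutator h2 ha)
      rw [← commutatorElement_inv]
      exact inv_mem this
    have h5 : ⁅⁅a, ⁅a, s⁆⁆, s⁆ = 1 := by
      rw [← Subgroup.mem_bot, ← h.bot]
      exact h.comm_mem h4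
    rw [h5, inv_one, one_mul] at hd
    have haK : a ∈ h.Ksub 3 := by
      refine (h.mem_K_iff (by omega) h3 h3' a).2 ?_
      rw [← commutatorElement_inv, hd, inv_one]
      exact one_mem _
    intro b hb
    obtain ⟨k, hk⟩ := h.exists_zpow (i := 1) (by omega) ha ha' hb
    have e : b = a ^ k * ((a ^ k)⁻¹ * b) := by group
    rw [e]
    exact mul_mem (zpow_mem haK k) (h.W2_le_Ksub 3 hk)
  · -- a uniform element
    obtain ⟨x, hx1, hx2, -⟩ := exists_notMem_three (P := G) (p := 3) le_rfl h.card_group (W 1)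
      (h.Ksub (n - 2)) (W 1) hW1 (h.Ksub_ne_top' (by omega) (by omega)) hW1
    have hxc := h.card_centralizer_of_notMem hx1 (fun i hi hi' => h.notMem_Ksub le_rfl hx1 hx2 i hi hi')
    have hx : Unif n W x := unif_of_card hC (by omega) hx1 hxc.le
    obtain ⟨y, hy, hy'⟩ := h.ne_succ (i := n - 4) (by omega)
    rw [show n - 4 + 1 = n - 3 by omega] at hy'
    have hy3 : y ^ 3 ∈ W (n - 2) := by
      have := pow_mem hC (by omega) hx (i := n - 4) (by omega) hy
      rwa [show n - 4 + 3 - 1 = n - 2 by omega] at this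
    have hy3' : y ^ 3 ∉ W (n - 1) := by
      have := pow_not_mem hC (by omega) hx (i := n - 4) (by omega) (by omega) hy
        (by rwa [show n - 4 + 1 = n - 3 by omega])
      rwa [show n - 4 + 3 = n - 1 by omega] at this
    intro w hw
    refine (h.mem_K_iff (i := n - 2) (by omega) hy3 (by rwa [show n - 2 + 1 = n - 1 by omega]) w).2 ?_
    have hc : ⁅w, y⁆ ∈ W (n - 2) := by
      have := h.blackburn le_rfl (n - 4) (by omega) (by omega)
        (Subgroup.commutator_mem_commutator hy hw)
      rw [show n - 4 + 2 = n - 2 by omega] at this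
      rw [← commutatorElement_inv]
      exact inv_mem this
    have hcy : Commute ⁅w, y⁆ y := by
      rw [← commutatorElement_eq_one_iff_commute, ← Subgroup.mem_bot, ← h.bot_of_le (i := n - 2 + (n - 4))
        (by omega)]
      exact h.comm_comm_mem hc hy
    have hc3 : ⁅w, y⁆ ^ 3 = 1 := by
      have := pow_mem hC (by omega) hx (i := n - 2) (by omega) hc
      rwa [h.bot_of_le (by omega), Subgroup.mem_bot] at this
    have h1 : w * y ^ 3 * w⁻¹ = y ^ 3 := by
      rw [← conj_pow]
      have : w * y * w⁻¹ = ⁅w, y⁆ * y := by rw [commutatorElement_def]; group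
      rw [this, hcy.mul_pow, hc3, one_mul]
    have h2 : ⁅y ^ 3, w⁆ = 1 := by
      rw [commutatorElement_eq_one_iff_mul_comm]
      exact (mul_inv_eq_iff_eq_mul.1 h1).symm
    rw [h2]
    exact one_mem _

/-- All elements outside `W 1` have centralizers of order `9`. -/
theorem card_centralizer (h : MC G 3 n W) (hC : Chain 3 n W) (hn : 5 ≤ n) {x : G} (hx : x ∉ W 1) :
    Nat.card (Subgroup.centralizer {x}) = 3 ^ 2 := by
  have h1 : h.Ksub (n - 2) = W 1 :=
    h.eq_W1 (le_Ksub h hC hn) (h.Ksub_ne_top' (by omega) (by omega))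
  exact h.card_centralizer_of_notMem hx (fun i hi hi' => h.notMem_Ksub le_rfl hx (by rwa [h1]) i hi hi')

theorem unif (h : MC G 3 n W) (hC : Chain 3 n W) (hn : 5 ≤ n) {x : G} (hx : x ∉ W 1) :
    Unif n W x := unif_of_card hC (by omega) hx (card_centralizer h hC hn hx).le

/-- Cubes of the elements of `W 1`. -/
theorem cube_mem (h : MC G 3 n W) (hC : Chain 3 n W) (hn : 5 ≤ n) {g : G} (hg : g ∈ W 1)
    (hg' : g ∉ W 2) : g ^ 3 ∈ W 3 ∧ g ^ 3 ∉ W 4 := by
  obtain ⟨x, -, hx⟩ := h.ne_succ (i := 0) (by omega)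
  rw [zero_add] at hx
  have hxu := unif h hC hn hx
  have hxg : x * g ∉ W 1 := fun hmem => hx ((Subgroup.mul_mem_cancel_right _ hg).1 hmem)
  have hxgu := unif h hC hn hxg
  have hx3 : x ^ 3 ∈ W 4 := h.antitone (by omega) (hxu.pow_mem_last hC (by omega))
  have hxg3 : (x * g) ^ 3 ∈ W 4 := h.antitone (by omega) (hxgu.pow_mem_last hC (by omega))
  set u := ⁅x⁻¹, g⁆ with hu
  set v := ⁅x⁻¹, u⁆ with hv
  have hu2 : u ∈ W 2 := hC.comm_mem le_rfl _ hg
  have hv3 : v ∈ W 3 := hC.comm_mem (by omega) _ hu2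
  have hv4 : v ∉ W 4 := by
    have := ads_not_mem hC hxu 2 1 g le_rfl (by omega) hg hg'
    exact this
  have hu3 : u ^ 3 ∈ W 4 := pow_mem hC (by omega) hxu (i := 2) le_rfl hu2
  have hn4 := h.normal 4
  set q : G →* G ⧸ W 4 := QuotientGroup.mk' _ with hq
  have hq1 : ∀ a ∈ W 4, q a = 1 := fun a ha => (QuotientGroup.eq_one_iff a).2 ha
  have hq1' : ∀ a, q a = 1 → a ∈ W 4 := fun a ha => (QuotientGroup.eq_one_iff a).1 ha
  have h21 : ∀ a ∈ W 2, ∀ b ∈ W 1, Commute (q a) (q b) := by
    intro a ha b hb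
    rw [← commutatorElement_eq_one_iff_commute, ← map_commutatorElement]
    exact hq1 _ (h.two (Subgroup.commutator_mem_commutator ha hb))
  have cvu : Commute (q v) (q u) := h21 v (h.le_succ 2 hv3) u (h.le_succ 1 hu2)
  have cug : Commute (q u) (q g) := h21 u hu2 g hg
  have e : (x * g) ^ 3 = x ^ 3 * (v * u * u * g) * (u * g) * g := by
    rw [hv, hu]
    simp only [commutatorElement_def, pow_succ, pow_zero, one_mul]
    group
  have e2 : q v * q g ^ 3 = 1 := by
    have e3 : q ((x * g) ^ 3) = 1 := hq1 _ hxg3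
    rw [e] at e3
    simp only [map_mul] at e3
    rw [hq1 _ hx3, one_mul] at e3
    have e4 : q v * q u * q u * q g * (q u * q g) * q g = q v * q u ^ 3 * q g ^ 3 := by
      have : q g * q u = q u * q g := cug.eq.symm
      calc q v * q u * q u * q g * (q u * q g) * q g
          = q v * q u * q u * (q g * q u) * q g * q g := by group
        _ = q v * q u * q u * (q u * q g) * q g * q g := by rw [this]
        _ = q v * q u ^ 3 * q g ^ 3 := by simp only [pow_succ, pow_zero, one_mul, mul_assoc]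
    rw [e4, ← map_pow, hq1 _ hu3, mul_one] at e3
    exact e3
  have e5 : v * g ^ 3 ∈ W 4 := by
    apply hq1'
    rw [map_mul, map_pow, e2]
  constructor
  · have : v * g ^ 3 ∈ W 3 := h.le_succ 3 e5
    exact (Subgroup.mul_mem_cancel_left _ hv3).1 this
  · intro hmem
    exact hv4 ((Subgroup.mul_mem_cancel_right _ hmem).1 e5)

/-- **The subgroups of the `3`-groups of maximal class of order at least `3 ^ 5`.** -/
theorem two_gen (hG : Nat.card G = 3 ^ n) (hc : Group.nilpotencyClass G = n - 1) (hn : 5 ≤ n)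
    (H : Subgroup G) : ∃ T : Finset G, T.card ≤ 2 ∧ Subgroup.closure (T : Set G) = H := by
  classical
  obtain ⟨h, hC⟩ := exists_both hG hc (by omega)
  have hpG : IsPGroup 3 G := IsPGroup.of_card hG
  have hpH := hpG.to_subgroup H
  suffices h1 : (frattini H).index ≤ 3 ^ 2 by
    obtain ⟨T, hT, hTc⟩ := Cfsg.Agent.H508.ThompsonGen.exists_gen_of_index hpH h1
    refine ⟨T.image H.subtype, Finset.card_image_le.trans hT, ?_⟩
    rw [Finset.coe_image, ← MonoidHom.map_closure, hTc, ← MonoidHom.range_eq_map,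
      Subgroup.range_subtype]
  by_cases hH1 : H ≤ chain G 1
  · set U : Subgroup G := (frattini H).map H.subtype with hU
    have hUp : ∀ k ∈ H, k ^ 3 ∈ U := fun k hk =>
      ⟨(⟨k, hk⟩ : H) ^ 3, pow_mem_frattini hpH _, rfl⟩
    have h2 : Nat.card U = Nat.card (frattini H) :=
      Nat.card_congr ((frattini H).equivMapOfInjective _ H.subtype_injective).symm.toEquiv
    suffices h3 : Nat.card H ≤ 3 ^ 2 * Nat.card U by
      rw [h2, ← (frattini H).card_mul_index, mul_comm] at h3
      exact Nat.le_of_mul_le_mul_right h3 Nat.card_pos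
    obtain ⟨x, -, hx⟩ := h.ne_succ (i := 0) (by omega)
    rw [zero_add] at hx
    have hxu := unif h hC hn hx
    by_cases hH2 : H ≤ chain G 2
    · exact card_le_of_le_two hC (by omega) hxu H U hH2 hUp
    · obtain ⟨g, hg, hg'⟩ := SetLike.not_le_iff_exists.1 hH2
      obtain ⟨hg3, hg4⟩ := cube_mem h hC hn (hH1 hg) hg'
      have h4 : Nat.card H ≤ 3 * Nat.card (H ⊓ chain G 2 : Subgroup G) := by
        have := card_inf_le Nat.prime_three hC H (i := 1) (by omega)
        rwa [inf_eq_left.2 hH1] at this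
      have h5 := card_inf_le_of hC (by omega) hxu H U hUp (n - 4) 2 le_rfl (by omega)
      have h6 : 3 * Nat.card (U ⊓ chain G 4 : Subgroup G) ≤ Nat.card (U ⊓ chain G 3 : Subgroup G) := by
        refine mul_card_le_of_lt Nat.prime_three hpG (lt_of_le_of_ne ?_ (fun he => ?_))
        · exact inf_le_inf le_rfl (h.le_succ 3)
        · have h7 : g ^ 3 ∈ U ⊓ chain G 3 := ⟨hUp g hg, hg3⟩
          rw [← he] at h7
          exact hg4 h7.2
      have h8 : Nat.card (U ⊓ chain G 3 : Subgroup G) ≤ Nat.card U :=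
        Subgroup.card_le_of_le inf_le_left
      have h9 : Nat.card (H ⊓ chain G 2 : Subgroup G) ≤
          3 ^ (3 - 1) * Nat.card (U ⊓ chain G 4 : Subgroup G) := h5
      calc Nat.card H ≤ 3 * Nat.card (H ⊓ chain G 2 : Subgroup G) := h4
        _ ≤ 3 * (3 ^ (3 - 1) * Nat.card (U ⊓ chain G 4 : Subgroup G)) := Nat.mul_le_mul_left _ h9
        _ = 3 ^ 2 * (3 * Nat.card (U ⊓ chain G 4 : Subgroup G)) := by ring
        _ ≤ 3 ^ 2 * Nat.card U := Nat.mul_le_mul_left _ (h6.trans h8)
  · obtain ⟨u, hu, hu'⟩ := SetLike.not_le_iff_exists.1 hH1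
    have h1 : Nat.card (Subgroup.centralizer ({(⟨u, hu⟩ : H)} : Set H)) ≤ 3 ^ 2 := by
      rw [← card_centralizer h hC hn hu']
      refine Nat.card_le_card_of_injective
        (fun y : Subgroup.centralizer ({(⟨u, hu⟩ : H)} : Set H) =>
          (⟨((y : H) : G), ?_⟩ : Subgroup.centralizer ({u} : Set G))) ?_
      · rw [Subgroup.mem_centralizer_singleton_iff]
        have := Subgroup.mem_centralizer_singleton_iff.1 y.2
        exact congrArg (fun t : H => (t : G)) this
      · intro y z hyz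
        have := congrArg (fun t : Subgroup.centralizer ({u} : Set G) => (t : G)) hyz
        exact Subtype.ext (Subtype.ext this)
    have h2 := Cfsg.Agent.H467.UnifFusion.index_commutator_le _ h1
    exact (Nat.le_of_dvd (Nat.pos_of_ne_zero Subgroup.index_ne_zero_of_finite)
      (Subgroup.index_dvd_of_le (commutator_le_frattini hpH))).trans h2

end Cfsg.Agent.H779.MaxThree
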