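import Cfsg.Agent.H779.MaxChain
import Cfsg.Agent.S4143

/-!
# Uniform elements from self-centralizing subgroups

In a finite `p`-group `X` of maximal class of order `p ^ n`, `n ≥ 4`:
* `exists_unif_sq` : a subgroup `A` of order `p ^ 2` with `C_X(A) = A` has an element `x ∉ X'` with
  `|C_X(x)| ≤ p ^ 2`;
* `exists_unif_cube` : the same for a nonabelian subgroup `B` of order `p ^ 3` with `C_X(B) ≤ B`.
-/

set_option autoImplicit false

open scoped commutatorElement

namespace Cfsg.Agent.H779.SelfCent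

open Cfsg.Agent.H779.MaxPow Cfsg.Agent.H779.MaxChain

variable {X : Type*} [Group X]

/-- If `[g, x] ∈ L` for all `g` then `|X| ≤ |L| |C(x)|`. -/
theorem card_le_mul_centralizer [Finite X] (x : X) (L : Subgroup X) (h : ∀ g : X, ⁅g, x⁆ ∈ L) :
    Nat.card X ≤ Nat.card L * Nat.card (Subgroup.centralizer {x}) := by
  let f : X ⧸ (Subgroup.centralizer {x} : Subgroup X) → L :=
    Quotient.lift (fun g : X => (⟨⁅g, x⁆, h g⟩ : L)) (by
      intro a b hab
      have hab' : a⁻¹ * b ∈ Subgroup.centralizer {x} := QuotientGroup.leftRel_apply.mp hab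
      rw [Subgroup.mem_centralizer_singleton_iff] at hab'
      apply Subtype.ext
      simp only [commutatorElement_def]
      have h1 : b * x * b⁻¹ = a * x * a⁻¹ := by
        calc b * x * b⁻¹ = a * (a⁻¹ * b * x) * b⁻¹ := by group
          _ = a * (x * (a⁻¹ * b)) * b⁻¹ := by rw [hab']
          _ = a * x * a⁻¹ := by group
      rw [h1])
  have hf : Function.Injective f := by
    intro a b
    induction a using QuotientGroup.induction_on with | _ a => ?_
    induction b using QuotientGroup.induction_on with | _ b => ?_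
    intro hab
    have h1 : ⁅a, x⁆ = ⁅b, x⁆ := congrArg (fun z : L => (z : X)) hab
    simp only [commutatorElement_def, mul_left_inj] at h1
    rw [QuotientGroup.eq, Subgroup.mem_centralizer_singleton_iff]
    calc a⁻¹ * b * x = a⁻¹ * (b * x * b⁻¹) * b := by group
      _ = a⁻¹ * (a * x * a⁻¹) * b := by rw [h1]
      _ = x * (a⁻¹ * b) := by group
  have h1 := Nat.card_le_card_of_injective f hf
  rw [← (Subgroup.centralizer {x} : Subgroup X).card_mul_index, mul_comm]
  exact Nat.mul_le_mul_right _ h1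

variable {p n : ℕ}

/-- The commutators of `Γ 2` with `Γ (n - 2)` vanish. -/
theorem comm_two {Γ : ℕ → Subgroup X} (h : Chain p n Γ) (hn : 3 ≤ n)
    {a b : X} (ha : a ∈ Γ 2) (hb : b ∈ Γ (n - 2)) : a * b = b * a := by
  have h1 := h.comm 2 (n - 2) (by omega) (by omega) (Subgroup.commutator_mem_commutator ha hb)
  rw [h.last _ (by omega), Subgroup.mem_bot, commutatorElement_eq_one_iff_mul_comm] at h1
  exact h1

theorem comm_last {Γ : ℕ → Subgroup X} (h : Chain p n Γ) (hn : 2 ≤ n)
    (g : X) {z : X} (hz : z ∈ Γ (n - 1)) : g * z = z * g := by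
  have h1 := h.comm_mem (i := n - 1) (by omega) g hz
  rw [h.last _ (by omega), Subgroup.mem_bot, commutatorElement_eq_one_iff_mul_comm] at h1
  exact h1

theorem exists_any_chain [hp : Fact p.Prime] [Finite X] (hX : Nat.card X = p ^ n) (hn : 3 ≤ n)
    (hc : Group.nilpotencyClass X = n - 1) : ∃ M : Subgroup X, IsCoatom M ∧ Chain p n (gam M) := by
  have hnt : Nontrivial X := by
    rw [← Finite.one_lt_card_iff_nontrivial, hX]
    exact Nat.one_lt_pow (by omega) hp.out.one_lt
  obtain ⟨M, hM⟩ : ∃ M : Subgroup X, IsCoatom M := by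
    rcases eq_top_or_exists_le_coatom (⊥ : Subgroup X) with h | ⟨M, hM, -⟩
    · exact absurd h bot_ne_top
    · exact ⟨M, hM⟩
  exact ⟨M, hM, chain_of_maxClass hX hn hc hM⟩

/-- **Self-centralizing subgroups of order `p ^ 2`.** -/
theorem exists_unif_sq [hp : Fact p.Prime] [Finite X] (hX : Nat.card X = p ^ n) (hn : 4 ≤ n)
    (hc : Group.nilpotencyClass X = n - 1) (A : Subgroup X) (hA : Nat.card A = p ^ 2)
    (hC : Subgroup.centralizer (A : Set X) = A) :
    ∃ x ∈ A, x ∉ (⊤ : Subgroup X).lowerCentralSeries 1 ∧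
      Nat.card (Subgroup.centralizer {x}) ≤ p ^ 2 := by
  obtain ⟨M, hM, h⟩ := exists_any_chain hX (by omega) hc
  have hpX := h.isPGroup
  have hlcs : (⊤ : Subgroup X).lowerCentralSeries 1 = gam M 2 := by rw [gam_of le_rfl]
  rw [hlcs]
  -- `Γ (n - 1) < A`
  have hZA : gam M (n - 1) ≤ A := by
    rw [← hC]
    intro z hz
    rw [Subgroup.mem_centralizer_iff]
    intro a _
    exact comm_last h (by omega) a hz
  have hZc : Nat.card (gam M (n - 1)) = p := by
    rw [h.card _ (by omega), show n - (n - 1) = 1 by omega, pow_one]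
  -- centralizers of elements of `A` outside `Γ (n - 1)`
  have hcent : ∀ x ∈ A, x ∉ gam M (n - 1) → Subgroup.centralizer {x} ≤ A := by
    intro x hx hxZ c hcx
    rw [← hC]
    have h1 : A ≤ Subgroup.centralizer {c} := by
      have h2 : gam M (n - 1) < A ⊓ Subgroup.centralizer {c} := by
        refine lt_of_le_of_ne (le_inf hZA ?_) (fun he => hxZ ?_)
        · intro z hz
          rw [Subgroup.mem_centralizer_singleton_iff]
          exact (comm_last h (by omega) c hz).symm
        · rw [he]
          exact ⟨hx, Subgroup.mem_centralizer_singleton_iff.2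
            (Subgroup.mem_centralizer_singleton_iff.1 hcx).symm⟩
      have h3 := mul_card_le_of_lt hp.out hpX h2
      rw [hZc, ← pow_two, ← hA] at h3
      have h4 := Subgroup.eq_of_le_of_card_ge (inf_le_left : A ⊓ Subgroup.centralizer {c} ≤ A) h3
      rw [← h4]
      exact inf_le_right
    rw [Subgroup.mem_centralizer_iff]
    intro a ha
    exact (Subgroup.mem_centralizer_singleton_iff.1 (h1 ha))
  have hAn : ¬ A ≤ gam M 2 := by
    intro hA2
    -- `Γ (n - 2) = A`
    have h1 : gam M (n - 2) ≤ A := by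
      rw [← hC]
      intro w hw
      rw [Subgroup.mem_centralizer_iff]
      intro a ha
      exact comm_two h (by omega) (hA2 ha) hw
    have h2 : gam M (n - 2) = A := by
      refine Subgroup.eq_of_le_of_card_ge h1 ?_
      rw [hA, h.card _ (by omega), show n - (n - 2) = 2 by omega]
    obtain ⟨x, hx, hxZ⟩ : ∃ x ∈ A, x ∉ gam M (n - 1) := by
      by_contra hcon
      push Not at hcon
      have h3 := Subgroup.card_le_of_le (show A ≤ gam M (n - 1) from hcon)
      rw [hA, hZc] at h3
      have := hp.out.one_lt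
      nlinarith
    have h3 := card_le_mul_centralizer x (gam M (n - 1)) (fun g => by
      have h4 := h.comm_mem (i := n - 2) (by omega) g (h2 ▸ hx)
      rwa [show n - 2 + 1 = n - 1 by omega] at h4)
    have h4 := Subgroup.card_le_of_le (hcent x hx hxZ)
    rw [hA] at h4
    rw [hZc, hX] at h3
    have h5 : p ^ n ≤ p ^ 3 := h3.trans (by rw [pow_succ']; exact Nat.mul_le_mul_left p h4)
    have := (Nat.pow_le_pow_iff_right hp.out.one_lt).1 h5
    omega
  obtain ⟨x, hx, hx2⟩ := SetLike.not_le_iff_exists.1 hAn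
  refine ⟨x, hx, hx2, ?_⟩
  rw [← hA]
  exact Subgroup.card_le_of_le (hcent x hx (fun h1 => hx2 (h.mono_le (by omega) h1)))

/-- **Self-centralizing nonabelian subgroups of order `p ^ 3`.** -/
theorem exists_unif_cube [hp : Fact p.Prime] [Finite X] (hX : Nat.card X = p ^ n) (hn : 4 ≤ n)
    (hc : Group.nilpotencyClass X = n - 1) (B : Subgroup X) (hB : Nat.card B = p ^ 3)
    (hna : ¬ IsMulCommutative B) (hC : Subgroup.centralizer (B : Set X) ≤ B) :
    ∃ x ∈ B, x ∉ (⊤ : Subgroup X).lowerCentralSeries 1 ∧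
      Nat.card (Subgroup.centralizer {x}) ≤ p ^ 2 := by
  classical
  obtain ⟨M, hM, h⟩ := exists_any_chain hX (by omega) hc
  have hpX := h.isPGroup
  have hlcs : (⊤ : Subgroup X).lowerCentralSeries 1 = gam M 2 := by rw [gam_of le_rfl]
  rw [hlcs]
  have hZB : gam M (n - 1) ≤ B := by
    refine le_trans ?_ hC
    intro z hz
    rw [Subgroup.mem_centralizer_iff]
    intro a _
    exact comm_last h (by omega) a hz
  have hZc : Nat.card (gam M (n - 1)) = p := by
    rw [h.card _ (by omega), show n - (n - 1) = 1 by omega, pow_one]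
  -- the centre of `B` is `Γ (n - 1)`
  have hcenB : ∀ z ∈ B, (∀ b ∈ B, b * z = z * b) → z ∈ gam M (n - 1) := by
    have h1 : (gam M (n - 1)).subgroupOf B = Subgroup.center B := by
      refine Subgroup.eq_of_le_of_card_ge ?_ ?_
      · intro z hz
        rw [Subgroup.mem_subgroupOf] at hz
        rw [Subgroup.mem_center_iff]
        intro b
        exact Subtype.ext (comm_last h (by omega) b hz)
      · rw [Cfsg.Agent.S4143.card_center hB hna,
          Nat.card_congr (Subgroup.subgroupOfEquivOfLe hZB).toEquiv, hZc]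
    intro z hz hzb
    have h2 : (⟨z, hz⟩ : B) ∈ Subgroup.center B := by
      rw [Subgroup.mem_center_iff]
      intro b
      exact Subtype.ext (hzb b b.2)
    rw [← h1] at h2
    exact h2
  have hder : ∀ a ∈ B, ∀ b ∈ B, ⁅a, b⁆ ∈ gam M (n - 1) := by
    have h1 : Nat.card (B ⧸ Subgroup.center B) = p ^ 2 := by
      have h2 := Subgroup.card_eq_card_quotient_mul_card_subgroup (Subgroup.center B)
      rw [hB, Cfsg.Agent.S4143.card_center hB hna, pow_succ] at h2
      exact (Nat.eq_of_mul_eq_mul_right hp.out.pos h2).symm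
    have h2 := IsPGroup.isMulCommutative_of_card_eq_prime_sq h1
    intro a ha b hb
    have h3 : (⁅(⟨a, ha⟩ : B), (⟨b, hb⟩ : B)⁆) ∈ Subgroup.center B := by
      rw [← QuotientGroup.eq_one_iff]
      show (QuotientGroup.mk' (Subgroup.center B)) ⁅_, _⁆ = 1
      rw [map_commutatorElement, commutatorElement_eq_one_iff_mul_comm]
      exact h2.is_comm.comm _ _
    refine hcenB _ (⁅(⟨a, ha⟩ : B), (⟨b, hb⟩ : B)⁆).2 (fun c hcB => ?_)
    exact congrArg (fun t : B => (t : X)) (Subgroup.mem_center_iff.1 h3 ⟨c, hcB⟩)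
  -- Lemma A
  have lemA : ∀ a ∈ B, ∀ b ∈ B, a * b ≠ b * a → ∀ g : X, ⁅g, a⁆ ∈ gam M (n - 1) →
      ⁅g, b⁆ ∈ gam M (n - 1) → g ∈ B := by
    intro a ha b hb hab g hga hgb
    have hcl := Cfsg.Agent.S4143.closure_eq B hB a b ha hb hab
    let Z := gam M (n - 1)
    let T : Set X := {g | ⁅g, a⁆ ∈ Z ∧ ⁅g, b⁆ ∈ Z}
    cases nonempty_fintype X
    have hT : T.ncard ≤ p ^ 3 := by
      have e1 : T.ncard = T.toFinset.card := Set.ncard_eq_toFinset_card' T
      have hZf : (Z : Set X).toFinset.card = p := by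
        rw [← Set.ncard_eq_toFinset_card', ← hZc]; rfl
      have h1 : T.toFinset.card ≤ p * (T.toFinset.image (fun g => (⁅g, a⁆, ⁅g, b⁆))).card := by
        apply Finset.card_le_mul_card_image
        intro q hq
        rw [Finset.mem_image] at hq
        obtain ⟨g₀, hg₀, rfl⟩ := hq
        have h2 : (T.toFinset.filter (fun g => (⁅g, a⁆, ⁅g, b⁆) = (⁅g₀, a⁆, ⁅g₀, b⁆))) ⊆
            ((Z : Set X).toFinset.image (fun z => g₀ * z)) := by
          intro y hy
          rw [Finset.mem_filter, Prod.mk.injEq] at hy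
          obtain ⟨-, hya, hyb⟩ := hy
          rw [Finset.mem_image]
          refine ⟨g₀⁻¹ * y, ?_, by group⟩
          rw [Set.mem_toFinset]
          have h3 : g₀⁻¹ * y ∈ Subgroup.centralizer (B : Set X) := by
            rw [← hcl, Subgroup.centralizer_closure, Subgroup.mem_centralizer_iff]
            simp only [commutatorElement_def, mul_left_inj] at hya hyb
            rintro c (rfl | rfl)
            · calc c * (g₀⁻¹ * y) = g₀⁻¹ * (g₀ * c * g₀⁻¹) * y := by group
                _ = g₀⁻¹ * (y * c * y⁻¹) * y := by rw [hya]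
                _ = g₀⁻¹ * y * c := by group
            · calc c * (g₀⁻¹ * y) = g₀⁻¹ * (g₀ * c * g₀⁻¹) * y := by group
                _ = g₀⁻¹ * (y * c * y⁻¹) * y := by rw [hyb]
                _ = g₀⁻¹ * y * c := by group
          exact hcenB _ (hC h3) (fun c hcB => Subgroup.mem_centralizer_iff.1 h3 c hcB)
        exact (Finset.card_le_card h2).trans (Finset.card_image_le.trans hZf.le)
      have h2 : (T.toFinset.image (fun g => (⁅g, a⁆, ⁅g, b⁆))).card ≤ p * p := by
        have h3 : (T.toFinset.image (fun g => (⁅g, a⁆, ⁅g, b⁆))) ⊆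
            (Z : Set X).toFinset ×ˢ (Z : Set X).toFinset := by
          intro q hq
          rw [Finset.mem_image] at hq
          obtain ⟨g₀, hg₀, rfl⟩ := hq
          rw [Set.mem_toFinset] at hg₀
          rw [Finset.mem_product, Set.mem_toFinset, Set.mem_toFinset]
          exact hg₀
        refine (Finset.card_le_card h3).trans ?_
        rw [Finset.card_product, hZf]
      rw [e1]
      calc T.toFinset.card ≤ p * (p * p) := h1.trans (Nat.mul_le_mul_left p h2)
        _ = p ^ 3 := by ring
    have hBT : (B : Set X) ⊆ T := fun c hcB => ⟨hder c hcB a ha, hder c hcB b hb⟩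
    have hBT' : (B : Set X) = T := by
      refine Set.eq_of_subset_of_ncard_le hBT ?_ (Set.toFinite _)
      have : (B : Set X).ncard = p ^ 3 := by rw [← hB]; rfl
      rw [this]
      exact hT
    have hg : g ∈ T := ⟨hga, hgb⟩
    rw [← hBT'] at hg
    exact hg
  -- two noncommuting elements
  obtain ⟨a, ha, b, hb, hab⟩ : ∃ a ∈ B, ∃ b ∈ B, a * b ≠ b * a := by
    by_contra hcon
    push Not at hcon
    exact hna ⟨⟨fun a b => Subtype.ext (hcon a a.2 b b.2)⟩⟩
  have hWcomm : ∀ w ∈ gam M (n - 2), ∀ g : X, ⁅g, w⁆ ∈ gam M (n - 1) := by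
    intro w hw g
    have h1 := h.comm_mem (i := n - 2) (by omega) g hw
    rwa [show n - 2 + 1 = n - 1 by omega] at h1
  have hWB : gam M (n - 2) ≤ B := by
    intro w hw
    refine lemA a ha b hb hab w ?_ ?_
    · rw [← commutatorElement_inv]; exact inv_mem (hWcomm w hw a)
    · rw [← commutatorElement_inv]; exact inv_mem (hWcomm w hw b)
  have hWc : Nat.card (gam M (n - 2)) = p ^ 2 := by
    rw [h.card _ (by omega), show n - (n - 2) = 2 by omega]
  obtain ⟨w, hw, hwZ⟩ : ∃ w ∈ gam M (n - 2), w ∉ gam M (n - 1) := by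
    by_contra hcon
    push Not at hcon
    have h3 := Subgroup.card_le_of_le (show gam M (n - 2) ≤ gam M (n - 1) from hcon)
    rw [hWc, hZc] at h3
    have := hp.out.one_lt
    nlinarith
  have hBn : ¬ B ≤ gam M 2 := by
    intro hB2
    exact hwZ (hcenB w (hWB hw) (fun c hcB => comm_two h (by omega) (hB2 hcB) hw))
  obtain ⟨x, hx, hx2⟩ := SetLike.not_le_iff_exists.1 hBn
  have hWab : ∀ u ∈ gam M (n - 2), ∀ v ∈ gam M (n - 2), u * v = v * u := fun u hu v hv =>
    comm_two h (by omega) (h.mono_le (by omega) hu) hv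
  have hxw : x * w ≠ w * x := by
    intro he
    apply hwZ
    refine hcenB w (hWB hw) ?_
    have h1 : gam M (n - 2) < B ⊓ Subgroup.centralizer {w} := by
      refine lt_of_le_of_ne (le_inf hWB ?_) (fun he' => hx2 ?_)
      · intro u hu
        rw [Subgroup.mem_centralizer_singleton_iff]
        exact hWab u hu w hw
      · refine h.mono_le (show 2 ≤ n - 2 by omega) ?_
        rw [he']
        exact ⟨hx, Subgroup.mem_centralizer_singleton_iff.2 he⟩
    have h2 := mul_card_le_of_lt hp.out hpX h1
    rw [hWc, show p * p ^ 2 = p ^ 3 by ring, ← hB] at h2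
    have h3 := Subgroup.eq_of_le_of_card_ge (inf_le_left : B ⊓ Subgroup.centralizer {w} ≤ B) h2
    intro c hcB
    rw [← h3] at hcB
    exact Subgroup.mem_centralizer_singleton_iff.1 hcB.2
  refine ⟨x, hx, hx2, ?_⟩
  have hle : Subgroup.centralizer {x} ≤ B := by
    intro g hg
    refine lemA x hx w (hWB hw) hxw g ?_ (hWcomm w hw g)
    have : ⁅g, x⁆ = 1 :=
      commutatorElement_eq_one_iff_mul_comm.2 (Subgroup.mem_centralizer_singleton_iff.1 hg)
    rw [this]; exact one_mem _
  have hlt : Subgroup.centralizer {x} < B := by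
    refine lt_of_le_of_ne hle (fun he => hxw ?_)
    have h1 : w ∈ Subgroup.centralizer {x} := by rw [he]; exact hWB hw
    exact (Subgroup.mem_centralizer_singleton_iff.1 h1).symm
  have h1 := mul_card_le_of_lt hp.out hpX hlt
  rw [hB, show p ^ 3 = p * p ^ 2 by ring] at h1
  exact Nat.le_of_mul_le_mul_left h1 hp.out.pos

end Cfsg.Agent.H779.SelfCent
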