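import Cfsg.Agent.H786.Core
import Cfsg.Agent.H767.EssFrat

/-!
# Automorphisms of the maximal subgroup `W 1` of a group of maximal class (helper779, part of S5267)

* `class_of_inv` : the subgroups of `W 1` invariant under conjugation by `P` are the `W j`;
* `pres` : an automorphism normalizing `conjGrp (W 1)` preserves all `W i`;
* `triv_of_centralizes` : an automorphism of `W 1` (nonabelian) commuting with conjugation by `s ∉ W 1` modulo inner
  automorphisms acts trivially on the factors `W i / W (i + 1)`.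
-/

set_option autoImplicit false
set_option linter.unusedSectionVars false

namespace Cfsg.Agent.H779.Core

open Subgroup Cfsg.Agent.H467.MaxClass Cfsg.Agent.H786
open scoped commutatorElement

universe u

variable {P : Type u} [Group P] {p n : ℕ} {W : ℕ → Subgroup P}

section chain

/-- A normal subgroup meeting `W i - W (i + 1)` contains `W i`. -/
theorem le_of_normal (h : MC P p n W) [hp : Fact p.Prime] (N : Subgroup P) (hN : N.Normal) :
    ∀ (m i : ℕ), n - i = m → 1 ≤ i → i < n → ∀ a ∈ N, a ∈ W i → a ∉ W (i + 1) → W i ≤ N := by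
  intro m
  induction m with
  | zero => intro i hi _ hin; omega
  | succ m ih =>
    intro i hi h1 hin a haN haW haW'
    have key : W (i + 1) ≤ N := by
      rcases Nat.lt_or_ge (i + 1) n with h2 | h2
      · have h3 := h.Ksub_ne_top' h1 h2
        obtain ⟨s, hs⟩ : ∃ s, s ∉ h.Ksub i := by
          by_contra hcon
          push Not at hcon
          exact h3 (eq_top_iff.2 fun x _ => hcon x)
        have h4 : ⁅a, s⁆ ∉ W (i + 2) := fun h5 => hs ((h.mem_K_iff hin haW haW' s).2 h5)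
        refine ih (i + 1) (by omega) (by omega) h2 ⁅a, s⁆ ?_ (h.comm_mem haW) h4
        rw [commutatorElement_def, show a * s * a⁻¹ * s⁻¹ = a * (s * a⁻¹ * s⁻¹) by group]
        exact mul_mem haN (hN.conj_mem _ (inv_mem haN) s)
      · rw [h.bot_of_le h2]
        exact bot_le
    intro b hb
    obtain ⟨k, hk⟩ := h.exists_zpow hin haW haW' hb
    have : b = a ^ k * ((a ^ k)⁻¹ * b) := by group
    rw [this]
    exact mul_mem (zpow_mem haN k) (key hk)

/-- The normal subgroups of `P` inside `W 1` are the `W j`. -/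
theorem class_of_normal (h : MC P p n W) [hp : Fact p.Prime] (N : Subgroup P) (hN : N.Normal) (hN1 : N ≤ W 1) :
    ∃ j, 1 ≤ j ∧ j ≤ n ∧ N = W j := by
  classical
  have h4 := h.four_le
  have hP : ∀ j, N ≤ W j ∨ ¬ N ≤ W j := fun j => em _
  set j := Nat.findGreatest (fun j => N ≤ W j) n with hj
  have h1 : N ≤ W j := Nat.findGreatest_spec (P := fun j => N ≤ W j) (m := 1) (by omega) hN1
  have hjn : j ≤ n := Nat.findGreatest_le n
  have hj1 : 1 ≤ j := Nat.le_findGreatest (by omega) hN1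
  refine ⟨j, hj1, hjn, le_antisymm h1 ?_⟩
  rcases Nat.lt_or_ge j n with h2 | h2
  · have h3 : ¬ N ≤ W (j + 1) := by
      intro h5
      have := Nat.le_findGreatest (P := fun j => N ≤ W j) (show j + 1 ≤ n by omega) h5
      omega
    obtain ⟨a, ha, ha'⟩ := SetLike.not_le_iff_exists.1 h3
    exact le_of_normal h N hN _ j rfl hj1 h2 a ha (h1 ha) ha'
  · rw [h.bot_of_le h2]
    exact bot_le

end chain

section aut

variable [hN1 : (W 1).Normal]

/-- the inner automorphisms -/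
def inn (M : Type*) [Group M] : Subgroup (MulAut M) := (MulAut.conj : M →* MulAut M).range

theorem conjNormal_coe (x : P) (e : W 1) : ((MulAut.conjNormal (H := W 1) x e : W 1) : P) = x * e * x⁻¹ := rfl

theorem conj_eq (w : W 1) : (MulAut.conj w : MulAut (W 1)) = MulAut.conjNormal (H := W 1) (w : P) := by
  ext e; rfl

theorem inn_le_conjGrp : inn (W 1) ≤ conjGrp (W 1) := by
  rintro _ ⟨w, rfl⟩
  exact ⟨(w : P), (conj_eq w).symm⟩

theorem conjNormal_mem_inn {w : P} (hw : w ∈ W 1) : MulAut.conjNormal (H := W 1) w ∈ inn (W 1) :=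
  ⟨⟨w, hw⟩, conj_eq _⟩

omit hN1 in
/-- `P = ⟨s⟩ W 1` -/
theorem exists_zp (h : MC P p n W) [hp : Fact p.Prime] {s : P} (hs : s ∉ W 1) (x : P) :
    ∃ (k : ℤ) (w : P), w ∈ W 1 ∧ x = s ^ k * w := by
  have h4 := h.four_le
  obtain ⟨k, hk⟩ := h.exists_zpow (i := 0) (by omega) (a := s) (by rw [h.zero]; trivial) hs (b := x)
    (by rw [h.zero]; trivial)
  exact ⟨k, _, hk, by group⟩

/-- `U` is invariant under `A`. -/
def Inv (A : Subgroup (MulAut (W 1))) (U : Subgroup (W 1)) : Prop := ∀ a ∈ A, ∀ e ∈ U, a e ∈ U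

omit hN1 in
theorem AInv_iff {A : Subgroup (MulAut (W 1))} {B : Subgroup P} : AInv A B ↔ Inv A (B.subgroupOf (W 1)) := Iff.rfl

/-- The subgroups of `W 1` invariant under conjugation by `P`. -/
theorem class_of_inv (h : MC P p n W) [hp : Fact p.Prime] (U : Subgroup (W 1)) (hU : Inv (conjGrp (W 1)) U) :
    ∃ j, 1 ≤ j ∧ j ≤ n ∧ U = (W j).subgroupOf (W 1) := by
  have hnorm : (U.map (W 1).subtype).Normal := by
    refine ⟨?_⟩
    rintro _ ⟨e, he, rfl⟩ x
    exact ⟨MulAut.conjNormal (H := W 1) x e, hU _ ⟨x, rfl⟩ e he, rfl⟩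
  have hle : U.map (W 1).subtype ≤ W 1 := by
    rintro _ ⟨e, -, rfl⟩
    exact e.2
  obtain ⟨j, h1, h2, h3⟩ := class_of_normal h _ hnorm hle
  refine ⟨j, h1, h2, ?_⟩
  ext e
  rw [mem_subgroupOf, ← h3]
  constructor
  · intro he; exact ⟨e, he, rfl⟩
  · rintro ⟨e', he', h4⟩
    have : e' = e := Subtype.ext h4
    rwa [← this]

/-- `a` normalizes the group of conjugations -/
def Nor (a : MulAut (W 1)) : Prop := ∀ x : P, ∃ y : P, a * MulAut.conjNormal (H := W 1) x * a⁻¹ =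
  MulAut.conjNormal (H := W 1) y

theorem apply_conj {a : MulAut (W 1)} {x y : P}
    (hxy : a * MulAut.conjNormal (H := W 1) x * a⁻¹ = MulAut.conjNormal (H := W 1) y) (e : W 1) :
    ((a (MulAut.conjNormal (H := W 1) x e) : W 1) : P) = y * (a e : W 1) * y⁻¹ := by
  rw [← conjNormal_coe, ← hxy]
  simp

theorem apply_comm {a : MulAut (W 1)} {x y : P}
    (hxy : a * MulAut.conjNormal (H := W 1) x * a⁻¹ = MulAut.conjNormal (H := W 1) y) {e f : W 1}
    (hf : (f : P) = ⁅(e : P), x⁆) : ((a f : W 1) : P) = ⁅((a e : W 1) : P), y⁆ := by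
  have h1 : f = e * (MulAut.conjNormal (H := W 1) x e)⁻¹ := by
    apply Subtype.ext
    rw [hf, commutatorElement_def]
    show _ = (e : P) * (x * e * x⁻¹)⁻¹
    group
  rw [h1, map_mul, map_inv]
  show ((a e : W 1) : P) * ((a (MulAut.conjNormal (H := W 1) x e) : W 1) : P)⁻¹ = _
  rw [apply_conj hxy, commutatorElement_def]
  group

/-- **Automorphisms normalizing the group of conjugations preserve the chain.** -/
theorem pres (h : MC P p n W) [hp : Fact p.Prime] {a : MulAut (W 1)} (ha : Nor a) :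
    ∀ i, 1 ≤ i → ∀ e : W 1, (e : P) ∈ W i → ((a e : W 1) : P) ∈ W i := by
  intro i hi
  induction i, hi using Nat.le_induction with
  | base => intro e _; exact (a e).2
  | succ i hi ih =>
    intro e he
    rw [← h.comm_eq hi] at he
    have key : ∀ g ∈ ⁅W i, (⊤ : Subgroup P)⁆, ∀ (hg : g ∈ W 1), ((a ⟨g, hg⟩ : W 1) : P) ∈ W (i + 1) := by
      intro g hg
      rw [Subgroup.commutator_def] at hg
      have hle : ∀ y ∈ W (i + 1), y ∈ W 1 := fun y hy => h.antitone (by omega) hy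
      have hall : ∀ g ∈ closure {g : P | ∃ g₁ ∈ W i, ∃ g₂ ∈ (⊤ : Subgroup P), ⁅g₁, g₂⁆ = g},
          ∃ hg : g ∈ W 1, ((a ⟨g, hg⟩ : W 1) : P) ∈ W (i + 1) := by
        intro g hg
        induction hg using Subgroup.closure_induction with
        | mem g hg =>
          obtain ⟨g₁, hg₁, g₂, -, rfl⟩ := hg
          have h1 : ⁅g₁, g₂⁆ ∈ W 1 := hle _ (h.comm_mem hg₁)
          refine ⟨h1, ?_⟩
          obtain ⟨y, hy⟩ := ha g₂
          have hg₁' : g₁ ∈ W 1 := h.antitone hi hg₁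
          rw [apply_comm hy (e := ⟨g₁, hg₁'⟩) (f := ⟨_, h1⟩) rfl]
          exact h.comm_mem (ih ⟨g₁, hg₁'⟩ hg₁)
        | one => exact ⟨one_mem _, by
            have : (⟨1, one_mem _⟩ : W 1) = 1 := rfl
            rw [this, map_one]; exact one_mem _⟩
        | mul x y _ _ hx hy =>
          obtain ⟨hx1, hx2⟩ := hx
          obtain ⟨hy1, hy2⟩ := hy
          refine ⟨mul_mem hx1 hy1, ?_⟩
          have : (⟨x * y, mul_mem hx1 hy1⟩ : W 1) = ⟨x, hx1⟩ * ⟨y, hy1⟩ := rfl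
          rw [this, map_mul]
          exact mul_mem hx2 hy2
        | inv x _ hx =>
          obtain ⟨hx1, hx2⟩ := hx
          refine ⟨inv_mem hx1, ?_⟩
          have : (⟨x⁻¹, inv_mem hx1⟩ : W 1) = (⟨x, hx1⟩ : W 1)⁻¹ := rfl
          rw [this, map_inv]
          exact inv_mem hx2
      obtain ⟨_, h2⟩ := hall g hg
      intro _
      exact h2
    exact key (e : P) he e.2

omit hN1 in
/-- generation by natural powers -/
theorem exists_pow (h : MC P p n W) [hp : Fact p.Prime] {i : ℕ} (hi : i < n) {a : P}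
    (ha : a ∈ W i) (ha' : a ∉ W (i + 1)) {b : P} (hb : b ∈ W i) :
    ∃ k : ℕ, (a ^ k)⁻¹ * b ∈ W (i + 1) := by
  obtain ⟨k, hk⟩ := h.exists_zpow hi ha ha' hb
  have hp0 : (p : ℤ) ≠ 0 := by exact_mod_cast hp.out.ne_zero
  have h1 : a ^ p ∈ W (i + 1) := h.pow_p_mem ha
  refine ⟨(k % p).toNat, ?_⟩
  have h2 : (((k % p).toNat : ℕ) : ℤ) = k % p := Int.toNat_of_nonneg (Int.emod_nonneg _ hp0)
  have h3 : a ^ k = a ^ (k % p).toNat * (a ^ p) ^ (k / p) := by
    rw [← zpow_natCast, ← zpow_natCast, ← zpow_mul, ← zpow_add, h2, Int.emod_add_mul_ediv]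
  have h4 : (a ^ (k % p).toNat)⁻¹ * b = (a ^ p) ^ (k / p) * ((a ^ k)⁻¹ * b) := by
    rw [h3]; group
  rw [h4]
  exact mul_mem (zpow_mem h1 _) hk

/-- `a` acts on `W i / W (i + 1)` as the power `b`. -/
def Sc (W : ℕ → Subgroup P) (a : MulAut (W 1)) (i b : ℕ) : Prop :=
  ∀ e : W 1, (e : P) ∈ W i → ((e : P) ^ b)⁻¹ * ((a e : W 1) : P) ∈ W (i + 1)

omit hN1 in
/-- One generator suffices. -/
theorem sc_of_gen (h : MC P p n W) [hp : Fact p.Prime] {a : MulAut (W 1)} {i b : ℕ} (hi : i < n)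
    (hp2 : ∀ e : W 1, (e : P) ∈ W (i + 1) → ((a e : W 1) : P) ∈ W (i + 1))
    {w : W 1} (hw : (w : P) ∈ W i) (hw' : (w : P) ∉ W (i + 1))
    (hb : ((w : P) ^ b)⁻¹ * ((a w : W 1) : P) ∈ W (i + 1)) : Sc W a i b := by
  intro e he
  have hn := h.normal (i + 1)
  obtain ⟨k, hk⟩ := exists_pow h hi hw hw' he
  set u : W 1 := (w ^ k)⁻¹ * e with hu
  have hu' : (u : P) ∈ W (i + 1) := hk
  have he' : e = w ^ k * u := by rw [hu]; group
  set q := QuotientGroup.mk' (W (i + 1)) with hq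
  have hq1 : ∀ y : P, y ∈ W (i + 1) ↔ q y = 1 := fun y => (QuotientGroup.eq_one_iff y).symm
  have h1 : q ((a e : W 1) : P) = q ((a w : W 1) : P) ^ k := by
    rw [he', map_mul, map_pow, Subgroup.coe_mul, Subgroup.coe_pow, map_mul, map_pow,
      (hq1 _).1 (hp2 u hu'), mul_one]
  have h2 : q ((a w : W 1) : P) = q (w : P) ^ b := by
    have := (hq1 _).1 hb
    rw [map_mul, map_inv, map_pow] at this
    exact (inv_mul_eq_one.1 this).symm
  have h3 : q (e : P) = q (w : P) ^ k := by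
    rw [he', Subgroup.coe_mul, Subgroup.coe_pow, map_mul, map_pow, (hq1 _).1 hu', mul_one]
  rw [hq1, map_mul, map_inv, map_pow, h1, h2, h3, ← pow_mul, ← pow_mul, mul_comm, inv_mul_eq_one]

omit hN1 in
theorem exists_sc (h : MC P p n W) [hp : Fact p.Prime] {a : MulAut (W 1)} {i : ℕ} (hi1 : 1 ≤ i) (hi : i < n)
    (hp1 : ∀ e : W 1, (e : P) ∈ W i → ((a e : W 1) : P) ∈ W i)
    (hp2 : ∀ e : W 1, (e : P) ∈ W (i + 1) → ((a e : W 1) : P) ∈ W (i + 1)) : ∃ b, Sc W a i b := by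
  obtain ⟨w, hw, hw'⟩ := h.ne_succ hi
  have hw1 : w ∈ W 1 := h.antitone hi1 hw
  obtain ⟨b, hb⟩ := exists_pow h hi hw hw' (hp1 ⟨w, hw1⟩ hw)
  exact ⟨b, sc_of_gen h hi hp2 (w := ⟨w, hw1⟩) hw hw' hb⟩

omit hN1 in
/-- `s ∉ W 1` lies outside all two-step centralizers. -/
theorem notMem_Ksub' (h : MC P p n W) [hp : Fact p.Prime]
    (deg : ∀ i j, 1 ≤ i → 1 ≤ j → ⁅W i, W j⁆ ≤ W (i + j + 1)) {s : P} (hs : s ∉ W 1) {i : ℕ} (h1 : 1 ≤ i)
    (hi : i + 1 < n) : s ∉ h.Ksub i := by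
  have h2 : W 1 ≤ h.Ksub i := by
    intro x hx w hw
    exact deg i 1 h1 le_rfl (commutator_mem_commutator hw hx)
  rw [h.eq_W1 h2 (h.Ksub_ne_top' h1 hi)]
  exact hs

omit hN1 in
theorem comm_notMem (h : MC P p n W) [hp : Fact p.Prime]
    (deg : ∀ i j, 1 ≤ i → 1 ≤ j → ⁅W i, W j⁆ ≤ W (i + j + 1)) {s : P} (hs : s ∉ W 1) {i : ℕ} (h1 : 1 ≤ i)
    (hi : i + 1 < n) {a : P} (ha : a ∈ W i) (ha' : a ∉ W (i + 1)) : ⁅a, s⁆ ∉ W (i + 2) := fun h5 =>
  notMem_Ksub' h deg hs h1 hi ((h.mem_K_iff (by omega) ha ha' s).2 h5)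

/-- The scalar is propagated by commutation with `s`. -/
theorem sc_succ (h : MC P p n W) [hp : Fact p.Prime]
    (deg : ∀ i j, 1 ≤ i → 1 ≤ j → ⁅W i, W j⁆ ≤ W (i + j + 1)) {s u : P} (hs : s ∉ W 1) (hu : u ∈ W 1)
    {a : MulAut (W 1)} (ha : Nor a)
    (hc : a * MulAut.conjNormal (H := W 1) s * a⁻¹ = MulAut.conjNormal (H := W 1) (u * s))
    {i b : ℕ} (h1 : 1 ≤ i) (hi : i + 1 < n) (hsc : Sc W a i b) : Sc W a (i + 1) b := by
  obtain ⟨w, hw, hw'⟩ := h.ne_succ (show i < n by omega)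
  have hw1 : w ∈ W 1 := h.antitone h1 hw
  set f : P := ⁅w, s⁆ with hf
  have hf1 : f ∈ W (i + 1) := h.comm_mem hw
  have hf2 : f ∉ W (i + 2) := comm_notMem h deg hs h1 hi hw hw'
  have hf3 : f ∈ W 1 := h.antitone (by omega) hf1
  refine sc_of_gen h (by omega) (pres h ha (i + 2) (by omega)) (w := ⟨f, hf3⟩) hf1 hf2 ?_
  have h2 : ((a ⟨f, hf3⟩ : W 1) : P) = ⁅((a ⟨w, hw1⟩ : W 1) : P), u * s⁆ :=
    apply_comm hc (e := ⟨w, hw1⟩) (f := ⟨f, hf3⟩) rfl
  have hn := h.normal (i + 2)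
  set q := QuotientGroup.mk' (W (i + 2)) with hq
  have hq1 : ∀ y : P, y ∈ W (i + 2) ↔ q y = 1 := fun y => (QuotientGroup.eq_one_iff y).symm
  have hcen : ∀ y ∈ W (i + 1), ∀ z : P, Commute (q y) (q z) := by
    intro y hy z
    have h3 := (hq1 _).1 (h.comm_mem hy (x := z))
    rw [map_commutatorElement] at h3
    exact commutatorElement_eq_one_iff_mul_comm.1 h3
  have hA : ((a ⟨w, hw1⟩ : W 1) : P) ∈ W i := pres h ha i h1 _ hw
  set A : P := ((a ⟨w, hw1⟩ : W 1) : P) with hAdef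
  set v : P := (w ^ b)⁻¹ * A with hv
  have hv1 : v ∈ W (i + 1) := hsc ⟨w, hw1⟩ hw
  have hAv : A = w ^ b * v := by rw [hv]; group
  -- `q ⁅A, u * s⁆ = q ⁅w, s⁆ ^ b`
  have h4 : q ⁅A, u * s⁆ = ⁅q A, q s⁆ := by
    have e : ⁅A, u * s⁆ = ⁅A, u⁆ * (u * ⁅A, s⁆ * u⁻¹) := by
      simp only [commutatorElement_def]; group
    have h5 : q ⁅A, u⁆ = 1 := (hq1 _).1 (deg i 1 h1 le_rfl (commutator_mem_commutator hA hu))
    have h6 : Commute (q ⁅A, s⁆) (q u) := hcen _ (h.comm_mem hA) u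
    rw [e, map_mul, h5, one_mul, map_mul, map_mul, map_inv, ← h6.eq, mul_inv_cancel_right, map_commutatorElement]
  have h7 : ⁅q A, q s⁆ = ⁅q w ^ b, q s⁆ := by
    have h8 : Commute (q v) (q s) := hcen v hv1 s
    rw [hAv, map_mul, map_pow, commutatorElement_def, commutatorElement_def, mul_inv_rev]
    calc q w ^ b * q v * q s * ((q v)⁻¹ * (q w ^ b)⁻¹) * (q s)⁻¹
        = q w ^ b * (q v * q s * (q v)⁻¹) * (q w ^ b)⁻¹ * (q s)⁻¹ := by group
      _ = q w ^ b * q s * (q w ^ b)⁻¹ * (q s)⁻¹ := by rw [h8.eq, mul_inv_cancel_right]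
  have h9 : ⁅q w ^ b, q s⁆ = ⁅q w, q s⁆ ^ b := by
    refine comm_pow_left (fun x => ?_) b
    obtain ⟨z, rfl⟩ := QuotientGroup.mk'_surjective _ x
    have := hcen f hf1 z
    rwa [hf, map_commutatorElement] at this
  have h10 : q ((⟨f, hf3⟩ : W 1) : P) = ⁅q w, q s⁆ := map_commutatorElement q w s
  rw [hq1, map_mul, map_inv, map_pow, h2, h4, h7, h9, h10, inv_mul_cancel]

theorem pres_iff (h : MC P p n W) [hp : Fact p.Prime] [Finite P] {a : MulAut (W 1)} (ha : Nor a) {i : ℕ} (hi : 1 ≤ i)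
    (e : W 1) : ((a e : W 1) : P) ∈ W i ↔ (e : P) ∈ W i := by
  refine ⟨fun he => ?_, pres h ha i hi e⟩
  let f : (W i).subgroupOf (W 1) → (W i).subgroupOf (W 1) := fun x => ⟨a x, pres h ha i hi x x.2⟩
  have hf : Function.Injective f := by
    intro x y hxy
    exact Subtype.ext (a.injective (congrArg Subtype.val hxy))
  obtain ⟨y, hy⟩ := Finite.surjective_of_injective hf ⟨a e, he⟩
  have : (y : W 1) = e := a.injective (congrArg Subtype.val hy)
  rw [← this]
  exact y.2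

/-- **The torus is faithful on `P / W 1`.** -/
theorem triv_of_centralizes (h : MC P p n W) [hp : Fact p.Prime] [Finite P]
    (deg : ∀ i j, 1 ≤ i → 1 ≤ j → ⁅W i, W j⁆ ≤ W (i + j + 1)) (nonab : ⁅W 1, W 1⁆ ≠ ⊥)
    {s u : P} (hs : s ∉ W 1) (hu : u ∈ W 1) {a : MulAut (W 1)} (ha : Nor a)
    (hc : a * MulAut.conjNormal (H := W 1) s * a⁻¹ = MulAut.conjNormal (H := W 1) (u * s)) :
    ∀ i, 1 ≤ i → ∀ e : W 1, (e : P) ∈ W i → (e : P)⁻¹ * ((a e : W 1) : P) ∈ W (i + 1) := by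
  classical
  have h4 := h.four_le
  obtain ⟨b, hb⟩ := exists_sc h le_rfl (show 1 < n by omega) (pres h ha 1 le_rfl) (pres h ha 2 (by omega))
  have hsc : ∀ i, 1 ≤ i → i < n → Sc W a i b := by
    intro i hi
    induction i, hi using Nat.le_induction with
    | base => intro _; exact hb
    | succ i hi ih => intro hin; exact sc_succ h deg hs hu ha hc hi (by omega) (ih (by omega))
  -- a pair `(i, j)` with maximal sum
  set Q : ℕ → Prop := fun m => ∃ i j, 1 ≤ i ∧ 1 ≤ j ∧ i + j = m ∧ ⁅W i, W j⁆ ≠ ⊥ with hQ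
  have hQ2 : Q 2 := ⟨1, 1, le_rfl, le_rfl, rfl, nonab⟩
  have hQn : ∀ m, Q m → m < n := by
    rintro m ⟨i, j, h1, h2, rfl, h3⟩
    by_contra hlt
    apply h3
    rw [eq_bot_iff]
    calc ⁅W i, W j⁆ ≤ W (i + j) := h.comm_comm j i
      _ = ⊥ := h.bot_of_le (by omega)
  set m := Nat.findGreatest Q n with hm
  have hQm : Q m := Nat.findGreatest_spec (P := Q) (m := 2) (by omega) hQ2
  have hmax : ∀ i j, 1 ≤ i → 1 ≤ j → m < i + j → ⁅W i, W j⁆ = ⊥ := by
    intro i j h1 h2 h3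
    by_contra h5
    have h6 : Q (i + j) := ⟨i, j, h1, h2, rfl, h5⟩
    have := Nat.le_findGreatest (P := Q) (hQn _ h6).le h6
    omega
  obtain ⟨i, j, hi, hj, hij, hne⟩ := hQm
  obtain ⟨e, he, f, hf, hef⟩ : ∃ e ∈ W i, ∃ f ∈ W j, ⁅e, f⁆ ≠ 1 := by
    by_contra hcon
    push Not at hcon
    apply hne
    rw [eq_bot_iff, commutator_le]
    intro x hx y hy
    exact Subgroup.mem_bot.2 (hcon x hx y hy)
  set g : P := ⁅e, f⁆ with hg
  have hg1 : g ∈ W 1 := h.antitone (by omega) (h.comm_mem he)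
  -- the level of `g`
  set k := Nat.findGreatest (fun k => g ∈ W k) n with hk
  have hgk : g ∈ W k := Nat.findGreatest_spec (P := fun k => g ∈ W k) (m := 1) (by omega) hg1
  have hk1 : 1 ≤ k := Nat.le_findGreatest (by omega) hg1
  have hkn : k < n := by
    have h5 : k ≤ n := Nat.findGreatest_le n
    rcases Nat.lt_or_ge k n with h6 | h6
    · exact h6
    · exfalso
      apply hef
      rw [h.bot_of_le h6] at hgk
      exact Subgroup.mem_bot.1 hgk
  have hgk' : g ∉ W (k + 1) := by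
    intro h5
    have := Nat.le_findGreatest (P := fun k => g ∈ W k) (show k + 1 ≤ n by omega) h5
    omega
  have hn := h.normal (k + 1)
  set q := QuotientGroup.mk' (W (k + 1)) with hq
  have hq1 : ∀ y : P, y ∈ W (k + 1) ↔ q y = 1 := fun y => (QuotientGroup.eq_one_iff y).symm
  have hcen : ∀ x, Commute ⁅q e, q f⁆ x := by
    intro x
    obtain ⟨z, rfl⟩ := QuotientGroup.mk'_surjective _ x
    have h3 := (hq1 _).1 (h.comm_mem hgk (x := z))
    rw [map_commutatorElement, hg, map_commutatorElement] at h3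
    exact commutatorElement_eq_one_iff_mul_comm.1 h3
  have he1 : e ∈ W 1 := h.antitone hi he
  have hf1 : f ∈ W 1 := h.antitone hj hf
  set A : P := ((a ⟨e, he1⟩ : W 1) : P) with hA
  set B : P := ((a ⟨f, hf1⟩ : W 1) : P) with hB
  have hAB : ((a ⟨g, hg1⟩ : W 1) : P) = ⁅A, B⁆ := by
    have : (⟨g, hg1⟩ : W 1) = ⁅(⟨e, he1⟩ : W 1), (⟨f, hf1⟩ : W 1)⁆ := rfl
    rw [this, map_commutatorElement]
    rfl
  have hin : i < n := by
    by_contra hlt
    rw [h.bot_of_le (not_lt.1 hlt)] at he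
    apply hef
    rw [hg, Subgroup.mem_bot.1 he, commutatorElement_one_left]
  have hjn : j < n := by
    by_contra hlt
    rw [h.bot_of_le (not_lt.1 hlt)] at hf
    apply hef
    rw [hg, Subgroup.mem_bot.1 hf, commutatorElement_one_right]
  set u' : P := (e ^ b)⁻¹ * A with hu'
  have hu1 : u' ∈ W (i + 1) := hsc i hi hin ⟨e, he1⟩ he
  set v' : P := (f ^ b)⁻¹ * B with hv'
  have hv1 : v' ∈ W (j + 1) := hsc j hj hjn ⟨f, hf1⟩ hf
  have hAe : A = e ^ b * u' := by rw [hu']; group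
  have hBe : B = f ^ b * v' := by rw [hv']; group
  have hBj : B ∈ W j := pres h ha j hj _ hf
  have hcomm : ∀ (i j : ℕ) (x y : P), 1 ≤ i → 1 ≤ j → m < i + j → x ∈ W i → y ∈ W j → Commute x y := by
    intro i j x y h1 h2 h3 hx hy
    have h5 : ⁅x, y⁆ ∈ ⁅W i, W j⁆ := commutator_mem_commutator hx hy
    rw [hmax i j h1 h2 h3, Subgroup.mem_bot] at h5
    exact commutatorElement_eq_one_iff_mul_comm.1 h5
  have h5 : ⁅A, B⁆ = ⁅e ^ b, f ^ b⁆ := by
    have h6 : Commute u' B := hcomm (i + 1) j u' B (by omega) hj (by omega) hu1 hBj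
    have h7 : Commute (e ^ b) v' := hcomm i (j + 1) _ _ hi (by omega) (by omega) (pow_mem he b) hv1
    calc ⁅A, B⁆ = e ^ b * (u' * B * u'⁻¹) * (e ^ b)⁻¹ * B⁻¹ := by
          rw [hAe, commutatorElement_def]; group
      _ = e ^ b * B * (e ^ b)⁻¹ * B⁻¹ := by rw [h6.eq, mul_inv_cancel_right]
      _ = e ^ b * f ^ b * (v' * (e ^ b)⁻¹ * v'⁻¹) * (f ^ b)⁻¹ := by rw [hBe]; group
      _ = e ^ b * f ^ b * (e ^ b)⁻¹ * (f ^ b)⁻¹ := by rw [h7.inv_left.eq.symm, mul_inv_cancel_right]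
      _ = ⁅e ^ b, f ^ b⁆ := by rw [commutatorElement_def]
  have h6 : q ⁅A, B⁆ = (q g) ^ (b * b) := by
    rw [h5, map_commutatorElement, map_pow, map_pow]
    have h7 : ⁅q e ^ b, q f⁆ = ⁅q e, q f⁆ ^ b := comm_pow_left hcen b
    have h8 : ⁅q e ^ b, q f ^ b⁆ = ⁅q e ^ b, q f⁆ ^ b := by
      refine comm_pow_right (fun x => ?_) b
      rw [h7]
      exact (hcen x).pow_left b
    rw [h8, h7, ← pow_mul, hg, map_commutatorElement]
  have h7 : q ⁅A, B⁆ = (q g) ^ b := by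
    have h8 := (hq1 _).1 (hsc k hk1 hkn ⟨g, hg1⟩ hgk)
    rw [map_mul, map_inv, map_pow, hAB] at h8
    exact (inv_mul_eq_one.1 h8).symm
  have hord : orderOf (q g) = p := by
    refine orderOf_eq_prime ?_ ?_
    · rw [← map_pow]
      exact (hq1 _).1 (h.pow_p_mem hgk)
    · intro h8
      exact hgk' ((hq1 _).2 h8)
  have hb0 : ¬ p ∣ b := by
    intro hd
    have h8 : q ⁅A, B⁆ = 1 := by
      rw [h7]
      exact orderOf_dvd_iff_pow_eq_one.1 (by rw [hord]; exact hd)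
    rw [← hAB] at h8
    exact hgk' ((pres_iff h ha (by omega) ⟨g, hg1⟩).1 ((hq1 _).2 h8))
  have hb1 : b * b ≡ b [MOD p] := by
    have h8 : (q g) ^ (b * b) = (q g) ^ b := by rw [← h6, ← h7]
    have := pow_eq_pow_iff_modEq.1 h8
    rwa [hord] at this
  have hbpos : 1 ≤ b := by
    rcases Nat.eq_zero_or_pos b with h8 | h8
    · exact absurd (by rw [h8]; exact dvd_zero p) hb0
    · exact h8
  have hbd : p ∣ b - 1 := by
    have h8 : p ∣ b * b - b := (Nat.modEq_iff_dvd' (Nat.le_mul_of_pos_left b hbpos)).1 hb1.symm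
    have h9 : b * b - b = b * (b - 1) := by rw [Nat.mul_sub, mul_one]
    rw [h9] at h8
    exact (hp.out.dvd_mul.1 h8).resolve_left hb0
  intro i hi e he
  rcases Nat.lt_or_ge i n with h8 | h8
  · obtain ⟨c, hc'⟩ := hbd
    have h9 : (e : P) ^ b = (e : P) * ((e : P) ^ p) ^ c := by
      rw [← pow_mul, ← hc', ← pow_succ']
      congr 1
      omega
    have h10 : (e : P)⁻¹ * ((a e : W 1) : P) = ((e : P) ^ p) ^ c * (((e : P) ^ b)⁻¹ * ((a e : W 1) : P)) := by
      rw [h9]; group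
    rw [h10]
    exact mul_mem (pow_mem (h.pow_p_mem he) c) (hsc i hi h8 e he)
  · have h9 : (e : P) = 1 := by
      rw [h.bot_of_le h8] at he
      exact Subgroup.mem_bot.1 he
    have h10 : e = 1 := Subtype.ext h9
    rw [h10, map_one]
    simp

omit hN1 in
/-- An automorphism of `W 1` acting trivially on the factors is a `p`-element. -/
theorem pow_of_triv (h : MC P p n W) [hp : Fact p.Prime] [Finite P] {a : MulAut (W 1)}
    (htr : ∀ i, 1 ≤ i → ∀ e : W 1, (e : P) ∈ W i → (e : P)⁻¹ * ((a e : W 1) : P) ∈ W (i + 1)) :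
    ∃ k, a ^ p ^ k = 1 := by
  have hW1 : IsPGroup p (W 1) := by
    have : IsPGroup p P := IsPGroup.of_card h.card_group
    exact this.to_subgroup _
  set c : ℕ → Subgroup (W 1) := fun i => (W (n - i)).subgroupOf (W 1) with hc
  have hpres : ∀ i, ∀ x ∈ c i, a x ∈ c i := by
    intro i x hx
    rw [hc, mem_subgroupOf] at hx ⊢
    rcases Nat.eq_zero_or_pos (n - i) with h1 | h1
    · rw [h1, h.zero]; trivial
    · have h2 := htr (n - i) h1 x hx
      have h3 := mul_mem hx (h.le_succ _ h2)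
      rwa [mul_inv_cancel_left] at h3
  have hpres' : ∀ i, ∀ α ∈ Subgroup.zpowers a, ∀ x ∈ c i, α x ∈ c i := by
    intro i α hα x hx
    obtain ⟨k, rfl⟩ := mem_powers_iff_mem_zpowers.2 hα
    have : ∀ k : ℕ, (a ^ k) x ∈ c i := by
      intro k
      induction k with
      | zero => exact hx
      | succ k ih => rw [pow_succ', MulAut.mul_apply]; exact hpres i _ ih
    exact this k
  have hst := Cfsg.Agent.H767.EssFrat.chainStab_isPGroup hW1 (Subgroup.zpowers a) c n hpres'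
    (fun i => by
      have := h.normal (n - i)
      exact Subgroup.normal_subgroupOf)
    (by
      have : c 0 = ⊥ := by
        show (W (n - 0)).subgroupOf (W 1) = ⊥
        rw [Nat.sub_zero, h.bot, Subgroup.bot_subgroupOf]
      rw [this]
      exact bot_le)
    (by
      show (W (n - n)).subgroupOf (W 1) = ⊤
      rw [Nat.sub_self, h.zero, Subgroup.top_subgroupOf])
  have hmem : (⟨a, Subgroup.mem_zpowers a⟩ : Subgroup.zpowers a) ∈
      Cfsg.Agent.H767.EssFrat.chainStab (Subgroup.zpowers a) c n hpres' := by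
    intro i hi x hx
    rw [hc, mem_subgroupOf] at hx ⊢
    rcases Nat.eq_zero_or_pos (n - (i + 1)) with h1 | h1
    · have h2 : n - i = 1 := by omega
      rw [h2]
      exact (x⁻¹ * a x).2
    · have h2 := htr _ h1 x hx
      rwa [show n - (i + 1) + 1 = n - i by omega] at h2
  obtain ⟨k, hk⟩ := hst ⟨_, hmem⟩
  refine ⟨k, ?_⟩
  have h1 := congrArg Subtype.val (congrArg Subtype.val hk)
  exact h1

end aut

end Cfsg.Agent.H779.Core
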