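import Cfsg.Agent.H779.CoreTrace

/-!
# Block N0 of S5267 (helper779)

* `Sit.le_inn` : a normal subgroup `C` of `A` with `C ⊓ conjGrp (W 1) ≤ inn (W 1)` is inner;
* `Sit.faithful` : `A / inn (W 1)` is faithful on `W i / W i'`, `i + 2 ≤ i'`;
* `Sit.no_three` : no three consecutive terms `W i, W (i + 1), W (i + 2)` are invariant under `A` unless `conjGrp (W 1)` is
  normal in `A`.
-/

set_option autoImplicit false
set_option linter.unusedSectionVars false

namespace Cfsg.Agent.H779.Core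

open Subgroup Cfsg.Agent.H467.MaxClass Cfsg.Agent.H786
open scoped commutatorElement

universe u

variable {P : Type u} [Group P] {p n : ℕ} {W : ℕ → Subgroup P} [hN1 : (W 1).Normal] {A : Subgroup (MulAut (W 1))}
variable [hp : Fact p.Prime] [Finite P]

namespace Sit

theorem cons_triv (S : Sit p n W A) {i i' : ℕ} (hc : Cons n W A i i') {C : Subgroup (MulAut (W 1))} (hCA : C ≤ A)
    (hn : ∀ a ∈ A, ∀ c ∈ C, a * c * a⁻¹ ∈ C) (hCc : C ⊓ conjGrp (W 1) ≤ inn (W 1)) :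
    ∀ c ∈ C, ∀ e : W 1, (e : P) ∈ W i → (e : P)⁻¹ * ((c e : W 1) : P) ∈ W i' := by
  have hi1 := hc.one_le
  have hlt := hc.lt
  have hle := hc.le
  have hWi' := S.mc.normal i'
  have hBn : (BB W i').Normal := Subgroup.normal_subgroupOf
  let U : Subgroup (W 1) :=
    { carrier := {e | e ∈ BB W i ∧ ∀ c ∈ C, e⁻¹ * c e ∈ BB W i'}
      mul_mem' := by
        rintro e f ⟨he, he2⟩ ⟨hf, hf2⟩
        refine ⟨mul_mem he hf, fun c hc => ?_⟩
        have h1 := hBn.conj_mem _ (he2 c hc) f⁻¹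
        have h2 : (e * f)⁻¹ * c (e * f) = f⁻¹ * (e⁻¹ * c e) * f⁻¹⁻¹ * (f⁻¹ * c f) := by
          rw [map_mul]; group
        rw [h2]
        exact mul_mem h1 (hf2 c hc)
      one_mem' := ⟨one_mem _, fun c _ => by rw [map_one, inv_one, mul_one]; exact one_mem _⟩
      inv_mem' := by
        rintro e ⟨he, he2⟩
        refine ⟨inv_mem he, fun c hc => ?_⟩
        have h1 := hBn.conj_mem _ (inv_mem (he2 c hc)) e
        have h2 : e⁻¹⁻¹ * c e⁻¹ = e * (e⁻¹ * c e)⁻¹ * e⁻¹ := by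
          rw [map_inv]; group
        rw [h2]
        exact h1 }
  have hU : ∀ e, e ∈ U ↔ e ∈ BB W i ∧ ∀ c ∈ C, e⁻¹ * c e ∈ BB W i' := fun e => Iff.rfl
  have hinv : Inv A U := by
    intro a ha e he
    obtain ⟨he1, he2⟩ := (hU e).1 he
    refine (hU _).2 ⟨hc.inv a ha e he1, fun c hcC => ?_⟩
    have h1 : a (e⁻¹ * (a⁻¹ * c * a) e) ∈ BB W i' := hc.inv' a ha _ (mem_BB.1 (he2 (a⁻¹ * c * a) (by
      have := hn a⁻¹ (A.inv_mem ha) c hcC
      rwa [inv_inv] at this)))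
    have h2 : a (e⁻¹ * (a⁻¹ * c * a) e) = (a e)⁻¹ * c (a e) := by
      rw [map_mul, map_inv]
      congr 1
      show a (a⁻¹ (c (a e))) = _
      rw [MulAut.apply_inv_self]
    rw [← h2]
    exact h1
  obtain ⟨j, hj1, hj2, hj⟩ := class_of_inv S.mc U (fun a ha => hinv a (S.conj_le ha))
  obtain ⟨e0, he0, he0'⟩ := S.mc.ne_succ (show i' - 1 < n by omega)
  rw [show i' - 1 + 1 = i' by omega] at he0'
  have he01 : e0 ∈ W 1 := S.mc.antitone (by omega) he0
  have h0 : (⟨e0, he01⟩ : W 1) ∈ U :=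
    (hU _).2 ⟨S.mc.antitone (by omega) he0, fun c hcC => S.cons_fix hc hCA hn hCc c hcC ⟨e0, he01⟩ he0⟩
  have hji' : j < i' := by
    by_contra hge
    rw [hj] at h0
    exact he0' (S.mc.antitone (not_lt.1 hge) h0)
  have hij : i ≤ j := by
    refine BB_le_iff S.mc hj1 (by omega) ?_
    intro e he
    have h1 : e ∈ U := by rw [hj]; exact he
    exact ((hU e).1 h1).1
  have hij' : j = i := by
    rcases Nat.eq_or_lt_of_le hij with h1 | h1
    · exact h1.symm
    · exfalso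
      apply hc.none j h1 hji'
      rw [AInv_iff]
      rw [hj] at hinv
      exact hinv
  subst hij'
  intro c hcC e he
  have h1 : e ∈ U := by rw [hj]; exact he
  exact ((hU e).1 h1).2 c hcC

omit hN1 in
theorem exists_cons (S : MC P p n W) {i : ℕ} (h1 : 1 ≤ i) (hi : i < n) (hinv : AInv A (W i)) :
    ∃ i', Cons n W A i i' := by
  classical
  have hex : ∃ j, i < j ∧ AInv A (W j) := ⟨n, hi, by
    intro a _ e he
    have h2 : (e : P) = 1 := by
      rw [S.bot] at he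
      exact Subgroup.mem_bot.1 he
    have h3 : e = 1 := Subtype.ext h2
    rw [h3, map_one]
    exact one_mem _⟩
  refine ⟨Nat.find hex, h1, (Nat.find_spec hex).1, ?_, hinv, (Nat.find_spec hex).2, ?_⟩
  · refine Nat.find_min' hex ⟨hi, ?_⟩
    intro a _ e he
    have h2 : (e : P) = 1 := by
      rw [S.bot] at he
      exact Subgroup.mem_bot.1 he
    have h3 : e = 1 := Subtype.ext h2
    rw [h3, map_one]
    exact one_mem _
  · intro j h2 h3 h4
    exact Nat.find_min hex h3 ⟨h2, h4⟩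

/-- **Normal `p'`-subgroups of `A / Inn` are trivial.** -/
theorem le_inn (S : Sit p n W A) {C : Subgroup (MulAut (W 1))} (hCA : C ≤ A)
    (hn : ∀ a ∈ A, ∀ c ∈ C, a * c * a⁻¹ ∈ C) (hCc : C ⊓ conjGrp (W 1) ≤ inn (W 1)) : C ≤ inn (W 1) := by
  have h4 := S.mc.four_le
  intro c hcC
  obtain ⟨k, hk⟩ := exists_pow_coprime (p := p) c
  set b := c ^ p ^ k with hb
  have hbC : b ∈ C := C.pow_mem hcC _
  have key : ∀ m i, n - i = m → 1 ≤ i → AInv A (W i) → ∀ e : W 1, (e : P) ∈ W i → b e = e := by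
    intro m
    induction m using Nat.strong_induction_on with
    | _ m ih =>
      intro i hi h1 hinv e he
      rcases Nat.lt_or_ge i n with h2 | h2
      · obtain ⟨i', hc⟩ := exists_cons S.mc h1 h2 hinv
        have h3 := S.cons_triv hc hCA hn hCc b hbC e he
        have h5 := hc.lt
        have h6 := hc.le
        set u : W 1 := e⁻¹ * b e with hu
        have hbu : b u = u := ih (n - i') (by omega) i' rfl (by omega) hc.inv' u h3
        have hbe : b e = e * u := by rw [hu]; group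
        have hpow : ∀ m : ℕ, (b ^ m) e = e * u ^ m := by
          intro m
          induction m with
          | zero => simp
          | succ m ihm =>
            rw [pow_succ', MulAut.mul_apply, ihm, map_mul, map_pow, hbu, hbe, mul_assoc, ← pow_succ']
        have h7 := hpow (orderOf b)
        rw [pow_orderOf_eq_one, MulAut.one_apply] at h7
        have h8 : u ^ orderOf b = 1 := by
          have : e * u ^ orderOf b = e * 1 := by rw [mul_one]; exact h7.symm
          exact mul_left_cancel this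
        obtain ⟨r, hr⟩ := (S.pgroup.to_subgroup (W 1)) u
        have h9 : orderOf u = 1 := Nat.eq_one_of_dvd_coprimes (Nat.Coprime.pow_right r hk)
          (orderOf_dvd_of_pow_eq_one h8) (orderOf_dvd_of_pow_eq_one hr)
        rw [hbe, orderOf_eq_one_iff.1 h9, mul_one]
      · have h3 : (e : P) = 1 := by
          rw [S.mc.bot_of_le h2] at he
          exact Subgroup.mem_bot.1 he
        have h5 : e = 1 := Subtype.ext h3
        rw [h5, map_one]
  have hb1 : c ^ p ^ k = 1 := by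
    rw [← hb]
    ext e
    have := key _ 1 rfl le_rfl (fun a _ e _ => (a e).2) e e.2
    rw [this]; rfl
  obtain ⟨g, hg, hgc⟩ := S.exists_conj (hCA hcC) hb1
  have h1 : g * c * g⁻¹ ∈ inn (W 1) := hCc ⟨hn g hg c hcC, hgc⟩
  have h2 := inn_conj g⁻¹ h1
  have h3 : g⁻¹ * (g * c * g⁻¹) * g⁻¹⁻¹ = c := by group
  rwa [h3] at h2

end Sit

/-- the automorphisms in `A` acting trivially on `W i / W j` -/
def kst (A : Subgroup (MulAut (W 1))) (i j : ℕ) (hi : AInv A (W i)) : Subgroup (MulAut (W 1)) where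
  carrier := {a | a ∈ A ∧ ∀ e ∈ BB W i, e⁻¹ * a e ∈ BB W j}
  mul_mem' := by
    rintro a b ⟨ha, ha2⟩ ⟨hb, hb2⟩
    refine ⟨mul_mem ha hb, fun e he => ?_⟩
    have h1 : e⁻¹ * (a * b) e = e⁻¹ * b e * ((b e)⁻¹ * a (b e)) := by
      rw [MulAut.mul_apply]; group
    rw [h1]
    exact mul_mem (hb2 e he) (ha2 _ (hi b hb e he))
  one_mem' := ⟨one_mem _, fun e _ => by rw [MulAut.one_apply, inv_mul_cancel]; exact one_mem _⟩
  inv_mem' := by
    rintro a ⟨ha, ha2⟩
    refine ⟨inv_mem ha, fun e he => ?_⟩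
    have h1 := inv_mem (ha2 (a⁻¹ e) (hi a⁻¹ (inv_mem ha) e he))
    rw [MulAut.apply_inv_self, mul_inv_rev, inv_inv] at h1
    exact h1

omit hN1 hp [Finite P] in
theorem mem_kst {i j : ℕ} {hi : AInv A (W i)} {a : MulAut (W 1)} :
    a ∈ kst A i j hi ↔ a ∈ A ∧ ∀ e ∈ BB W i, e⁻¹ * a e ∈ BB W j := Iff.rfl

omit hN1 hp [Finite P] in
theorem kst_conj {i j : ℕ} {hi : AInv A (W i)} (hj : AInv A (W j)) {g a : MulAut (W 1)} (hg : g ∈ A)
    (ha : a ∈ kst A i j hi) : g * a * g⁻¹ ∈ kst A i j hi := by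
  obtain ⟨ha1, ha2⟩ := mem_kst.1 ha
  refine mem_kst.2 ⟨mul_mem (mul_mem hg ha1) (inv_mem hg), fun e he => ?_⟩
  have h1 : g ((g⁻¹ e)⁻¹ * a (g⁻¹ e)) ∈ BB W j := hj g hg _ (mem_BB.1 (ha2 (g⁻¹ e) (hi g⁻¹ (inv_mem hg) e he)))
  rw [map_mul, map_inv, MulAut.apply_inv_self] at h1
  exact h1

namespace Sit

/-- **`A / Inn` is faithful on sections of rank at least 2.** -/
theorem faithful (S : Sit p n W A) {i i' : ℕ} (h1 : 1 ≤ i) (h2 : i + 2 ≤ i') (h3 : i' ≤ n) (hi : AInv A (W i))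
    (hi' : AInv A (W i')) {a : MulAut (W 1)} (ha : a ∈ A)
    (htr : ∀ e : W 1, (e : P) ∈ W i → (e : P)⁻¹ * ((a e : W 1) : P) ∈ W i') : a ∈ inn (W 1) := by
  refine S.le_inn (C := kst A i i' hi) (fun b hb => hb.1) (fun g hg c hc => kst_conj hi' hg hc) ?_ ⟨ha, htr⟩
  rintro c ⟨hc1, hc2⟩
  exact S.mem_inn_of_triv hc2 h1 (by omega) (fun e he => S.mc.antitone h2 (hc1.2 e he))

/-- an element normalizing `conjGrp` and acting trivially on two consecutive factors -/
theorem mem_conjGrp_of_nor (S : Sit p n W A) {i : ℕ} (h1 : 1 ≤ i) (h2 : i + 2 ≤ n) {a : MulAut (W 1)} (ha : a ∈ A)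
    (hn : Nor a) (ht1 : ∀ e : W 1, (e : P) ∈ W i → (e : P)⁻¹ * ((a e : W 1) : P) ∈ W (i + 1))
    (ht2 : ∀ e : W 1, (e : P) ∈ W (i + 1) → (e : P)⁻¹ * ((a e : W 1) : P) ∈ W (i + 2)) : a ∈ conjGrp (W 1) := by
  obtain ⟨s, hs⟩ := S.exists_s
  obtain ⟨y, hy⟩ := hn s
  obtain ⟨k, hk⟩ := exists_pow S.mc (i := 0) (by omega) (a := s) (by rw [S.mc.zero]; trivial) hs (b := y)
    (by rw [S.mc.zero]; trivial)
  set w := (s ^ k)⁻¹ * y with hw
  have hyk : y = s ^ k * w := by rw [hw]; group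
  obtain ⟨w1, hw1, hw1'⟩ := S.mc.ne_succ (show i < n by omega)
  have hw11 : w1 ∈ W 1 := S.mc.antitone h1 hw1
  set f : P := ⁅w1, s⁆ with hf
  have hf1 : f ∈ W (i + 1) := S.mc.comm_mem hw1
  have hf2 : f ∉ W (i + 2) := comm_notMem S.mc S.deg hs h1 (by omega) hw1 hw1'
  have hf3 : f ∈ W 1 := S.mc.antitone (by omega) hf1
  have h3 : ((a ⟨f, hf3⟩ : W 1) : P) = ⁅((a ⟨w1, hw11⟩ : W 1) : P), y⁆ :=
    apply_comm hy (e := ⟨w1, hw11⟩) (f := ⟨f, hf3⟩) rfl
  set B : P := ((a ⟨w1, hw11⟩ : W 1) : P) with hB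
  have hn2 := S.mc.normal (i + 2)
  set q := QuotientGroup.mk' (W (i + 2)) with hq
  have hq1 : ∀ y : P, y ∈ W (i + 2) ↔ q y = 1 := fun y => (QuotientGroup.eq_one_iff y).symm
  have hcen : ∀ y ∈ W (i + 1), ∀ z : P, Commute (q y) (q z) := by
    intro y hy z
    have h3 := (hq1 _).1 (S.mc.comm_mem hy (x := z))
    rw [map_commutatorElement] at h3
    exact commutatorElement_eq_one_iff_mul_comm.1 h3
  have hcf : ∀ x, Commute ⁅q w1, q s⁆ x := by
    intro x
    obtain ⟨z, rfl⟩ := QuotientGroup.mk'_surjective _ x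
    have := hcen f hf1 z
    rwa [hf, map_commutatorElement] at this
  set v := w1⁻¹ * B with hv
  have hv1 : v ∈ W (i + 1) := ht1 ⟨w1, hw11⟩ hw1
  have hBv : B = w1 * v := by rw [hv]; group
  have h4 : q ⁅B, y⁆ = ⁅q w1, q s⁆ ^ k := by
    have h5 : Commute (q v) (q y) := hcen v hv1 y
    have h6 : q ⁅B, y⁆ = ⁅q w1, q y⁆ := by
      rw [hBv, map_commutatorElement, map_mul, commutatorElement_def, commutatorElement_def, mul_inv_rev]
      calc q w1 * q v * q y * ((q v)⁻¹ * (q w1)⁻¹) * (q y)⁻¹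
          = q w1 * (q v * q y * (q v)⁻¹) * (q w1)⁻¹ * (q y)⁻¹ := by group
        _ = q w1 * q y * (q w1)⁻¹ * (q y)⁻¹ := by rw [h5.eq, mul_inv_cancel_right]
    have h7 : ⁅q w1, q w⁆ = 1 := by
      rw [← map_commutatorElement]
      exact (hq1 _).1 (S.deg i 1 h1 le_rfl (commutator_mem_commutator hw1 hk))
    have h8 : ⁅q w1, q s ^ k * q w⁆ = ⁅q w1, q s ^ k⁆ * (q s ^ k * ⁅q w1, q w⁆ * (q s ^ k)⁻¹) := by
      simp only [commutatorElement_def]; group
    rw [h6, hyk, map_mul, map_pow, h8, h7, mul_one, mul_inv_cancel, mul_one]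
    exact comm_pow_right hcf k
  have h5 : ⁅q w1, q s⁆ ^ k = ⁅q w1, q s⁆ := by
    rw [← h4, ← h3]
    have h6 := (hq1 _).1 (ht2 ⟨f, hf3⟩ hf1)
    rw [map_mul, map_inv] at h6
    have h7 := (inv_mul_eq_one.1 h6).symm
    rw [h7]
    exact map_commutatorElement q w1 s
  have hord : orderOf ⁅q w1, q s⁆ = p := by
    have h6 : ⁅q w1, q s⁆ = q f := (map_commutatorElement q w1 s).symm
    rw [h6]
    refine orderOf_eq_prime ?_ ?_
    · rw [← map_pow]
      exact (hq1 _).1 (S.mc.pow_p_mem hf1)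
    · intro h8
      exact hf2 ((hq1 _).2 h8)
  have hk0 : 1 ≤ k := by
    rcases Nat.eq_zero_or_pos k with h6 | h6
    · exfalso
      rw [h6, pow_zero] at h5
      have : orderOf ⁅q w1, q s⁆ = 1 := orderOf_eq_one_iff.2 h5.symm
      rw [hord] at this
      exact hp.out.ne_one this
    · exact h6
  have hkp : p ∣ k - 1 := by
    have h6 : ⁅q w1, q s⁆ ^ k = ⁅q w1, q s⁆ ^ 1 := by rw [h5, pow_one]
    have h7 := pow_eq_pow_iff_modEq.1 h6
    rw [hord] at h7
    exact (Nat.modEq_iff_dvd' hk0).1 h7.symm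
  refine S.mem_conjGrp ha hs ?_
  rw [hy]
  have h6 : y * s⁻¹ ∈ W 1 := by
    obtain ⟨c, hc⟩ := hkp
    have h7 : y * s⁻¹ = (s ^ p) ^ c * (s * w * s⁻¹) := by
      rw [← pow_mul, ← hc, hyk]
      have : s ^ k = s ^ (k - 1) * s := by rw [← pow_succ]; congr 1; omega
      rw [this]
      group
    rw [h7]
    exact mul_mem (pow_mem (S.mc.pow_index_mem s) c) (hN1.conj_mem w hk s)
  have h7 : MulAut.conjNormal (H := W 1) y * (MulAut.conjNormal (H := W 1) s)⁻¹ =
      MulAut.conjNormal (H := W 1) (y * s⁻¹) := by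
    rw [map_mul, map_inv]
  rw [h7]
  exact conjNormal_mem_inn h6

end Sit

end Cfsg.Agent.H779.Core
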