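import Cfsg.Agent.H779.CoreThreeInv

/-!
# Block N1 of S5267 (helper779): the pattern of the chief factors of `A` in `W 1`
-/

set_option autoImplicit false
set_option linter.unusedSectionVars false

namespace Cfsg.Agent.H779.Core

open Subgroup Cfsg.Agent.H467.MaxClass Cfsg.Agent.H786
open scoped commutatorElement

universe u

variable {P : Type u} [Group P] {p n : ℕ} {W : ℕ → Subgroup P} [hN1 : (W 1).Normal] {A : Subgroup (MulAut (W 1))}
variable [hp : Fact p.Prime] [Finite P]

namespace Sit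

/-- between two invariant terms at distance at least 2 there is a factor of rank at least 2 -/
theorem exists_big (S : Sit p n W A) (hnn : ∃ a ∈ A, ¬ Nor a) {i k : ℕ} (h1 : 1 ≤ i) (h2 : i + 2 ≤ k) (h3 : k ≤ n)
    (hi : AInv A (W i)) (hk : AInv A (W k)) : ∃ i1 i2, i ≤ i1 ∧ i1 + 2 ≤ i2 ∧ i2 ≤ k ∧ Cons n W A i1 i2 := by
  obtain ⟨i', hc⟩ := exists_cons S.mc h1 (by omega) hi
  have h4 : i' ≤ k := by
    by_contra hlt
    exact hc.none k (by omega) (by omega) hk
  rcases Nat.lt_or_ge i' (i + 2) with h5 | h5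
  · have h6 := hc.lt
    have h7 : i' = i + 1 := by omega
    subst h7
    obtain ⟨i'', hc2⟩ := exists_cons S.mc (i := i + 1) (by omega) (by omega) hc.inv'
    have h8 : i'' ≤ k := by
      by_contra hlt
      exact hc2.none k (by omega) (by omega) hk
    have h9 := hc2.lt
    rcases Nat.lt_or_ge i'' (i + 3) with h10 | h10
    · have h11 : i'' = i + 2 := by omega
      subst h11
      exact (S.no_three hnn h1 (by omega) hi hc.inv' hc2.inv').elim
    · exact ⟨i + 1, i'', by omega, by omega, h8, hc2⟩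
  · exact ⟨i, i', le_rfl, h5, h4, hc⟩

omit hN1 hp [Finite P] in
theorem inv_inf {U V : Subgroup (W 1)} (hU : Inv A U) (hV : Inv A V) : Inv A (U ⊓ V) :=
  fun a ha e he => ⟨hU a ha e he.1, hV a ha e he.2⟩

omit hN1 hp [Finite P] in
theorem inv_center : Inv A (Subgroup.center (W 1)) := by
  intro a _ e he
  rw [Subgroup.mem_center_iff] at he ⊢
  intro f
  have h1 := congrArg a (he (a⁻¹ f))
  rwa [map_mul, map_mul, MulAut.apply_inv_self] at h1

omit hN1 hp [Finite P] in
theorem inv_centralizer {U : Subgroup (W 1)} (hU : Inv A U) : Inv A (Subgroup.centralizer (U : Set (W 1))) := by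
  intro a ha e he
  rw [Subgroup.mem_centralizer_iff] at he ⊢
  intro f hf
  have h1 := congrArg a (he (a⁻¹ f) (hU a⁻¹ (inv_mem ha) f hf))
  rwa [map_mul, map_mul, MulAut.apply_inv_self] at h1

/-- `W (n - 2)` is central in `W 1` -/
theorem le_center (S : Sit p n W A) : BB W (n - 2) ≤ Subgroup.center (W 1) := by
  have h4 := S.mc.four_le
  intro e he
  rw [Subgroup.mem_center_iff]
  intro f
  have h1 : ⁅(e : P), (f : P)⁆ ∈ W (n - 2 + 1 + 1) := S.deg (n - 2) 1 (by omega) le_rfl (commutator_mem_commutator he f.2)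
  rw [show n - 2 + 1 + 1 = n by omega, S.mc.bot, Subgroup.mem_bot] at h1
  exact Subtype.ext (commutatorElement_eq_one_iff_mul_comm.1 h1).symm

/-- `W 1 / Z (W 1)` is not cyclic -/
theorem three_le_of_center (S : Sit p n W A) {j : ℕ} (h1 : 1 ≤ j) (hj : BB W j ≤ Subgroup.center (W 1)) : 3 ≤ j := by
  have h4 := S.mc.four_le
  by_contra hlt
  apply S.nonab
  have h2 : BB W 2 ≤ Subgroup.center (W 1) := (BB_mono S.mc (by omega)).trans hj
  obtain ⟨w, hw, hw'⟩ := S.mc.ne_succ (show 1 < n by omega)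
  rw [eq_bot_iff, commutator_le]
  intro x hx y hy
  obtain ⟨k, hk⟩ := S.mc.exists_zpow (show 1 < n by omega) hw hw' hx
  obtain ⟨l, hl⟩ := S.mc.exists_zpow (show 1 < n by omega) hw hw' hy
  have hcen : ∀ u ∈ W 2, ∀ v ∈ W 1, Commute u v := by
    intro u hu v hv
    have h5 : (⟨u, S.mc.le_succ 1 hu⟩ : W 1) ∈ Subgroup.center (W 1) := h2 hu
    have h6 := congrArg Subtype.val ((Subgroup.mem_center_iff.1 h5) ⟨v, hv⟩)
    exact h6.symm
  have hx' : x = w ^ k * ((w ^ k)⁻¹ * x) := by group
  have hy' : y = w ^ l * ((w ^ l)⁻¹ * y) := by group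
  have h7 : Commute x y := by
    rw [hx', hy']
    set u := (w ^ k)⁻¹ * x
    set v := (w ^ l)⁻¹ * y
    have c1 : Commute (w ^ k) (w ^ l) := (Commute.refl w).zpow_zpow k l
    have c2 : Commute (w ^ k) v := (hcen v hl _ (zpow_mem hw k)).symm
    have c3 : Commute u (w ^ l) := hcen u hk _ (zpow_mem hw l)
    have c4 : Commute u v := hcen u hk v (S.mc.le_succ 1 hl)
    exact (c1.mul_right c2).mul_left (c3.mul_right c4)
  rw [Subgroup.mem_bot, commutatorElement_eq_one_iff_mul_comm]
  exact h7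

/-- `W (n - (p - 1)) = Ω₁ (W 1)` if `p + 2 ≤ n`. -/
theorem mem_omega_iff (S : Sit p n W A) (hn : p + 2 ≤ n) (e : W 1) :
    (e : P) ∈ W (n - (p - 1)) ↔ (e : P) ^ p = 1 := by
  classical
  have h5 := S.five
  constructor
  · intro he
    have h1 := S.mc.pow_mem_one (by omega) hn (show 1 ≤ n - (p - 1) by omega) he
    rw [show n - (p - 1) + p - 1 = n by omega, S.mc.bot, Subgroup.mem_bot] at h1
    exact h1
  · intro he
    by_contra hcon
    set k := Nat.findGreatest (fun k => (e : P) ∈ W k) n with hk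
    have hek : (e : P) ∈ W k := Nat.findGreatest_spec (P := fun k => (e : P) ∈ W k) (m := 1) (by omega) e.2
    have hk1 : 1 ≤ k := Nat.le_findGreatest (by omega) e.2
    have hkn : k < n - (p - 1) := by
      by_contra hlt
      exact hcon (S.mc.antitone (by omega) hek)
    have hek' : (e : P) ∉ W (k + 1) := by
      intro h6
      have := Nat.le_findGreatest (P := fun k => (e : P) ∈ W k) (show k + 1 ≤ n by omega) h6
      omega
    apply S.mc.pow_notMem_one (by omega) hn hk1 (show k + p ≤ n by omega) hek hek'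
    rw [he]
    exact one_mem _

theorem inv_omega (S : Sit p n W A) (hn : p + 2 ≤ n) : AInv A (W (n - (p - 1))) := by
  intro a _ e he
  rw [S.mem_omega_iff hn] at he ⊢
  have h1 : e ^ p = 1 := Subtype.ext he
  have h2 := congrArg a h1
  rw [map_pow, map_one] at h2
  exact congrArg Subtype.val h2

/-- **Block N1: the pattern.** -/
theorem pattern (S : Sit p n W A) (hnn : ∃ a ∈ A, ¬ Nor a)
    (hne : p + 2 ≤ n → ⁅W (n - (p - 1)), W 1⁆ ≠ ⊥) :
    (∃ i i', Cons n W A i i' ∧ i + 2 ≤ i' ∧ 2 * (i' - i) ≤ p - 1) ∨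
    (p + 2 ≤ n ∧ ⁅W (n - (p - 1)), W 2⁆ = ⊥ ∧ ⁅W (n - (p - 1)), W 1⁆ ≤ W (n - 1) ∧ AInv A (W (n - 1))) := by
  have h4 := S.mc.four_le
  have h5 := S.five
  have hodd : Odd p := hp.out.odd_of_ne_two (by omega)
  obtain ⟨r, hr⟩ := hodd
  by_contra hcon
  rw [not_or] at hcon
  obtain ⟨hns, hcon⟩ := hcon
  -- all factors of rank at least 2 are big
  have hbig : ∀ i k, 1 ≤ i → i + 2 ≤ k → k ≤ n → AInv A (W i) → AInv A (W k) → p + 1 ≤ 2 * (k - i) := by
    intro i k h1 h2 h3 hi hk
    obtain ⟨i1, i2, h6, h7, h8, h9⟩ := S.exists_big hnn h1 h2 h3 hi hk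
    by_contra hlt
    apply hns
    refine ⟨i1, i2, h9, h7, ?_⟩
    omega
  have hinvn : AInv A (W n) := by
    intro a _ e he
    have h2 : (e : P) = 1 := by
      rw [S.mc.bot] at he
      exact Subgroup.mem_bot.1 he
    have h3 : e = 1 := Subtype.ext h2
    rw [h3, map_one]
    exact one_mem _
  have hinv1 : AInv A (W 1) := fun a _ e _ => (a e).2
  rcases Nat.lt_or_ge n (p + 2) with hn | hn
  · -- small case
    obtain ⟨j, hj1, hj2, hj⟩ := class_of_inv S.mc (Subgroup.center (W 1)) (fun a ha => inv_center a (S.conj_le ha))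
    have hj3 : 3 ≤ j := S.three_le_of_center hj1 (by rw [hj])
    have hjn : j ≤ n - 2 := BB_le_iff S.mc (by omega) (by omega) (by
      have := S.le_center
      rwa [hj] at this)
    have hinvj : AInv A (W j) := by
      rw [AInv_iff, ← hj]
      exact inv_center
    have h6 := hbig 1 j le_rfl (by omega) hj2 hinv1 hinvj
    have h7 := hbig j n hj1 (by omega) le_rfl hinvj hinvn
    omega
  · -- big case
    set m := n - (p - 1) with hm
    have hinvm : AInv A (W m) := S.inv_omega hn
    have hinvm' : Inv A (BB W m) := hinvm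
    have hne := hne hn
    obtain ⟨j, hj1, hj2, hj⟩ := class_of_inv S.mc (BB W m ⊓ Subgroup.center (W 1))
      (fun a ha => inv_inf hinvm' inv_center a (S.conj_le ha))
    have hinvj : AInv A (W j) := by
      rw [AInv_iff, ← hj]
      exact inv_inf hinvm' inv_center
    have hjn : j ≤ n - 2 := BB_le_iff S.mc (by omega) (by omega) (by
      intro e he
      have : e ∈ BB W m ⊓ Subgroup.center (W 1) := ⟨S.mc.antitone (by omega) he, S.le_center he⟩
      rwa [hj] at this)
    have hmj : m ≤ j := BB_le_iff S.mc hj1 (by omega) (by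
      intro e he
      have : e ∈ BB W m ⊓ Subgroup.center (W 1) := by rw [hj]; exact he
      exact this.1)
    have hjm : j ≠ m := by
      intro hjm0
      apply hne
      rw [eq_bot_iff, commutator_le]
      intro x hx y hy
      have h6 : (⟨x, S.mc.antitone (show 1 ≤ m by omega) hx⟩ : W 1) ∈ BB W m ⊓ Subgroup.center (W 1) := by
        rw [hj]
        show x ∈ W j
        rw [hjm0]
        exact hx
      have h7 := congrArg Subtype.val ((Subgroup.mem_center_iff.1 h6.2) ⟨y, hy⟩)
      rw [Subgroup.mem_bot, commutatorElement_eq_one_iff_mul_comm]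
      exact h7.symm
    have hjm1 : j = m + 1 := by
      by_contra hne2
      have h6 := hbig m j (by omega) (by omega) hj2 hinvm hinvj
      have h7 := hbig j n hj1 (by omega) le_rfl hinvj hinvn
      omega
    subst hjm1
    have hcen : ∀ x ∈ W (m + 1), ∀ y ∈ W 1, Commute x y := by
      intro x hx y hy
      have h6 : (⟨x, S.mc.antitone hj1 hx⟩ : W 1) ∈ BB W m ⊓ Subgroup.center (W 1) := by rw [hj]; exact hx
      have h7 := congrArg Subtype.val ((Subgroup.mem_center_iff.1 h6.2) ⟨y, hy⟩)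
      exact h7.symm
    -- the commutator
    obtain ⟨g, hg1, hg2, hg⟩ := class_of_inv S.mc ⁅BB W m, (⊤ : Subgroup (W 1))⁆
      (fun a ha => inv_comm hinvm' (fun _ _ _ _ => Subgroup.mem_top _) a (S.conj_le ha))
    have hinvg : AInv A (W g) := by
      rw [AInv_iff, ← hg]
      exact inv_comm hinvm' (fun _ _ _ _ => Subgroup.mem_top _)
    have hgn : g < n := by
      by_contra hlt
      apply hne
      rw [eq_bot_iff, commutator_le]
      intro x hx y hy
      have h6 : ⁅(⟨x, S.mc.antitone (by omega) hx⟩ : W 1), (⟨y, hy⟩ : W 1)⁆ ∈ ⁅BB W m, (⊤ : Subgroup (W 1))⁆ :=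
        commutator_mem_commutator hx (Subgroup.mem_top _)
      rw [hg] at h6
      have h7 : ⁅x, y⁆ ∈ W g := h6
      rwa [S.mc.bot_of_le (not_lt.1 hlt)] at h7
    have hgm : m + 2 ≤ g := BB_le_iff S.mc hg1 hgn (by
      have h6 : ⁅BB W m, (⊤ : Subgroup (W 1))⁆ ≤ BB W (m + 2) := by
        rw [commutator_le]
        intro x hx y _
        exact S.deg m 1 (by omega) le_rfl (commutator_mem_commutator hx y.2)
      rwa [hg] at h6)
    have hgn1 : g = n - 1 := by
      by_contra hne2
      rcases Nat.lt_or_ge g (m + 3) with h6 | h6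
      · have h7 : g = m + 2 := by omega
        subst h7
        exact S.no_three hnn (by omega) (by omega) hinvm hinvj hinvg
      · have h7 := hbig (m + 1) g (by omega) (by omega) hg2 hinvj hinvg
        have h8 := hbig g n hg1 (by omega) le_rfl hinvg hinvn
        omega
    subst hgn1
    have hcomm : ∀ x ∈ W m, ∀ y ∈ W 1, ⁅x, y⁆ ∈ W (n - 1) := by
      intro x hx y hy
      have h6 : ⁅(⟨x, S.mc.antitone (by omega) hx⟩ : W 1), (⟨y, hy⟩ : W 1)⁆ ∈ ⁅BB W m, (⊤ : Subgroup (W 1))⁆ :=
        commutator_mem_commutator hx (Subgroup.mem_top _)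
      rw [hg] at h6
      exact h6
    apply hcon
    refine ⟨hn, ?_, ?_, hinvg⟩
    · -- the centralizer of `W m`
      obtain ⟨r', hr1, hr2, hr3⟩ := class_of_inv S.mc (Subgroup.centralizer (BB W m : Set (W 1)))
        (fun a ha => inv_centralizer hinvm' a (S.conj_le ha))
      have hmemC : ∀ (y : P) (hy : y ∈ W 1), (∀ x ∈ W m, Commute x y) → y ∈ W r' := by
        intro y hy hxy
        have h6 : (⟨y, hy⟩ : W 1) ∈ Subgroup.centralizer (BB W m : Set (W 1)) := by
          rw [Subgroup.mem_centralizer_iff]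
          intro f hf
          exact Subtype.ext (hxy f hf)
        rw [hr3] at h6
        exact h6
      have hCmem : ∀ y ∈ W r', ∀ x ∈ W m, Commute x y := by
        intro y hy x hx
        have hy1 : y ∈ W 1 := S.mc.antitone hr1 hy
        have h6 : (⟨y, hy1⟩ : W 1) ∈ Subgroup.centralizer (BB W m : Set (W 1)) := by
          rw [hr3]; exact hy
        have h7 := Subgroup.mem_centralizer_iff.1 h6 ⟨x, S.mc.antitone (by omega) hx⟩ hx
        exact congrArg Subtype.val h7
      obtain ⟨v, hv, hv'⟩ := S.mc.ne_succ (show m < n by omega)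
      have hone : ∀ y ∈ W 1, Commute v y → y ∈ W r' := by
        intro y hy hvy
        refine hmemC y hy fun x hx => ?_
        obtain ⟨k, hk⟩ := S.mc.exists_zpow (show m < n by omega) hv hv' hx
        have hx' : x = v ^ k * ((v ^ k)⁻¹ * x) := by group
        rw [hx']
        exact (hvy.zpow_left k).mul_left (hcen _ hk y hy)
      have hr2' : r' ≤ 2 := by
        by_contra hlt
        obtain ⟨e1, he1, he1'⟩ := S.mc.ne_succ (show 1 < n by omega)
        obtain ⟨e2, he2, he2'⟩ := S.mc.ne_succ (show 2 < n by omega)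
        have he21 : e2 ∈ W 1 := S.mc.le_succ 1 he2
        have hg1' : ⁅v, e1⁆ ∉ W (n - 1 + 1) := by
          rw [show n - 1 + 1 = n by omega, S.mc.bot, Subgroup.mem_bot]
          intro h6
          have h7 := hone e1 he1 (commutatorElement_eq_one_iff_mul_comm.1 h6)
          exact he1' (S.mc.antitone (by omega) h7)
        obtain ⟨c, hc⟩ := exists_pow S.mc (show n - 1 < n by omega) (hcomm v hv e1 he1) hg1' (hcomm v hv e2 he21)
        rw [show n - 1 + 1 = n by omega, S.mc.bot, Subgroup.mem_bot, inv_mul_eq_one] at hc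
        have hz : ∀ x ∈ W m, ∀ y ∈ W 1, ∀ z, Commute ⁅x, y⁆ z := fun x hx y hy z =>
          S.mc.center_le (hcomm x hx y hy) z
        have h6 : ⁅v, e1 ^ c⁆ = ⁅v, e1⁆ ^ c := comm_pow_right (hz v hv e1 he1) c
        have h7 : Commute v ((e1 ^ c)⁻¹ * e2) := by
          have h8 : ⁅v, e1 ^ c⁆ = ⁅v, e2⁆ := by rw [h6, hc]
          have h9 : v * (e1 ^ c) * v⁻¹ = ⁅v, e1 ^ c⁆ * e1 ^ c := by rw [commutatorElement_def]; group
          have h10 : v * e2 * v⁻¹ = ⁅v, e2⁆ * e2 := by rw [commutatorElement_def]; group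
          have h11 : v * ((e1 ^ c)⁻¹ * e2) * v⁻¹ = (e1 ^ c)⁻¹ * e2 := by
            calc v * ((e1 ^ c)⁻¹ * e2) * v⁻¹ = (v * (e1 ^ c) * v⁻¹)⁻¹ * (v * e2 * v⁻¹) := by group
              _ = (⁅v, e2⁆ * e1 ^ c)⁻¹ * (⁅v, e2⁆ * e2) := by rw [h9, h10, h8]
              _ = (e1 ^ c)⁻¹ * e2 := by group
          have h12 := congrArg (· * v) h11
          simp only [inv_mul_cancel_right] at h12
          exact h12
        have h8 := hone _ (mul_mem (inv_mem (pow_mem he1 c)) he21) h7
        have h9 : (e1 ^ c)⁻¹ * e2 ∈ W 2 := S.mc.antitone (by omega) h8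
        have h10 : e1 ^ c ∈ W 2 := by
          have h11 := mul_mem he2 (inv_mem h9)
          have h12 : e2 * ((e1 ^ c)⁻¹ * e2)⁻¹ = e1 ^ c := by group
          rwa [h12] at h11
        have h11 : p ∣ c := by
          by_contra hnd
          have h12 : e1 ∈ W 2 := mem_of_pow_coprime (W 2) (((Nat.Prime.coprime_iff_not_dvd hp.out).2 hnd).symm) h10
            (S.mc.pow_p_mem he1)
          exact he1' h12
        have h12 : ⁅v, e1⁆ ^ c = 1 := by
          obtain ⟨d, rfl⟩ := h11
          have h13 := S.mc.pow_p_mem (hcomm v hv e1 he1)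
          rw [show n - 1 + 1 = n by omega, S.mc.bot, Subgroup.mem_bot] at h13
          rw [pow_mul, h13, one_pow]
        rw [h12] at hc
        have h13 := hone e2 he21 (commutatorElement_eq_one_iff_mul_comm.1 hc.symm)
        exact he2' (S.mc.antitone (by omega) h13)
      rw [eq_bot_iff, commutator_le]
      intro x hx y hy
      rw [Subgroup.mem_bot, commutatorElement_eq_one_iff_mul_comm]
      exact hCmem y (S.mc.antitone hr2' hy) x hx
    · rw [commutator_le]
      intro x hx y hy
      exact hcomm x hx y hy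

end Sit

end Cfsg.Agent.H779.Core
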