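import Mathlib

/-!
# Norms and traces for an element of order `p` (helper779, part of S5267)

* `geom_end` : `1 + T + ... + T^(p-1) = (T - 1)^(p-1)` in characteristic `p`;
* `norm_eq_one` : the norm is trivial if `(T - 1)^(p-1) = 0`;
* `trace_fix` : the trace trick.
-/

set_option autoImplicit false

namespace Cfsg.Agent.H779.Core

open Finset

section norm

open Polynomial

theorem geom_poly (p : ℕ) [hp : Fact p.Prime] :
    (∑ i ∈ range p, (X : (ZMod p)[X]) ^ i) = (X - 1) ^ (p - 1) := by
  have h : (X - 1 : (ZMod p)[X]) ≠ 0 := by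
    have := Polynomial.X_sub_C_ne_zero (1 : ZMod p)
    simpa using this
  apply mul_right_cancel₀ h
  rw [geom_sum_mul, ← pow_succ, Nat.sub_add_cancel hp.out.one_lt.le, sub_pow_char, one_pow]

theorem geom_end {V : Type*} (p : ℕ) [hp : Fact p.Prime] [AddCommGroup V] [Module (ZMod p) V]
    (T : Module.End (ZMod p) V) : ∑ i ∈ range p, T ^ i = (T - 1) ^ (p - 1) := by
  have h := congrArg (aeval T) (geom_poly p)
  simpa using h

end norm

variable {X : Type*} [CommGroup X]

/-- the difference operator -/
def dif (t : MulAut X) (u : X) : X := t u * u⁻¹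

theorem norm_aux {V : Type*} (p : ℕ) [hp : Fact p.Prime] [AddCommGroup V] [Module (ZMod p) V]
    (T : Module.End (ZMod p) V) (v : V) :
    ∑ i ∈ range p, (fun u => T u)^[i] v = (fun u => T u - u)^[p - 1] v := by
  have h := congrArg (fun (f : Module.End (ZMod p) V) => f v) (geom_end p T)
  have h1 : ∀ i : ℕ, (T ^ i) v = (fun u => T u)^[i] v := by
    intro i
    rw [Module.End.pow_apply]
  have h2 : ∀ (i : ℕ), ((T - 1) ^ i) v = (fun u => T u - u)^[i] v := by
    intro i
    rw [Module.End.pow_apply]
    rfl
  simp only [LinearMap.sum_apply, h1, h2] at h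
  exact h

theorem norm_add {V : Type*} (p : ℕ) [hp : Fact p.Prime] [AddCommGroup V] (hexp : ∀ v : V, p • v = 0)
    (t : V →+ V) (v : V) :
    ∑ i ∈ range p, (fun u => t u)^[i] v = (fun u => t u - u)^[p - 1] v := by
  let _ : Module (ZMod p) V := AddCommGroup.zmodModule hexp
  exact norm_aux p (t.toZModLinearMap p) v

/-- **The norm is trivial.** -/
theorem norm_eq_one {p : ℕ} [hp : Fact p.Prime] (hexp : ∀ v : X, v ^ p = 1) (t : MulAut X)
    (hnil : ∀ v, (dif t)^[p - 1] v = 1) (v : X) : ∏ i ∈ range p, (t ^ i) v = 1 := by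
  have h := norm_add p (V := Additive X) (fun v => hexp v.toMul) (MonoidHom.toAdditive t.toMonoidHom)
    (Additive.ofMul v)
  have h1 : ∀ i : ℕ, (fun u => (MonoidHom.toAdditive t.toMonoidHom) u)^[i] (Additive.ofMul v) =
      Additive.ofMul ((t ^ i) v) := by
    intro i
    induction i with
    | zero => rfl
    | succ i ih =>
      rw [Function.iterate_succ_apply', ih, pow_succ', MulAut.mul_apply]
      rfl
  have h2 : ∀ (i : ℕ), (fun u => (MonoidHom.toAdditive t.toMonoidHom) u - u)^[i] (Additive.ofMul v) =
      Additive.ofMul ((dif t)^[i] v) := by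
    intro i
    induction i with
    | zero => rfl
    | succ i ih =>
      rw [Function.iterate_succ_apply', Function.iterate_succ_apply', ih]
      show Additive.ofMul (t ((dif t)^[i] v)) - Additive.ofMul ((dif t)^[i] v) = _
      rw [← ofMul_div, div_eq_mul_inv]
      rfl
  simp only [h1, h2, hnil] at h
  rw [← ofMul_prod] at h
  exact Additive.ofMul.injective h

theorem commute_of_pow {G : Type*} [Group G] {p : ℕ} (hp : p.Prime) {x c : G} (hxp : x ^ p = 1) {k : ℕ} (hk0 : 0 < k)
    (hk : k < p) (h : Commute (x ^ k) c) : Commute x c := by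
  have hcop : Nat.Coprime k p := (Nat.coprime_of_lt_prime hk0.ne' hk hp).symm
  have hb : (k : ℤ) * Nat.gcdA k p + (p : ℤ) * Nat.gcdB k p = 1 := by
    have h1 := Nat.gcd_eq_gcd_ab k p
    rw [hcop.gcd_eq_one] at h1
    rw [← h1]; rfl
  have hx : x = (x ^ k) ^ (Nat.gcdA k p) := by
    calc x = x ^ (1 : ℤ) := (zpow_one x).symm
      _ = x ^ ((k : ℤ) * Nat.gcdA k p + (p : ℤ) * Nat.gcdB k p) := by rw [hb]
      _ = (x ^ k) ^ (Nat.gcdA k p) := by
        rw [zpow_add, zpow_mul, zpow_mul, zpow_natCast, zpow_natCast, hxp, one_zpow, mul_one]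
  rw [hx]
  exact h.zpow_left _

/-- **The trace trick.** -/
theorem trace_fix {G : Type*} [Group G] (ρ : G →* MulAut X) {p : ℕ} [hp : Fact p.Prime] {x : G}
    (hxp : x ^ p = 1) (hN : ∀ v, ∏ i ∈ range p, (ρ x ^ i) v = 1) (C : Subgroup G) [Finite C]
    (hxC : ∀ c ∈ C, x * c * x⁻¹ ∈ C) (hfix : ∀ c ∈ C, x * c = c * x → c = 1) {w : X} (hw : ρ x w = w) :
    ∀ c ∈ C, ρ c w = w := by
  classical
  have hwi : ∀ i : ℕ, (ρ (x ^ i)⁻¹) w = w := by
    intro i
    have h1 : ρ (x ^ i) w = w := by
      induction i with
      | zero => simp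
      | succ i ih => rw [pow_succ, map_mul, MulAut.mul_apply, hw, ih]
    rw [map_inv]
    conv_lhs => rw [← h1]
    exact MulAut.inv_apply_self _ _ _
  have key : ∀ (m : ℕ) (s : Finset G), s.card = m → (∀ c ∈ s, c ∈ C ∧ c ≠ 1) → (∀ c ∈ s, x * c * x⁻¹ ∈ s) →
      ∏ c ∈ s, ρ c w = 1 := by
    intro m
    induction m using Nat.strong_induction_on with
    | _ m ih =>
      intro s hs h1 h2
      rcases s.eq_empty_or_nonempty with rfl | ⟨c, hc⟩
      · simp
      set f : ℕ → G := fun i => x ^ i * c * (x ^ i)⁻¹ with hf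
      have hfs : ∀ i, f i ∈ s := by
        intro i
        induction i with
        | zero => simpa [hf] using hc
        | succ i ihi =>
          have := h2 _ ihi
          have he : x * f i * x⁻¹ = f (i + 1) := by
            simp only [hf, pow_succ']
            group
          rwa [he] at this
      have hinj : Set.InjOn f (range p : Set ℕ) := by
        have aux : ∀ i j, i < j → j < p → f i = f j → False := by
          intro i j hij hj he
          have h3 : Commute (x ^ (j - i)) c := by
            have h4 : x ^ j = x ^ i * x ^ (j - i) := by rw [← pow_add]; congr 1; omega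
            simp only [hf, h4] at he
            have h5 : c = x ^ (j - i) * c * (x ^ (j - i))⁻¹ := by
              have : x ^ i * c * (x ^ i)⁻¹ = x ^ i * (x ^ (j - i) * c * (x ^ (j - i))⁻¹) * (x ^ i)⁻¹ := by
                rw [he]; group
              exact mul_left_cancel (mul_right_cancel this)
            show x ^ (j - i) * c = c * x ^ (j - i)
            conv_rhs => rw [h5]
            group
          have h6 := commute_of_pow hp.out hxp (by omega) (by omega) h3
          exact (h1 c hc).2 (hfix c (h1 c hc).1 h6)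
        intro i hi j hj he
        simp only [coe_range, Set.mem_Iio] at hi hj
        rcases lt_trichotomy i j with h | h | h
        · exact (aux i j h hj he).elim
        · exact h
        · exact (aux j i h hi he.symm).elim
      set O : Finset G := (range p).image f with hO
      have hOs : O ⊆ s := by
        intro y hy
        obtain ⟨i, -, rfl⟩ := Finset.mem_image.1 hy
        exact hfs i
      have hcO : c ∈ O := Finset.mem_image.2 ⟨0, by simp [hp.out.pos], by simp [hf]⟩
      have hprodO : ∏ c' ∈ O, ρ c' w = 1 := by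
        rw [hO, Finset.prod_image hinj, ← hN (ρ c w)]
        refine Finset.prod_congr rfl fun i _ => ?_
        simp only [hf]
        rw [map_mul, map_mul, MulAut.mul_apply, MulAut.mul_apply, hwi, map_pow]
      have hsd : ∏ c' ∈ s \ O, ρ c' w = 1 := by
        refine ih (s \ O).card ?_ (s \ O) rfl (fun c' hc' => h1 c' (Finset.mem_sdiff.1 hc').1) ?_
        · rw [← hs]
          exact Finset.card_lt_card (Finset.sdiff_ssubset hOs ⟨c, hcO⟩)
        · intro c' hc'
          obtain ⟨h3, h4⟩ := Finset.mem_sdiff.1 hc'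
          refine Finset.mem_sdiff.2 ⟨h2 _ h3, fun h5 => h4 ?_⟩
          obtain ⟨i, hi, he⟩ := Finset.mem_image.1 h5
          have hc'' : c' = x⁻¹ * f i * x := by rw [he]; group
          rcases Nat.eq_zero_or_pos i with rfl | hi0
          · refine Finset.mem_image.2 ⟨p - 1, by simp [hp.out.pos], ?_⟩
            have hx' : x ^ (p - 1) = x⁻¹ := by
              have : x ^ (p - 1) * x = 1 := by rw [← pow_succ, Nat.sub_add_cancel hp.out.one_lt.le, hxp]
              exact eq_inv_of_mul_eq_one_left this
            rw [hc'']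
            simp only [hf, hx']
            group
          · refine Finset.mem_image.2 ⟨i - 1, ?_, ?_⟩
            · rw [Finset.mem_range] at hi ⊢
              omega
            · have hx' : x ^ i = x * x ^ (i - 1) := by rw [← pow_succ']; congr 1; omega
              rw [hc'']
              simp only [hf, hx']
              group
      rw [← Finset.prod_sdiff hOs, hsd, hprodO, one_mul]
  have hCfin : (C : Set G).Finite := Set.toFinite _
  set s : Finset G := hCfin.toFinset with hs
  have hmem : ∀ c, c ∈ s ↔ c ∈ C := by intro c; simp [hs]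
  have htot : ∏ c ∈ s, ρ c w = w := by
    have h1 : (1 : G) ∈ s := (hmem 1).2 (one_mem C)
    rw [← Finset.insert_erase h1, Finset.prod_insert (Finset.notMem_erase _ _)]
    rw [key _ (s.erase 1) rfl]
    · simp
    · intro c hc
      obtain ⟨h2, h3⟩ := Finset.mem_erase.1 hc
      exact ⟨(hmem c).1 h3, h2⟩
    · intro c hc
      obtain ⟨h2, h3⟩ := Finset.mem_erase.1 hc
      refine Finset.mem_erase.2 ⟨fun h4 => h2 ?_, (hmem _).2 (hxC c ((hmem c).1 h3))⟩
      have : c = x⁻¹ * (x * c * x⁻¹) * x := by group
      rw [this, h4]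
      group
  intro c hc
  conv_lhs => rw [← htot]
  rw [map_prod]
  conv_rhs => rw [← htot]
  refine Finset.prod_bij' (fun g _ => c * g) (fun g _ => c⁻¹ * g) ?_ ?_ ?_ ?_ ?_
  · intro g hg
    exact (hmem _).2 (mul_mem hc ((hmem g).1 hg))
  · intro g hg
    exact (hmem _).2 (mul_mem (inv_mem hc) ((hmem g).1 hg))
  · intro g _; group
  · intro g _; group
  · intro g _
    rw [map_mul, MulAut.mul_apply]

end Cfsg.Agent.H779.Core
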