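import Cfsg.Agent.H779.CoreBase
import Cfsg.Agent.H779.CoreNorm

/-!
# Automorphism groups of `W 1` with Sylow `p`-subgroup `Aut_P (W 1)` (helper779, part of S5267)

`Sit` : the situation; `Cons` : two consecutive invariant terms of the chain;
`mem_conjGrp` : the centralizer of the Sylow `p`-subgroup modulo inner automorphisms.
-/

set_option autoImplicit false
set_option linter.unusedSectionVars false

namespace Cfsg.Agent.H779.Core

open Subgroup Cfsg.Agent.H467.MaxClass Cfsg.Agent.H786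
open scoped commutatorElement

universe u

variable {P : Type u} [Group P] {p n : ℕ} {W : ℕ → Subgroup P} [hN1 : (W 1).Normal]

/-- **The situation.** -/
structure Sit (p n : ℕ) (W : ℕ → Subgroup P) [(W 1).Normal] (A : Subgroup (MulAut (W 1))) : Prop where
  mc : MC P p n W
  deg : ∀ i j, 1 ≤ i → 1 ≤ j → ⁅W i, W j⁆ ≤ W (i + j + 1)
  five : 5 ≤ p
  conj_le : conjGrp (W 1) ≤ A
  sylow : ¬ p ∣ (conjGrp (W 1)).relIndex A
  nonab : ⁅W 1, W 1⁆ ≠ ⊥

/-- `W i` inside `W 1` -/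
abbrev BB (W : ℕ → Subgroup P) (i : ℕ) : Subgroup (W 1) := (W i).subgroupOf (W 1)

omit hN1 in
theorem mem_BB {i : ℕ} {e : W 1} : e ∈ BB W i ↔ (e : P) ∈ W i := Iff.rfl

omit hN1 in
theorem BB_le_iff (h : MC P p n W) [hp : Fact p.Prime] {i j : ℕ} (hi1 : 1 ≤ i) (hi : i < n) (hle : BB W i ≤ BB W j) :
    j ≤ i := by
  obtain ⟨a, ha, ha'⟩ := h.ne_succ hi
  by_contra hlt
  apply ha'
  have : (⟨a, h.antitone hi1 ha⟩ : W 1) ∈ BB W j := hle ha
  exact h.antitone (show i + 1 ≤ j by omega) this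

omit hN1 in
theorem BB_mono (h : MC P p n W) {i j : ℕ} (hij : i ≤ j) : BB W j ≤ BB W i := fun _ he => h.antitone hij he

/-- consecutive invariant terms -/
structure Cons (n : ℕ) (W : ℕ → Subgroup P) (A : Subgroup (MulAut (W 1))) (i i' : ℕ) : Prop where
  one_le : 1 ≤ i
  lt : i < i'
  le : i' ≤ n
  inv : AInv A (W i)
  inv' : AInv A (W i')
  none : ∀ j, i < j → j < i' → ¬ AInv A (W j)

variable {A : Subgroup (MulAut (W 1))}

omit hN1 in
theorem inn_conj (a : MulAut (W 1)) {c : MulAut (W 1)} (hc : c ∈ inn (W 1)) : a * c * a⁻¹ ∈ inn (W 1) := by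
  obtain ⟨w, rfl⟩ := hc
  refine ⟨a w, ?_⟩
  ext e
  simp

theorem aut_conj (a : MulAut (W 1)) (w : W 1) :
    a * MulAut.conjNormal (H := W 1) (w : P) * a⁻¹ = MulAut.conjNormal (H := W 1) ((a w : W 1) : P) := by
  rw [← conj_eq, ← conj_eq]
  ext e
  simp

/-- An automorphism commuting with `c_s` modulo inner automorphisms normalizes `conjGrp`. -/
theorem nor_of_centralizes (h : MC P p n W) [hp : Fact p.Prime] {s u : P} (hs : s ∉ W 1) {a : MulAut (W 1)}
    (hc : a * MulAut.conjNormal (H := W 1) s * a⁻¹ = MulAut.conjNormal (H := W 1) (u * s)) : Nor a := by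
  intro x
  obtain ⟨k, w, hw, rfl⟩ := exists_zp h hs x
  refine ⟨(u * s) ^ k * ((a ⟨w, hw⟩ : W 1) : P), ?_⟩
  rw [map_mul, map_mul, map_zpow, map_zpow, ← hc, ← aut_conj a ⟨w, hw⟩, conj_zpow]
  group

namespace Sit

variable [hp : Fact p.Prime] [Finite P]

omit hp [Finite P] in
theorem pgroup (S : Sit p n W A) : IsPGroup p P := IsPGroup.of_card S.mc.card_group

/-- the Sylow `p`-subgroup of `A` -/
noncomputable def syl (S : Sit p n W A) : Sylow p A :=
  IsPGroup.toSylow (P := (conjGrp (W 1)).subgroupOf A) (by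
    have h1 : IsPGroup p (conjGrp (W 1)) := by
      have : IsPGroup p (MulAut.conjNormal (H := W 1)).range :=
        S.pgroup.of_surjective (MulAut.conjNormal (H := W 1)).rangeRestrict
          (MulAut.conjNormal (H := W 1)).rangeRestrict_surjective
      exact this
    exact h1.comap_of_injective _ (Subgroup.subtype_injective A)) S.sylow

theorem mem_syl (S : Sit p n W A) {a : A} : a ∈ (S.syl : Subgroup A) ↔ (a : MulAut (W 1)) ∈ conjGrp (W 1) := Iff.rfl

/-- a `p`-element normalizing `conjGrp` lies in it -/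
theorem mem_of_pow (S : Sit p n W A) {a : MulAut (W 1)} (ha : a ∈ A) (hn : Nor a) {k : ℕ} (hk : a ^ p ^ k = 1) :
    a ∈ conjGrp (W 1) := by
  set b : A := ⟨a, ha⟩ with hb
  have hbk : b ^ p ^ k = 1 := Subtype.ext hk
  have hpg : IsPGroup p (Subgroup.zpowers b) := by
    obtain ⟨j, -, hj⟩ := (Nat.dvd_prime_pow hp.out).1 (orderOf_dvd_of_pow_eq_one hbk)
    refine IsPGroup.of_card (n := j) ?_
    rw [Nat.card_zpowers, hj]
  have h1 := hpg.inf_normalizer_sylow S.syl
  have hbN : b ∈ Subgroup.normalizer ((S.syl : Subgroup A) : Set A) := by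
    refine Subgroup.mem_normalizer_fintype ?_
    rintro c hc
    obtain ⟨x, hx⟩ := S.mem_syl.1 hc
    obtain ⟨y, hy⟩ := hn x
    refine S.mem_syl.2 ⟨y, ?_⟩
    rw [← hy, hx]
    rfl
  have h2 : b ∈ Subgroup.zpowers b ⊓ (S.syl : Subgroup A) := by
    rw [← h1]
    exact ⟨Subgroup.mem_zpowers b, hbN⟩
  exact h2.2

/-- **The centralizer of the Sylow `p`-subgroup modulo inner automorphisms.** -/
theorem mem_conjGrp (S : Sit p n W A) {a : MulAut (W 1)} (ha : a ∈ A) {s : P} (hs : s ∉ W 1)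
    (hc : a * MulAut.conjNormal (H := W 1) s * a⁻¹ * (MulAut.conjNormal (H := W 1) s)⁻¹ ∈ inn (W 1)) :
    a ∈ conjGrp (W 1) := by
  obtain ⟨u, hu⟩ := hc
  have h1 : a * MulAut.conjNormal (H := W 1) s * a⁻¹ = MulAut.conjNormal (H := W 1) ((u : P) * s) := by
    rw [map_mul, ← conj_eq, hu]
    group
  have hN := nor_of_centralizes S.mc hs h1
  obtain ⟨k, hk⟩ := pow_of_triv S.mc (triv_of_centralizes S.mc S.deg S.nonab hs u.2 hN h1)
  exact S.mem_of_pow ha hN hk

theorem exists_s (S : Sit p n W A) : ∃ s : P, s ∉ W 1 := by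
  have h4 := S.mc.four_le
  obtain ⟨s, -, hs⟩ := S.mc.ne_succ (show 0 < n by omega)
  exact ⟨s, hs⟩

/-- the `p`-th power of an element of `conjGrp` is inner -/
theorem pow_mem_inn (S : Sit p n W A) {c : MulAut (W 1)} (hc : c ∈ conjGrp (W 1)) : c ^ p ∈ inn (W 1) := by
  obtain ⟨x, rfl⟩ := hc
  rw [← map_pow]
  exact conjNormal_mem_inn (S.mc.pow_index_mem x)

/-- elements of `conjGrp` acting trivially on `W i / W (i + 2)` are inner -/
theorem mem_inn_of_triv (S : Sit p n W A) {c : MulAut (W 1)} (hc : c ∈ conjGrp (W 1)) {i : ℕ} (h1 : 1 ≤ i)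
    (hi : i + 1 < n) (htr : ∀ e : W 1, (e : P) ∈ W i → (e : P)⁻¹ * ((c e : W 1) : P) ∈ W (i + 2)) :
    c ∈ inn (W 1) := by
  obtain ⟨x, rfl⟩ := hc
  by_cases hx : x ∈ W 1
  · exact conjNormal_mem_inn hx
  · exfalso
    have h2 := S.mc.normal (i + 2)
    apply notMem_Ksub' S.mc S.deg hx h1 hi
    rw [S.mc.mem_Ksub]
    intro w hw
    have h3 := htr ⟨w, S.mc.antitone h1 hw⟩ hw
    have h4 : w⁻¹ * (x * w * x⁻¹) ∈ W (i + 2) := h3
    have h5 := h2.conj_mem _ (inv_mem h4) w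
    have h6 : w * (w⁻¹ * (x * w * x⁻¹))⁻¹ * w⁻¹ = ⁅w, x⁆ := by
      rw [commutatorElement_def]; group
    rwa [h6] at h5

/-- A `p`-element of `A` has a conjugate in `conjGrp`. -/
theorem exists_conj (S : Sit p n W A) {a : MulAut (W 1)} (ha : a ∈ A) {k : ℕ} (hk : a ^ p ^ k = 1) :
    ∃ g ∈ A, g * a * g⁻¹ ∈ conjGrp (W 1) := by
  set b : A := ⟨a, ha⟩ with hb
  have hbk : b ^ p ^ k = 1 := Subtype.ext hk
  have hpg : IsPGroup p (Subgroup.zpowers b) := by
    obtain ⟨j, -, hj⟩ := (Nat.dvd_prime_pow hp.out).1 (orderOf_dvd_of_pow_eq_one hbk)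
    refine IsPGroup.of_card (n := j) ?_
    rw [Nat.card_zpowers, hj]
  obtain ⟨Q, hQ⟩ := hpg.exists_le_sylow
  obtain ⟨g, hg⟩ := MulAction.exists_smul_eq A Q S.syl
  refine ⟨g, g.2, ?_⟩
  have h1 : b ∈ (Q : Subgroup A) := hQ (Subgroup.mem_zpowers b)
  have h2 : g * b * g⁻¹ ∈ ((g • Q : Sylow p A) : Subgroup A) := ⟨b, h1, rfl⟩
  rw [hg] at h2
  exact S.mem_syl.1 h2

/-- elements of prime-to-`p` order of `W 1`-automorphism groups, decomposition -/
theorem exists_pow_coprime (b : MulAut (W 1)) : ∃ k, (orderOf (b ^ p ^ k)).Coprime p := by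
  obtain ⟨k, m, hm, hkm⟩ := Nat.exists_eq_pow_mul_and_not_dvd (orderOf_pos b).ne' p hp.out.ne_one
  refine ⟨k, ?_⟩
  have h1 : orderOf (b ^ p ^ k) ∣ m := by
    refine orderOf_dvd_of_pow_eq_one ?_
    rw [← pow_mul, ← hkm, pow_orderOf_eq_one]
  exact Nat.Coprime.coprime_dvd_left h1 ((Nat.Prime.coprime_iff_not_dvd hp.out).2 hm).symm

/-! ### consecutive invariant terms -/

theorem le_of_inv (S : Sit p n W A) {i i' : ℕ} (hc : Cons n W A i i') {U : Subgroup (W 1)} (hU : Inv A U)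
    (hle : U ≤ BB W (i + 1)) : U ≤ BB W i' := by
  obtain ⟨j, h1, h2, rfl⟩ := class_of_inv S.mc U (fun a ha => hU a (S.conj_le ha))
  rcases Nat.lt_or_ge j i' with h3 | h3
  · exfalso
    rcases Nat.lt_or_ge i j with h4 | h4
    · exact hc.none j h4 h3 hU
    · have h5 : BB W i ≤ BB W (i + 1) := (BB_mono S.mc h4).trans hle
      have := BB_le_iff S.mc hc.one_le (lt_of_lt_of_le hc.lt hc.le) h5
      omega
  · exact BB_mono S.mc h3

omit hN1 hp [Finite P] in
theorem inv_comm {U V : Subgroup (W 1)} (hU : Inv A U) (hV : Inv A V) : Inv A ⁅U, V⁆ := by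
  intro a ha e he
  have h1 : (⁅U, V⁆).map (a : MulAut (W 1)).toMonoidHom ≤ ⁅U, V⁆ := by
    rw [Subgroup.map_commutator]
    refine commutator_mono ?_ ?_
    · rintro _ ⟨x, hx, rfl⟩; exact hU a ha x hx
    · rintro _ ⟨x, hx, rfl⟩; exact hV a ha x hx
  exact h1 ⟨e, he, rfl⟩

theorem cons_comm (S : Sit p n W A) {i i' : ℕ} (hc : Cons n W A i i') : ⁅BB W i, (⊤ : Subgroup (W 1))⁆ ≤ BB W i' := by
  refine S.le_of_inv hc (inv_comm hc.inv (fun _ _ _ _ => Subgroup.mem_top _)) ?_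
  rw [commutator_le]
  intro e he f _
  exact S.mc.comm_mem he

/-- the subgroup generated by the `p`-th powers -/
def pw (p : ℕ) {M : Type*} [Group M] (U : Subgroup M) : Subgroup M := closure {y | ∃ x ∈ U, y = x ^ p}

omit hN1 hp [Finite P] in
theorem inv_pw {U : Subgroup (W 1)} (hU : Inv A U) : Inv A (pw p U) := by
  intro a ha e he
  induction he using Subgroup.closure_induction with
  | mem y hy =>
    obtain ⟨x, hx, rfl⟩ := hy
    rw [map_pow]
    exact subset_closure ⟨a x, hU a ha x hx, rfl⟩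
  | one => rw [map_one]; exact one_mem _
  | mul x y _ _ hx hy => rw [map_mul]; exact mul_mem hx hy
  | inv x _ hx => rw [map_inv]; exact inv_mem hx

theorem cons_pow (S : Sit p n W A) {i i' : ℕ} (hc : Cons n W A i i') {e : W 1} (he : (e : P) ∈ W i) :
    (e : P) ^ p ∈ W i' := by
  have h1 : pw p (BB W i) ≤ BB W i' := by
    refine S.le_of_inv hc (inv_pw hc.inv) ?_
    rw [pw, closure_le]
    rintro _ ⟨x, hx, rfl⟩
    exact S.mc.pow_p_mem hx
  exact h1 (subset_closure ⟨e, he, rfl⟩)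

/-- **The chief factors have rank at most `p - 1`.** -/
theorem cons_le (S : Sit p n W A) {i i' : ℕ} (hc : Cons n W A i i') : i' ≤ i + (p - 1) := by
  have h4 := S.mc.four_le
  have h5 := S.five
  by_contra hlt
  have h1 := hc.one_le
  have h2 := hc.le
  rcases Nat.lt_or_ge n (p + 2) with h3 | h3
  · have hi : i = 1 := by omega
    have hi' : i' = n := by omega
    subst hi hi'
    have h6 := S.cons_comm hc
    apply S.nonab
    rw [eq_bot_iff, commutator_le]
    intro x hx y hy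
    have h7 : ⁅(⟨x, hx⟩ : W 1), (⟨y, hy⟩ : W 1)⁆ ∈ BB W i' :=
      h6 (commutator_mem_commutator hx (Subgroup.mem_top _))
    have h8 : ⁅x, y⁆ ∈ W i' := h7
    rwa [S.mc.bot] at h8
  · obtain ⟨a, ha, ha'⟩ := S.mc.ne_succ (show i < n by omega)
    have h6 := S.mc.pow_notMem_one (by omega) h3 h1 (show i + p ≤ n by omega) ha ha'
    exact h6 (S.mc.antitone (by omega) (S.cons_pow hc (e := ⟨a, S.mc.antitone h1 ha⟩) ha))

end Sit

end Cfsg.Agent.H779.Core
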