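import Cfsg.Agent.H779.CoreN0

/-!
# No three consecutive invariant terms (helper779, part of S5267)
-/

set_option autoImplicit false
set_option linter.unusedSectionVars false

namespace Cfsg.Agent.H779.Core

open Subgroup Cfsg.Agent.H467.MaxClass Cfsg.Agent.H786
open scoped commutatorElement

universe u

variable {P : Type u} [Group P] {p n : ℕ} {W : ℕ → Subgroup P} [hN1 : (W 1).Normal] {A : Subgroup (MulAut (W 1))}
variable [hp : Fact p.Prime] [Finite P]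

/-- coprime powers in a subgroup -/
theorem mem_of_pow_coprime {G : Type*} [Group G] (I : Subgroup G) {a : G} {m k : ℕ} (hmk : Nat.Coprime m k)
    (h1 : a ^ m ∈ I) (h2 : a ^ k ∈ I) : a ∈ I := by
  have hb : (m : ℤ) * Nat.gcdA m k + (k : ℤ) * Nat.gcdB m k = 1 := by
    have h := Nat.gcd_eq_gcd_ab m k
    rw [hmk.gcd_eq_one] at h
    rw [← h]; rfl
  have h3 : a = (a ^ m) ^ (Nat.gcdA m k) * (a ^ k) ^ (Nat.gcdB m k) := by
    calc a = a ^ (1 : ℤ) := (zpow_one a).symm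
      _ = a ^ ((m : ℤ) * Nat.gcdA m k + (k : ℤ) * Nat.gcdB m k) := by rw [hb]
      _ = _ := by rw [zpow_add, zpow_mul, zpow_mul, zpow_natCast, zpow_natCast]
  rw [h3]
  exact mul_mem (zpow_mem h1 _) (zpow_mem h2 _)

namespace Sit

/-- Burnside: a normal subgroup `K ≥ conjGrp` of `A` in which `conjGrp` is self-normalizing is `conjGrp`. -/
theorem eq_conjGrp (S : Sit p n W A) {K : Subgroup (MulAut (W 1))} (hKA : K ≤ A)
    (hKn : ∀ a ∈ A, ∀ c ∈ K, a * c * a⁻¹ ∈ K) (hcK : conjGrp (W 1) ≤ K)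
    (hself : ∀ a ∈ K, Nor a → a ∈ conjGrp (W 1)) : K ≤ conjGrp (W 1) := by
  have hIc := inn_le_conjGrp (W := W)
  let I : Subgroup K := (inn (W 1)).subgroupOf K
  have hIn : I.Normal := ⟨fun c hc g => inn_conj (g : MulAut (W 1)) hc⟩
  -- the Sylow subgroup of `K`
  have hpc : IsPGroup p (conjGrp (W 1)) := by
    have : IsPGroup p (MulAut.conjNormal (H := W 1)).range :=
      S.pgroup.of_surjective (MulAut.conjNormal (H := W 1)).rangeRestrict
        (MulAut.conjNormal (H := W 1)).rangeRestrict_surjective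
    exact this
  let T : Sylow p K := IsPGroup.toSylow (P := (conjGrp (W 1)).subgroupOf K)
    (hpc.comap_of_injective _ (Subgroup.subtype_injective K))
    (fun hd => S.sylow (hd.trans (Dvd.intro _ (Subgroup.relIndex_mul_relIndex _ _ _ hcK hKA))))
  have hT : ∀ a : K, a ∈ (T : Subgroup K) ↔ (a : MulAut (W 1)) ∈ conjGrp (W 1) := fun a => Iff.rfl
  let T' : Sylow p (K ⧸ I) := T.mapSurjective (f := QuotientGroup.mk' I) (QuotientGroup.mk'_surjective I)
  have hT' : ∀ a : K, (a : K ⧸ I) ∈ (T' : Subgroup (K ⧸ I)) ↔ (a : MulAut (W 1)) ∈ conjGrp (W 1) := by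
    intro a
    constructor
    · rintro ⟨b, hb, hba⟩
      have h1 : b⁻¹ * a ∈ I := QuotientGroup.eq.1 hba
      have h2 : (b : MulAut (W 1))⁻¹ * a ∈ conjGrp (W 1) := hIc h1
      have h3 := mul_mem ((hT b).1 hb) h2
      rwa [mul_inv_cancel_left] at h3
    · intro ha
      exact ⟨a, ha, rfl⟩
  have hNC : Subgroup.normalizer ((T' : Subgroup (K ⧸ I)) : Set (K ⧸ I)) ≤
      Subgroup.centralizer ((T' : Subgroup (K ⧸ I)) : Set (K ⧸ I)) := by
    intro a ha
    obtain ⟨a, rfl⟩ := QuotientGroup.mk'_surjective I a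
    rw [QuotientGroup.mk'_apply] at ha ⊢
    have h1 : (a : MulAut (W 1)) ∈ conjGrp (W 1) := by
      refine hself a a.2 fun x => ?_
      have h2 : ((⟨MulAut.conjNormal (H := W 1) x, hcK ⟨x, rfl⟩⟩ : K) : K ⧸ I) ∈ (T' : Subgroup (K ⧸ I)) :=
        (hT' _).2 ⟨x, rfl⟩
      have h3 := (Subgroup.mem_normalizer_iff.1 ha _).1 h2
      rw [← QuotientGroup.mk_mul, ← QuotientGroup.mk_inv, ← QuotientGroup.mk_mul, hT'] at h3
      obtain ⟨y, hy⟩ := h3
      exact ⟨y, hy.symm⟩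
    rw [Subgroup.mem_centralizer_iff]
    intro b hb
    obtain ⟨b, rfl⟩ := QuotientGroup.mk'_surjective I b
    rw [QuotientGroup.mk'_apply] at hb ⊢
    have h2 := (hT' b).1 hb
    obtain ⟨x, hx⟩ := h1
    obtain ⟨y, hy⟩ := h2
    rw [← QuotientGroup.mk_mul, ← QuotientGroup.mk_mul, QuotientGroup.eq]
    show ((b : MulAut (W 1)) * a)⁻¹ * (a * b) ∈ inn (W 1)
    have h3 : ((b : MulAut (W 1)) * a)⁻¹ * (a * b) = MulAut.conjNormal (H := W 1) ⁅x⁻¹, y⁻¹⁆ := by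
      rw [← hx, ← hy, commutatorElement_def]
      simp only [map_mul, map_inv, mul_inv_rev, inv_inv]
      group
    rw [h3]
    refine conjNormal_mem_inn ?_
    have h4 : ⁅x⁻¹, y⁻¹⁆ ∈ W 2 := by
      rw [← S.mc.comm_top]
      exact commutator_mem_commutator (Subgroup.mem_top _) (Subgroup.mem_top _)
    exact S.mc.le_succ 1 h4
  -- the normal complement
  let τ := MonoidHom.transferSylow T' hNC
  let C : Subgroup (MulAut (W 1)) := ((τ.ker).comap (QuotientGroup.mk' I)).map K.subtype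
  have hC : ∀ a : MulAut (W 1), a ∈ C ↔ a ∈ K ∧ ∃ m, Nat.Coprime m p ∧ a ^ m ∈ inn (W 1) := by
    intro a
    constructor
    · rintro ⟨b, hb, rfl⟩
      refine ⟨b.2, Nat.card τ.ker, ?_, ?_⟩
      · exact ((Nat.Prime.coprime_iff_not_dvd hp.out).2 (MonoidHom.not_dvd_card_ker_transferSylow T' hNC)).symm
      · have h1 : (⟨(b : K ⧸ I), hb⟩ : τ.ker) ^ Nat.card τ.ker = 1 := pow_card_eq_one'
        have h2 : ((b : K) : K ⧸ I) ^ Nat.card τ.ker = 1 := congrArg Subtype.val h1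
        rw [← QuotientGroup.mk_pow, QuotientGroup.eq_one_iff] at h2
        exact h2
    · rintro ⟨haK, m, hm, ham⟩
      refine ⟨⟨a, haK⟩, ?_, rfl⟩
      show τ ((⟨a, haK⟩ : K) : K ⧸ I) = 1
      have h1 : (((⟨a, haK⟩ : K) : K ⧸ I)) ^ m = 1 := by
        rw [← QuotientGroup.mk_pow, QuotientGroup.eq_one_iff]
        exact ham
      have h2 : τ ((⟨a, haK⟩ : K) : K ⧸ I) ^ m = 1 := by rw [← map_pow, h1, map_one]
      obtain ⟨k, hk⟩ := T'.2 (τ ((⟨a, haK⟩ : K) : K ⧸ I))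
      have h3 := Nat.eq_one_of_dvd_coprimes (Nat.Coprime.pow_right k hm) (orderOf_dvd_of_pow_eq_one h2)
        (orderOf_dvd_of_pow_eq_one hk)
      exact orderOf_eq_one_iff.1 h3
  have hCle : C ≤ inn (W 1) := by
    refine S.le_inn (C := C) (fun a ha => hKA ((hC a).1 ha).1) ?_ ?_
    · intro g hg c hc
      obtain ⟨h1, m, h2, h3⟩ := (hC c).1 hc
      refine (hC _).2 ⟨hKn g hg c h1, m, h2, ?_⟩
      rw [conj_pow]
      exact inn_conj g h3
    · rintro c ⟨hc1, hc2⟩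
      obtain ⟨-, m, h2, h3⟩ := (hC c).1 hc1
      exact mem_of_pow_coprime _ h2 h3 (S.pow_mem_inn hc2)
  have hker : τ.ker = ⊥ := by
    rw [eq_bot_iff]
    intro x hx
    obtain ⟨a, rfl⟩ := QuotientGroup.mk'_surjective I x
    have h1 : (a : MulAut (W 1)) ∈ C := ⟨a, hx, rfl⟩
    rw [Subgroup.mem_bot, QuotientGroup.mk'_apply, QuotientGroup.eq_one_iff]
    exact hCle h1
  have htop : (T' : Subgroup (K ⧸ I)) = ⊤ := by
    have h1 := MonoidHom.ker_transferSylow_isComplement' T' hNC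
    have h2 : (MonoidHom.transferSylow T' hNC).ker = ⊥ := hker
    rw [h2] at h1
    exact Subgroup.isComplement'_bot_left.1 h1
  intro a ha
  have h1 : ((⟨a, ha⟩ : K) : K ⧸ I) ∈ (T' : Subgroup (K ⧸ I)) := by rw [htop]; exact Subgroup.mem_top _
  exact (hT' _).1 h1

theorem conjGrp_le_kst (S : Sit p n W A) {i : ℕ} (hi : AInv A (W i)) : conjGrp (W 1) ≤ kst A i (i + 1) hi := by
  rintro _ ⟨x, rfl⟩
  refine ⟨S.conj_le ⟨x, rfl⟩, fun e he => ?_⟩
  have h1 : (((e⁻¹ * MulAut.conjNormal (H := W 1) x e : W 1)) : P) = ⁅(e : P)⁻¹, x⁆ := by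
    show (e : P)⁻¹ * (x * e * x⁻¹) = _
    rw [commutatorElement_def]
    group
  rw [mem_BB, h1]
  exact S.mc.comm_mem (inv_mem he)

/-- **No three consecutive invariant terms.** -/
theorem no_three (S : Sit p n W A) (hnn : ∃ a ∈ A, ¬ Nor a) {i : ℕ} (h1 : 1 ≤ i) (h2 : i + 2 ≤ n)
    (hi : AInv A (W i)) (hi1 : AInv A (W (i + 1))) (hi2 : AInv A (W (i + 2))) : False := by
  set K := kst A i (i + 1) hi ⊓ kst A (i + 1) (i + 2) hi1 with hK
  have hKA : K ≤ A := fun a ha => ha.1.1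
  have hKn : ∀ a ∈ A, ∀ c ∈ K, a * c * a⁻¹ ∈ K := fun a ha c hc =>
    ⟨kst_conj hi1 ha hc.1, kst_conj hi2 ha hc.2⟩
  have hcK : conjGrp (W 1) ≤ K := fun c hc => ⟨S.conjGrp_le_kst hi hc, S.conjGrp_le_kst hi1 hc⟩
  have hle := S.eq_conjGrp hKA hKn hcK (fun a ha hn =>
    S.mem_conjGrp_of_nor h1 h2 (hKA ha) hn ha.1.2 ha.2.2)
  obtain ⟨a, ha, hna⟩ := hnn
  apply hna
  intro x
  obtain ⟨y, hy⟩ := hle (hKn a ha _ (hcK ⟨x, rfl⟩))
  exact ⟨y, hy.symm⟩

end Sit

end Cfsg.Agent.H779.Core
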