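import Cfsg.Agent.H779.CoreN0

/-!
# The torus of `A` (helper779, part of S5267)

Let `a` normalize `conjGrp (W 1)`, `a c_s a⁻¹ = c_y` with `y ∈ s ^ k (W 1)`, `s ∉ W 1`. Then `a` acts on `W i / W (i + 1)`
as the power `b * k ^ (i - 1)` (`sc_all`), and `b ≡ k ^ (1 + δ)` for a number `δ ≥ 1` depending only on the chain, if `W 1`
is not abelian (`exists_delta`).
-/

set_option autoImplicit false
set_option linter.unusedSectionVars false

namespace Cfsg.Agent.H779.Core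

open Subgroup Cfsg.Agent.H467.MaxClass Cfsg.Agent.H786
open scoped commutatorElement

universe u

variable {P : Type u} [Group P] {p n : ℕ} {W : ℕ → Subgroup P} [hN1 : (W 1).Normal]
variable [hp : Fact p.Prime]

theorem pow_congr (h : MC P p n W) {i b b' : ℕ} (hbb : b ≡ b' [MOD p]) {e : P} (he : e ∈ W i) :
    (e ^ b')⁻¹ * e ^ b ∈ W (i + 1) := by
  have hn := h.normal (i + 1)
  set q := QuotientGroup.mk' (W (i + 1)) with hq
  have hq1 : ∀ y : P, y ∈ W (i + 1) ↔ q y = 1 := fun y => (QuotientGroup.eq_one_iff y).symm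
  have h1 : q e ^ p = 1 := by
    rw [← map_pow]
    exact (hq1 _).1 (h.pow_p_mem he)
  have h2 : q e ^ b = q e ^ b' :=
    pow_eq_pow_iff_modEq.2 (hbb.of_dvd (orderOf_dvd_of_pow_eq_one h1))
  rw [hq1, map_mul, map_inv, map_pow, map_pow, h2, inv_mul_cancel]

theorem Sc.congr (h : MC P p n W) {a : MulAut (W 1)} {i b b' : ℕ} (hbb : b ≡ b' [MOD p]) (hs : Sc W a i b) :
    Sc W a i b' := by
  intro e he
  have h1 := pow_congr h hbb he
  have h2 := mul_mem h1 (hs e he)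
  rwa [mul_assoc, mul_inv_cancel_left] at h2

theorem Sc.unique (h : MC P p n W) {a : MulAut (W 1)} {i b b' : ℕ} (h1 : 1 ≤ i) (hi : i < n) (hs : Sc W a i b)
    (hs' : Sc W a i b') : b ≡ b' [MOD p] := by
  obtain ⟨w, hw, hw'⟩ := h.ne_succ hi
  have hn := h.normal (i + 1)
  set q := QuotientGroup.mk' (W (i + 1)) with hq
  have hq1 : ∀ y : P, y ∈ W (i + 1) ↔ q y = 1 := fun y => (QuotientGroup.eq_one_iff y).symm
  have hord : orderOf (q w) = p := by
    refine orderOf_eq_prime ?_ ?_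
    · rw [← map_pow]
      exact (hq1 _).1 (h.pow_p_mem hw)
    · intro h8
      exact hw' ((hq1 _).2 h8)
  have hw1 : w ∈ W 1 := h.antitone h1 hw
  have e1 := (hq1 _).1 (hs ⟨w, hw1⟩ hw)
  have e2 := (hq1 _).1 (hs' ⟨w, hw1⟩ hw)
  rw [map_mul, map_inv, map_pow, inv_mul_eq_one] at e1 e2
  have e3 : q w ^ b = q w ^ b' := e1.trans e2.symm
  have := pow_eq_pow_iff_modEq.1 e3
  rwa [hord] at this

theorem Sc.not_dvd (h : MC P p n W) [Finite P] {a : MulAut (W 1)} {i b : ℕ} (h1 : 1 ≤ i) (hi : i < n) (ha : Nor a)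
    (hs : Sc W a i b) : ¬ p ∣ b := by
  intro hd
  obtain ⟨w, hw, hw'⟩ := h.ne_succ hi
  have hw1 : w ∈ W 1 := h.antitone h1 hw
  have h2 : Sc W a i 0 := hs.congr h ((Nat.modEq_zero_iff_dvd).2 hd)
  have h3 := h2 ⟨w, hw1⟩ hw
  rw [pow_zero, inv_one, one_mul] at h3
  exact hw' ((pres_iff h ha (by omega) ⟨w, hw1⟩).1 h3)

/-- the action of a composite -/
theorem Sc.mul (h : MC P p n W) {a b : MulAut (W 1)} {i r t : ℕ} (hb1 : ∀ e : W 1, (e : P) ∈ W i → ((b e : W 1) : P) ∈ W i)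
    (hs : Sc W a i r) (hs' : Sc W b i t) : Sc W (a * b) i (t * r) := by
  intro e he
  have hn := h.normal (i + 1)
  set q := QuotientGroup.mk' (W (i + 1)) with hq
  have hq1 : ∀ y : P, y ∈ W (i + 1) ↔ q y = 1 := fun y => (QuotientGroup.eq_one_iff y).symm
  have e1 := (hq1 _).1 (hs' e he)
  have e2 := (hq1 _).1 (hs (b e) (hb1 e he))
  rw [map_mul, map_inv, map_pow, inv_mul_eq_one] at e1 e2
  rw [hq1, map_mul, map_inv, map_pow, inv_mul_eq_one, MulAut.mul_apply, ← e2, ← e1, pow_mul]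

/-- The scalars on consecutive factors, general case. -/
theorem sc_succ' (h : MC P p n W)
    (deg : ∀ i j, 1 ≤ i → 1 ≤ j → ⁅W i, W j⁆ ≤ W (i + j + 1)) {s w : P} {k : ℕ} (hs : s ∉ W 1) (hw : w ∈ W 1)
    {a : MulAut (W 1)} (ha : Nor a)
    (hc : a * MulAut.conjNormal (H := W 1) s * a⁻¹ = MulAut.conjNormal (H := W 1) (s ^ k * w))
    {i b : ℕ} (h1 : 1 ≤ i) (hi : i + 1 < n) (hsc : Sc W a i b) : Sc W a (i + 1) (b * k) := by
  obtain ⟨w1, hw1, hw1'⟩ := h.ne_succ (show i < n by omega)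
  have hw11 : w1 ∈ W 1 := h.antitone h1 hw1
  set f : P := ⁅w1, s⁆ with hf
  have hf1 : f ∈ W (i + 1) := h.comm_mem hw1
  have hf2 : f ∉ W (i + 2) := comm_notMem h deg hs h1 hi hw1 hw1'
  have hf3 : f ∈ W 1 := h.antitone (by omega) hf1
  refine sc_of_gen h (by omega) (pres h ha (i + 2) (by omega)) (w := ⟨f, hf3⟩) hf1 hf2 ?_
  have h2 : ((a ⟨f, hf3⟩ : W 1) : P) = ⁅((a ⟨w1, hw11⟩ : W 1) : P), s ^ k * w⁆ :=
    apply_comm hc (e := ⟨w1, hw11⟩) (f := ⟨f, hf3⟩) rfl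
  have hn := h.normal (i + 2)
  set q := QuotientGroup.mk' (W (i + 2)) with hq
  have hq1 : ∀ y : P, y ∈ W (i + 2) ↔ q y = 1 := fun y => (QuotientGroup.eq_one_iff y).symm
  have hcen : ∀ y ∈ W (i + 1), ∀ z : P, Commute (q y) (q z) := by
    intro y hy z
    have h3 := (hq1 _).1 (h.comm_mem hy (x := z))
    rw [map_commutatorElement] at h3
    exact commutatorElement_eq_one_iff_mul_comm.1 h3
  have hcf : ∀ x, Commute ⁅q w1, q s⁆ x := by
    intro x
    obtain ⟨z, rfl⟩ := QuotientGroup.mk'_surjective _ x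
    have := hcen f hf1 z
    rwa [hf, map_commutatorElement] at this
  have hA : ((a ⟨w1, hw11⟩ : W 1) : P) ∈ W i := pres h ha i h1 _ hw1
  set B : P := ((a ⟨w1, hw11⟩ : W 1) : P) with hB
  set v : P := (w1 ^ b)⁻¹ * B with hv
  have hv1 : v ∈ W (i + 1) := hsc ⟨w1, hw11⟩ hw1
  have hBv : B = w1 ^ b * v := by rw [hv]; group
  have h5 : Commute (q v) (q (s ^ k * w)) := hcen v hv1 _
  have h6 : q ⁅B, s ^ k * w⁆ = ⁅q w1 ^ b, q (s ^ k * w)⁆ := by
    rw [hBv, map_commutatorElement, map_mul q (w1 ^ b), map_pow q w1 b]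
    generalize q (s ^ k * w) = y at h5
    rw [commutatorElement_def, commutatorElement_def, mul_inv_rev]
    calc q w1 ^ b * q v * y * ((q v)⁻¹ * (q w1 ^ b)⁻¹) * y⁻¹
        = q w1 ^ b * (q v * y * (q v)⁻¹) * (q w1 ^ b)⁻¹ * y⁻¹ := by group
      _ = q w1 ^ b * y * (q w1 ^ b)⁻¹ * y⁻¹ := by rw [h5.eq, mul_inv_cancel_right]
  have h7 : ⁅q w1 ^ b, q w⁆ = 1 := by
    rw [← map_pow, ← map_commutatorElement]
    exact (hq1 _).1 (deg i 1 h1 le_rfl (commutator_mem_commutator (pow_mem hw1 b) hw))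
  have h8 : ⁅q w1 ^ b, q s ^ k * q w⁆ = ⁅q w1 ^ b, q s ^ k⁆ * (q s ^ k * ⁅q w1 ^ b, q w⁆ * (q s ^ k)⁻¹) := by
    simp only [commutatorElement_def]; group
  have h9 : ⁅q w1 ^ b, q s⁆ = ⁅q w1, q s⁆ ^ b := comm_pow_left hcf b
  have h10 : ⁅q w1 ^ b, q s ^ k⁆ = ⁅q w1, q s⁆ ^ (b * k) := by
    rw [pow_mul, ← h9]
    refine comm_pow_right (fun x => ?_) k
    rw [h9]
    exact (hcf x).pow_left b
  have h11 : q ((⟨f, hf3⟩ : W 1) : P) = ⁅q w1, q s⁆ := map_commutatorElement q w1 s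
  rw [hq1, map_mul, map_inv, map_pow, h2, h6, map_mul q (s ^ k), map_pow q s k, h8, h7, mul_one, mul_inv_cancel, mul_one,
    h10, h11, inv_mul_cancel]

/-- **All scalars.** -/
theorem sc_all (h : MC P p n W)
    (deg : ∀ i j, 1 ≤ i → 1 ≤ j → ⁅W i, W j⁆ ≤ W (i + j + 1)) {s w : P} {k : ℕ} (hs : s ∉ W 1) (hw : w ∈ W 1)
    {a : MulAut (W 1)} (ha : Nor a)
    (hc : a * MulAut.conjNormal (H := W 1) s * a⁻¹ = MulAut.conjNormal (H := W 1) (s ^ k * w))
    {b : ℕ} (hsc : Sc W a 1 b) : ∀ i, 1 ≤ i → i < n → Sc W a i (b * k ^ (i - 1)) := by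
  intro i hi
  induction i, hi using Nat.le_induction with
  | base => intro _; simpa using hsc
  | succ i hi ih =>
    intro hin
    have h1 := sc_succ' h deg hs hw ha hc hi hin (ih (by omega))
    have h2 : b * k ^ (i - 1) * k = b * k ^ (i + 1 - 1) := by
      rw [mul_assoc, ← pow_succ]
      congr 2
      omega
    rwa [h2] at h1

/-- existence of the data `k`, `w`, `b` -/
theorem exists_data (h : MC P p n W) {s : P} (hs : s ∉ W 1) {a : MulAut (W 1)} (ha : Nor a) :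
    ∃ (k : ℕ) (w : P) (b : ℕ), w ∈ W 1 ∧
      a * MulAut.conjNormal (H := W 1) s * a⁻¹ = MulAut.conjNormal (H := W 1) (s ^ k * w) ∧ Sc W a 1 b := by
  have h4 := h.four_le
  obtain ⟨y, hy⟩ := ha s
  obtain ⟨k, hk⟩ := exists_pow h (i := 0) (by omega) (a := s) (by rw [h.zero]; trivial) hs (b := y)
    (by rw [h.zero]; trivial)
  obtain ⟨b, hb⟩ := exists_sc h le_rfl (show 1 < n by omega) (pres h ha 1 le_rfl) (pres h ha 2 (by omega))
  refine ⟨k, _, b, hk, ?_, hb⟩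
  rw [hy]
  congr 1
  group

/-- **The number `δ`.** There are `i, j ≥ 1` and `k ≥ i + j + 1`, `k < n`, such that the scalars satisfy
`χ_i χ_j = χ_k`. -/
theorem exists_triple (h : MC P p n W) [Finite P]
    (deg : ∀ i j, 1 ≤ i → 1 ≤ j → ⁅W i, W j⁆ ≤ W (i + j + 1)) (nonab : ⁅W 1, W 1⁆ ≠ ⊥) :
    ∃ i j k, 1 ≤ i ∧ 1 ≤ j ∧ i + j + 1 ≤ k ∧ k < n ∧ ∀ (a : MulAut (W 1)) (r t v : ℕ), Nor a →
      Sc W a i r → Sc W a j t → Sc W a k v → r * t ≡ v [MOD p] := by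
  classical
  have h4 := h.four_le
  -- a pair `(i, j)` with maximal sum
  set Q : ℕ → Prop := fun m => ∃ i j, 1 ≤ i ∧ 1 ≤ j ∧ i + j = m ∧ ⁅W i, W j⁆ ≠ ⊥ with hQ
  have hQ2 : Q 2 := ⟨1, 1, le_rfl, le_rfl, rfl, nonab⟩
  have hQn : ∀ m, Q m → m < n := by
    rintro m ⟨i, j, h1, h2, rfl, h3⟩
    by_contra hlt
    apply h3
    rw [eq_bot_iff]
    calc ⁅W i, W j⁆ ≤ W (i + j) := h.comm_comm j i
      _ = ⊥ := h.bot_of_le (by omega)
  set m := Nat.findGreatest Q n with hm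
  have hQm : Q m := Nat.findGreatest_spec (P := Q) (m := 2) (by omega) hQ2
  have hmax : ∀ i j, 1 ≤ i → 1 ≤ j → m < i + j → ⁅W i, W j⁆ = ⊥ := by
    intro i j h1 h2 h3
    by_contra h5
    have h6 : Q (i + j) := ⟨i, j, h1, h2, rfl, h5⟩
    have := Nat.le_findGreatest (P := Q) (hQn _ h6).le h6
    omega
  obtain ⟨i, j, hi, hj, hij, hne⟩ := hQm
  obtain ⟨e, he, f, hf, hef⟩ : ∃ e ∈ W i, ∃ f ∈ W j, ⁅e, f⁆ ≠ 1 := by
    by_contra hcon
    push Not at hcon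
    apply hne
    rw [eq_bot_iff, commutator_le]
    intro x hx y hy
    exact Subgroup.mem_bot.2 (hcon x hx y hy)
  set g : P := ⁅e, f⁆ with hg
  have hg0 : g ∈ W (i + j + 1) := deg i j hi hj (commutator_mem_commutator he hf)
  have hijn : i + j + 1 < n := by
    by_contra hlt
    rw [h.bot_of_le (not_lt.1 hlt), Subgroup.mem_bot] at hg0
    exact hef hg0
  have hg1 : g ∈ W 1 := h.antitone (by omega) hg0
  -- the level of `g`
  set k := Nat.findGreatest (fun k => g ∈ W k) n with hk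
  have hgk : g ∈ W k := Nat.findGreatest_spec (P := fun k => g ∈ W k) (m := 1) (by omega) hg1
  have hk1 : i + j + 1 ≤ k := Nat.le_findGreatest (by omega) hg0
  have hkn : k < n := by
    have h5 : k ≤ n := Nat.findGreatest_le n
    rcases Nat.lt_or_ge k n with h6 | h6
    · exact h6
    · exfalso
      apply hef
      rw [h.bot_of_le h6] at hgk
      exact Subgroup.mem_bot.1 hgk
  have hgk' : g ∉ W (k + 1) := by
    intro h5
    have := Nat.le_findGreatest (P := fun k => g ∈ W k) (show k + 1 ≤ n by omega) h5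
    omega
  refine ⟨i, j, k, hi, hj, hk1, hkn, fun a r t c ha hsr hst hsc => ?_⟩
  have hn := h.normal (k + 1)
  set q := QuotientGroup.mk' (W (k + 1)) with hq
  have hq1 : ∀ y : P, y ∈ W (k + 1) ↔ q y = 1 := fun y => (QuotientGroup.eq_one_iff y).symm
  have hcen : ∀ x, Commute ⁅q e, q f⁆ x := by
    intro x
    obtain ⟨z, rfl⟩ := QuotientGroup.mk'_surjective _ x
    have h3 := (hq1 _).1 (h.comm_mem hgk (x := z))
    rw [map_commutatorElement, hg, map_commutatorElement] at h3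
    exact commutatorElement_eq_one_iff_mul_comm.1 h3
  have he1 : e ∈ W 1 := h.antitone hi he
  have hf1 : f ∈ W 1 := h.antitone hj hf
  set A : P := ((a ⟨e, he1⟩ : W 1) : P) with hA
  set B : P := ((a ⟨f, hf1⟩ : W 1) : P) with hB
  have hAB : ((a ⟨g, hg1⟩ : W 1) : P) = ⁅A, B⁆ := by
    have : (⟨g, hg1⟩ : W 1) = ⁅(⟨e, he1⟩ : W 1), (⟨f, hf1⟩ : W 1)⁆ := rfl
    rw [this, map_commutatorElement]
    rfl
  set u' : P := (e ^ r)⁻¹ * A with hu'
  have hu1 : u' ∈ W (i + 1) := hsr ⟨e, he1⟩ he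
  set v' : P := (f ^ t)⁻¹ * B with hv'
  have hv1 : v' ∈ W (j + 1) := hst ⟨f, hf1⟩ hf
  have hAe : A = e ^ r * u' := by rw [hu']; group
  have hBe : B = f ^ t * v' := by rw [hv']; group
  have hBj : B ∈ W j := pres h ha j hj _ hf
  have hcomm : ∀ (i j : ℕ) (x y : P), 1 ≤ i → 1 ≤ j → m < i + j → x ∈ W i → y ∈ W j → Commute x y := by
    intro i j x y h1 h2 h3 hx hy
    have h5 : ⁅x, y⁆ ∈ ⁅W i, W j⁆ := commutator_mem_commutator hx hy
    rw [hmax i j h1 h2 h3, Subgroup.mem_bot] at h5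
    exact commutatorElement_eq_one_iff_mul_comm.1 h5
  have h5 : ⁅A, B⁆ = ⁅e ^ r, f ^ t⁆ := by
    have h6 : Commute u' B := hcomm (i + 1) j u' B (by omega) hj (by omega) hu1 hBj
    have h7 : Commute (e ^ r) v' := hcomm i (j + 1) _ _ hi (by omega) (by omega) (pow_mem he r) hv1
    calc ⁅A, B⁆ = e ^ r * (u' * B * u'⁻¹) * (e ^ r)⁻¹ * B⁻¹ := by
          rw [hAe, commutatorElement_def]; group
      _ = e ^ r * B * (e ^ r)⁻¹ * B⁻¹ := by rw [h6.eq, mul_inv_cancel_right]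
      _ = e ^ r * f ^ t * (v' * (e ^ r)⁻¹ * v'⁻¹) * (f ^ t)⁻¹ := by rw [hBe]; group
      _ = e ^ r * f ^ t * (e ^ r)⁻¹ * (f ^ t)⁻¹ := by rw [h7.inv_left.eq.symm, mul_inv_cancel_right]
      _ = ⁅e ^ r, f ^ t⁆ := by rw [commutatorElement_def]
  have h6 : q ⁅A, B⁆ = (q g) ^ (r * t) := by
    rw [h5, map_commutatorElement, map_pow, map_pow]
    have h7 : ⁅q e ^ r, q f⁆ = ⁅q e, q f⁆ ^ r := comm_pow_left hcen r
    have h8 : ⁅q e ^ r, q f ^ t⁆ = ⁅q e ^ r, q f⁆ ^ t := by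
      refine comm_pow_right (fun x => ?_) t
      rw [h7]
      exact (hcen x).pow_left r
    rw [h8, h7, ← pow_mul, hg, map_commutatorElement]
  have h7 : q ⁅A, B⁆ = (q g) ^ c := by
    have h8 := (hq1 _).1 (hsc ⟨g, hg1⟩ hgk)
    rw [map_mul, map_inv, map_pow, hAB] at h8
    exact (inv_mul_eq_one.1 h8).symm
  have hord : orderOf (q g) = p := by
    refine orderOf_eq_prime ?_ ?_
    · rw [← map_pow]
      exact (hq1 _).1 (h.pow_p_mem hgk)
    · intro h8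
      exact hgk' ((hq1 _).2 h8)
  have h8 : (q g) ^ (r * t) = (q g) ^ c := by rw [← h6, ← h7]
  have := pow_eq_pow_iff_modEq.1 h8
  rwa [hord] at this

/-- **The number `δ`.** -/
theorem exists_delta (h : MC P p n W) [Finite P]
    (deg : ∀ i j, 1 ≤ i → 1 ≤ j → ⁅W i, W j⁆ ≤ W (i + j + 1)) (nonab : ⁅W 1, W 1⁆ ≠ ⊥) :
    ∃ δ, 1 ≤ δ ∧ ∀ (a : MulAut (W 1)) (s w : P) (k b : ℕ), s ∉ W 1 → w ∈ W 1 → Nor a →
      a * MulAut.conjNormal (H := W 1) s * a⁻¹ = MulAut.conjNormal (H := W 1) (s ^ k * w) → Sc W a 1 b →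
        b ≡ k ^ (1 + δ) [MOD p] ∧ ¬ p ∣ k := by
  obtain ⟨i, j, l, hi, hj, hl, hln, hT⟩ := exists_triple h deg nonab
  refine ⟨l - i - j, by omega, fun a s w k b hs hw ha hc hb => ?_⟩
  have h4 := h.four_le
  have hall := sc_all h deg hs hw ha hc hb
  have h1 := hT a _ _ _ ha (hall i hi (by omega)) (hall j hj (by omega)) (hall l (by omega) hln)
  have hb0 : ¬ p ∣ b := Sc.not_dvd h le_rfl (by omega) ha hb
  have hk0 : ¬ p ∣ k := by
    intro hd
    have h5 := Sc.not_dvd h (i := 2) (by omega) (by omega) ha (hall 2 (by omega) (by omega))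
    apply h5
    rw [show 2 - 1 = 1 by omega, pow_one]
    exact Dvd.dvd.mul_left hd b
  refine ⟨?_, hk0⟩
  have h5 : b * k ^ (i - 1) * (b * k ^ (j - 1)) = b * k ^ (i + j - 2) * b := by
    have : k ^ (i + j - 2) = k ^ (i - 1) * k ^ (j - 1) := by rw [← pow_add]; congr 1; omega
    rw [this]; ring
  have h6 : b * k ^ (l - 1) = b * k ^ (i + j - 2) * k ^ (1 + (l - i - j)) := by
    rw [mul_assoc, ← pow_add]
    congr 2
    omega
  rw [h5, h6] at h1
  have h7 : Nat.Coprime p (b * k ^ (i + j - 2)) := by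
    rw [Nat.Prime.coprime_iff_not_dvd hp.out]
    intro hd
    rcases hp.out.dvd_mul.1 hd with h8 | h8
    · exact hb0 h8
    · exact hk0 (hp.out.dvd_of_dvd_pow h8)
  exact Nat.ModEq.cancel_left_of_coprime h7 h1

end Cfsg.Agent.H779.Core
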