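import Cfsg.Agent.H779.CoreSit

/-!
# Normal `p'`-subgroups of `A / Inn (W 1)` (helper779, part of S5267)

`le_inn` : a normal subgroup `C` of `A` with `C ⊓ conjGrp (W 1) ≤ inn (W 1)` consists of inner automorphisms.
-/

set_option autoImplicit false
set_option linter.unusedSectionVars false

namespace Cfsg.Agent.H779.Core

open Subgroup Cfsg.Agent.H467.MaxClass Cfsg.Agent.H786
open scoped commutatorElement

section act

variable {B M : Type*} [Group B] [Group M]

/-- the action on an invariant subgroup -/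
def actSub (ρ : B →* MulAut M) (V : Subgroup M) (hV : ∀ b, ∀ e ∈ V, ρ b e ∈ V) : B →* MulAut V where
  toFun b :=
    { toFun := fun v => ⟨ρ b v, hV b v v.2⟩
      invFun := fun v => ⟨ρ b⁻¹ v, hV b⁻¹ v v.2⟩
      left_inv := fun v => Subtype.ext (by
        show ρ b⁻¹ (ρ b v) = v
        rw [map_inv, MulAut.inv_apply_self])
      right_inv := fun v => Subtype.ext (by
        show ρ b (ρ b⁻¹ v) = v
        rw [map_inv, MulAut.apply_inv_self])
      map_mul' := fun v w => Subtype.ext (map_mul _ _ _) }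
  map_one' := by
    ext v
    show ρ 1 (v : M) = v
    rw [map_one]; rfl
  map_mul' := fun b c => by
    ext v
    show ρ (b * c) (v : M) = ρ b (ρ c v)
    rw [map_mul]; rfl

theorem actSub_apply (ρ : B →* MulAut M) (V : Subgroup M) (hV : ∀ b, ∀ e ∈ V, ρ b e ∈ V) (b : B) (v : V) :
    ((actSub ρ V hV b v : V) : M) = ρ b v := rfl

/-- the action on a quotient -/
def actQuot (ρ : B →* MulAut M) (N : Subgroup M) [N.Normal] (hN : ∀ b, ∀ v ∈ N, ρ b v ∈ N) : B →* MulAut (M ⧸ N) where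
  toFun b :=
    { toFun := QuotientGroup.map N N (ρ b).toMonoidHom (fun v hv => hN b v hv)
      invFun := QuotientGroup.map N N (ρ b⁻¹).toMonoidHom (fun v hv => hN b⁻¹ v hv)
      left_inv := fun v => by
        induction v using QuotientGroup.induction_on with
        | H v =>
          show ((ρ b⁻¹ (ρ b v) : M) : M ⧸ N) = v
          rw [map_inv, MulAut.inv_apply_self]
      right_inv := fun v => by
        induction v using QuotientGroup.induction_on with
        | H v =>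
          show ((ρ b (ρ b⁻¹ v) : M) : M ⧸ N) = v
          rw [map_inv, MulAut.apply_inv_self]
      map_mul' := fun v w => map_mul _ _ _ }
  map_one' := by
    ext v
    induction v using QuotientGroup.induction_on with
    | H v =>
      show ((ρ 1 v : M) : M ⧸ N) = v
      rw [map_one]; rfl
  map_mul' := fun b c => by
    ext v
    induction v using QuotientGroup.induction_on with
    | H v =>
      show ((ρ (b * c) v : M) : M ⧸ N) = ((ρ b (ρ c v) : M) : M ⧸ N)
      rw [map_mul]; rfl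

theorem actQuot_mk (ρ : B →* MulAut M) (N : Subgroup M) [N.Normal] (hN : ∀ b, ∀ v ∈ N, ρ b v ∈ N) (b : B) (v : M) :
    actQuot ρ N hN b (v : M ⧸ N) = ((ρ b v : M) : M ⧸ N) := rfl

end act

universe u

variable {P : Type u} [Group P] {p n : ℕ} {W : ℕ → Subgroup P} [hN1 : (W 1).Normal] {A : Subgroup (MulAut (W 1))}
variable [hp : Fact p.Prime] [Finite P]

namespace Sit

theorem cons_fix (S : Sit p n W A) {i i' : ℕ} (hc : Cons n W A i i') {C : Subgroup (MulAut (W 1))} (hCA : C ≤ A)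
    (hn : ∀ a ∈ A, ∀ c ∈ C, a * c * a⁻¹ ∈ C) (hCc : C ⊓ conjGrp (W 1) ≤ inn (W 1)) :
    ∀ c ∈ C, ∀ e : W 1, (e : P) ∈ W (i' - 1) → (e : P)⁻¹ * ((c e : W 1) : P) ∈ W i' := by
  have hi1 := hc.one_le
  have hlt := hc.lt
  have hle := S.cons_le hc
  obtain ⟨s, hs⟩ := S.exists_s
  have hWi' := S.mc.normal i'
  set V : Subgroup (W 1) := BB W i with hV
  have hBn : (BB W i').Normal := Subgroup.normal_subgroupOf
  set N : Subgroup V := (BB W i').subgroupOf V with hN
  have hNn : N.Normal := Subgroup.normal_subgroupOf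
  have hmemN : ∀ v : V, v ∈ N ↔ ((v : W 1) : P) ∈ W i' := fun v => Iff.rfl
  -- the actions
  let ρ0 : A →* MulAut V := actSub A.subtype V (fun b e he => hc.inv b b.2 e he)
  let ρ1 : A →* MulAut (V ⧸ N) := actQuot ρ0 N (fun b v hv => hc.inv' b b.2 v hv)
  have hρ1 : ∀ (a : A) (v : V), ρ1 a (v : V ⧸ N) = ((ρ0 a v : V) : V ⧸ N) := fun a v => rfl
  have hcomm : ∀ x y : V ⧸ N, x * y = y * x := by
    intro x y
    induction x using QuotientGroup.induction_on with
    | H x =>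
    induction y using QuotientGroup.induction_on with
    | H y =>
      have h1 : ⁅(x : W 1), (y : W 1)⁆ ∈ BB W i' :=
        S.cons_comm hc (commutator_mem_commutator x.2 (Subgroup.mem_top _))
      have h2 : ⁅x, y⁆ ∈ N := h1
      rw [← QuotientGroup.mk_mul, ← QuotientGroup.mk_mul, eq_comm, QuotientGroup.eq]
      have h3 := hNn.conj_mem _ h2 (x⁻¹ * y⁻¹)
      have h4 : x⁻¹ * y⁻¹ * ⁅x, y⁆ * (x⁻¹ * y⁻¹)⁻¹ = (y * x)⁻¹ * (x * y) := by
        rw [commutatorElement_def]; group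
      rwa [h4] at h3
  have hexp : ∀ x : V ⧸ N, x ^ p = 1 := by
    intro x
    induction x using QuotientGroup.induction_on with
    | H x =>
      rw [← QuotientGroup.mk_pow, QuotientGroup.eq_one_iff, hmemN]
      exact S.cons_pow hc x.2
  have hIle : ∀ a : A, (a : MulAut (W 1)) ∈ inn (W 1) → ρ1 a = 1 := by
    rintro a ⟨w, hw⟩
    ext v
    induction v using QuotientGroup.induction_on with
    | H v =>
      rw [hρ1, MulAut.one_apply, QuotientGroup.eq, hmemN]
      have h1 : ⁅(v : W 1), w⁆ ∈ BB W i' := S.cons_comm hc (commutator_mem_commutator v.2 (Subgroup.mem_top _))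
      have h2 : (((ρ0 a v : V)⁻¹ * v : V) : W 1) = w * (v : W 1)⁻¹ * w⁻¹ * v := by
        show ((a : MulAut (W 1)) (v : W 1))⁻¹ * v = _
        rw [← hw, MulAut.conj_apply]
        group
      have h3 := hBn.conj_mem _ h1 (v : W 1)⁻¹
      have h4 : (v : W 1)⁻¹ * ⁅(v : W 1), w⁆ * ((v : W 1)⁻¹)⁻¹ = w * (v : W 1)⁻¹ * w⁻¹ * v := by
        rw [commutatorElement_def]; group
      rw [h4, ← h2] at h3
      exact h3
  let I : Subgroup A := (inn (W 1)).subgroupOf A
  have hIn : I.Normal := by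
    refine ⟨fun c hc g => ?_⟩
    exact inn_conj (g : MulAut (W 1)) hc
  let ρ : A ⧸ I →* MulAut (V ⧸ N) := QuotientGroup.lift I ρ1 (fun a ha => hIle a ha)
  have hρ : ∀ a : A, ρ (a : A ⧸ I) = ρ1 a := fun a => rfl
  let _ : CommGroup (V ⧸ N) := { (inferInstance : Group (V ⧸ N)) with mul_comm := hcomm }
  set cs : A := ⟨MulAut.conjNormal (H := W 1) s, S.conj_le ⟨s, rfl⟩⟩ with hcs
  have hρs : ∀ v : V, ρ (cs : A ⧸ I) (v : V ⧸ N) = ((ρ0 cs v : V) : V ⧸ N) := fun v => rfl
  -- the difference operator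
  have hdif : ∀ (m : ℕ) (v : V), ∃ w : V, ((w : W 1) : P) ∈ W (i + m) ∧
      (dif (ρ (cs : A ⧸ I)))^[m] (v : V ⧸ N) = (w : V ⧸ N) := by
    intro m
    induction m with
    | zero => intro v; exact ⟨v, v.2, rfl⟩
    | succ m ih =>
      intro v
      obtain ⟨w, hw, hw2⟩ := ih v
      refine ⟨ρ0 cs w * w⁻¹, ?_, ?_⟩
      · have h1 : (((ρ0 cs w * w⁻¹ : V) : W 1) : P) = ⁅s, ((w : W 1) : P)⁆ := by
          show s * w * s⁻¹ * (w : P)⁻¹ = _
          rw [commutatorElement_def]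
        rw [h1]
        exact S.mc.comm_mem' hw
      · rw [Function.iterate_succ_apply', hw2, dif, hρs]
        rfl
  have hnil : ∀ v, (dif (ρ (cs : A ⧸ I)))^[p - 1] v = 1 := by
    intro v
    induction v using QuotientGroup.induction_on with
    | H v =>
      obtain ⟨w, hw, hw2⟩ := hdif (p - 1) v
      rw [hw2, QuotientGroup.eq_one_iff, hmemN]
      exact S.mc.antitone hle hw
  have hNorm := norm_eq_one hexp (ρ (cs : A ⧸ I)) hnil
  have hxp : (cs : A ⧸ I) ^ p = 1 := by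
    rw [← QuotientGroup.mk_pow, QuotientGroup.eq_one_iff]
    exact S.pow_mem_inn ⟨s, rfl⟩
  -- the trace
  set C' : Subgroup (A ⧸ I) := (C.subgroupOf A).map (QuotientGroup.mk' I) with hC'
  have hxC : ∀ c ∈ C', (cs : A ⧸ I) * c * (cs : A ⧸ I)⁻¹ ∈ C' := by
    rintro _ ⟨c, hc, rfl⟩
    refine ⟨cs * c * cs⁻¹, hn cs cs.2 c hc, rfl⟩
  have hfix : ∀ c ∈ C', (cs : A ⧸ I) * c = c * (cs : A ⧸ I) → c = 1 := by
    rintro _ ⟨c, hcC, rfl⟩ hcc
    rw [QuotientGroup.mk'_apply] at hcc ⊢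
    rw [QuotientGroup.eq_one_iff]
    have h1 : c * cs * c⁻¹ * cs⁻¹ ∈ I := by
      rw [← QuotientGroup.eq_one_iff, QuotientGroup.mk_mul, QuotientGroup.mk_mul, QuotientGroup.mk_mul,
        QuotientGroup.mk_inv, QuotientGroup.mk_inv, ← hcc, mul_inv_cancel_right, mul_inv_cancel]
    have h2 : (c : MulAut (W 1)) ∈ conjGrp (W 1) := S.mem_conjGrp c.2 hs h1
    exact hCc ⟨hcC, h2⟩
  intro c hcC e he
  have heV : e ∈ V := S.mc.antitone (by omega) he
  have hw : ρ (cs : A ⧸ I) ((⟨e, heV⟩ : V) : V ⧸ N) = ((⟨e, heV⟩ : V) : V ⧸ N) := by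
    rw [hρs, QuotientGroup.eq, hmemN]
    have h1 : ⁅s, (e : P)⁻¹⁆ ∈ W i' := by
      have := S.mc.comm_mem' (x := s) (inv_mem he)
      rwa [show i' - 1 + 1 = i' by omega] at this
    have h2 : ((((ρ0 cs ⟨e, heV⟩ : V)⁻¹ * ⟨e, heV⟩ : V) : W 1) : P) = ⁅s, (e : P)⁻¹⁆ := by
      show (s * e * s⁻¹)⁻¹ * (e : P) = _
      rw [commutatorElement_def]
      group
    rw [h2]
    exact h1
  have hfin : Finite C' := inferInstance
  have h1 := trace_fix ρ hxp hNorm C' hxC hfix hw ((⟨c, hCA hcC⟩ : A) : A ⧸ I) ⟨⟨c, hCA hcC⟩, hcC, rfl⟩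
  rw [hρ, hρ1, eq_comm, QuotientGroup.eq, hmemN] at h1
  exact h1

end Sit

end Cfsg.Agent.H779.Core
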