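import Cfsg.Agent.H779.Taylor
import Cfsg.Agent.H508.ThompsonGen

/-!
# The power structure of `p`-groups of maximal class with a uniform element

`Chain p n Γ` : `Γ` is a chain of normal subgroups of the group `G` of order `p ^ n`, `|Γ i| = p ^ (n - i)`,
`Γ 2 = G'`, `⁅G, Γ i⁆ ≤ Γ (i + 1)`, `⁅Γ i, Γ j⁆ ≤ Γ (i + j)` (a `p`-group of maximal class with any maximal
subgroup `Γ 1` gives such a chain).

`Unif n Γ x` : `x` is outside `Γ 1` and centralizes nothing in `Γ 1` outside `Γ (n - 1)`.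

* `Unif.conj` : `x` is conjugate to `x u` for all `u ∈ Γ 2`.
* `pow_mem`, `pow_not_mem` : for `2 ≤ i` and `y ∈ Γ i`, `y ^ p ∈ Γ (i + p - 1)`; if moreover
  `y ∉ Γ (i + 1)`, `i + p ≤ n`, then `y ^ p ∉ Γ (i + p)`.
* `card_le` : `|K| ≤ p ^ (p - 1) |℧₁(K)|` for `K ≤ Γ 2`; `|H| ≤ p ^ p |℧₁(H)|` for `H ≠ G`.
-/

set_option autoImplicit false

open scoped commutatorElement

namespace Cfsg.Agent.H779.MaxPow

open Cfsg.Agent.H541.PolySeq Cfsg.Agent.H779.Taylor

variable {G : Type*} [Group G]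

/-- A chain as in a group of maximal class. -/
structure Chain (p n : ℕ) (Γ : ℕ → Subgroup G) : Prop where
  zero : Γ 0 = ⊤
  card : ∀ i ≤ n, Nat.card (Γ i) = p ^ (n - i)
  anti : ∀ i, Γ (i + 1) ≤ Γ i
  normal : ∀ i, (Γ i).Normal
  der : ⁅(⊤ : Subgroup G), ⊤⁆ = Γ 2
  step : ∀ i, 1 ≤ i → ⁅(⊤ : Subgroup G), Γ i⁆ ≤ Γ (i + 1)
  comm : ∀ i j, 1 ≤ i → 1 ≤ j → ⁅Γ i, Γ j⁆ ≤ Γ (i + j)

/-- A uniform element. -/
structure Unif (n : ℕ) (Γ : ℕ → Subgroup G) (x : G) : Prop where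
  not_mem : x ∉ Γ 1
  cent : ∀ y ∈ Γ 1, x * y = y * x → y ∈ Γ (n - 1)

namespace Chain

variable {p n : ℕ} {Γ : ℕ → Subgroup G} (h : Chain p n Γ)

include h

theorem antitone : Antitone Γ := antitone_nat_of_succ_le h.anti

theorem mono_le {i j : ℕ} (hij : i ≤ j) : Γ j ≤ Γ i := h.antitone hij

theorem last (i : ℕ) (hi : n ≤ i) : Γ i = ⊥ := by
  have h1 : Nat.card (Γ n) = 1 := by rw [h.card n le_rfl]; simp
  have h2 : Γ n = ⊥ := by
    rw [Subgroup.eq_bot_iff_card]; exact h1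
  rw [eq_bot_iff, ← h2]
  exact h.mono_le hi

theorem comm_mem {i : ℕ} (hi : 1 ≤ i) (g : G) {y : G} (hy : y ∈ Γ i) : ⁅g, y⁆ ∈ Γ (i + 1) :=
  h.step i hi (Subgroup.commutator_mem_commutator (Subgroup.mem_top g) hy)

/-- The low filtration: `⊤, ⊤, Γ 2, Γ 3, …`. -/
def _root_.Cfsg.Agent.H779.MaxPow.lowF (Γ : ℕ → Subgroup G) (i : ℕ) : Subgroup G :=
  if i ≤ 1 then ⊤ else Γ i

theorem filt_lowF : Filt (lowF Γ) where
  anti i := by
    unfold lowF
    split_ifs with h1 h2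
    · exact le_top
    · omega
    · exact le_top
    · exact h.anti i
  comm i j := by
    unfold lowF
    by_cases hi : i ≤ 1
    · by_cases hj : j ≤ 1
      · rw [if_pos hi, if_pos hj]
        split_ifs with hij
        · exact le_top
        · have : i + j = 2 := by omega
          rw [this, h.der]
      · rw [if_pos hi, if_neg hj, if_neg (by omega)]
        refine (h.step j (by omega)).trans (h.mono_le (by omega))
    · by_cases hj : j ≤ 1
      · rw [if_pos hj, if_neg hi, if_neg (by omega), Subgroup.commutator_comm]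
        refine (h.step i (by omega)).trans (h.mono_le (by omega))
      · rw [if_neg hj, if_neg hi, if_neg (by omega)]
        exact h.comm i j (by omega) (by omega)

theorem lowF_normal (i : ℕ) : (lowF Γ i).Normal := by
  unfold lowF
  split_ifs
  · infer_instance
  · exact h.normal i

omit h in
theorem _root_.Cfsg.Agent.H779.MaxPow.lowF_of {i : ℕ} (hi : 2 ≤ i) : lowF Γ i = Γ i := by
  unfold lowF; rw [if_neg (by omega)]

end Chain

section fin

variable {p n : ℕ} {Γ : ℕ → Subgroup G} {x : G}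

/-- The map `y ↦ [x⁻¹, y]` on `Γ 1` has fibres of size at most `p`. -/
theorem card_le_mul [Finite G] (h : Chain p n Γ) (hn : 1 ≤ n)
    (hx : Unif n Γ x) (A : Subgroup G) (hA : A ≤ Γ 1) (S : Set G) (hS : S ⊆ (A : Set G)) :
    S.ncard ≤ p * ((fun y => ⁅x⁻¹, y⁆) '' S).ncard := by
  classical
  cases nonempty_fintype G
  have e1 : S.ncard = S.toFinset.card := Set.ncard_eq_toFinset_card' S
  have e2 : ((fun y => ⁅x⁻¹, y⁆) '' S).ncard = (S.toFinset.image (fun y => ⁅x⁻¹, y⁆)).card := by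
    rw [← Set.toFinset_image, Set.ncard_eq_toFinset_card']
  rw [e1, e2]
  apply Finset.card_le_mul_card_image
  intro b hb
  rw [Finset.mem_image] at hb
  obtain ⟨y₀, hy₀, rfl⟩ := hb
  rw [Set.mem_toFinset] at hy₀
  have hcard : Nat.card (Γ (n - 1)) = p := by
    rw [h.card (n - 1) (by omega), show n - (n - 1) = 1 by omega, pow_one]
  have h1 : (S.toFinset.filter (fun y => ⁅x⁻¹, y⁆ = ⁅x⁻¹, y₀⁆)) ⊆
      ((Γ (n - 1) : Set G).toFinset.image (fun z => y₀ * z)) := by
    intro y hy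
    rw [Finset.mem_filter, Set.mem_toFinset] at hy
    rw [Finset.mem_image]
    refine ⟨y₀⁻¹ * y, ?_, by group⟩
    rw [Set.mem_toFinset]
    refine hx.cent _ (mul_mem (inv_mem (hA (hS hy₀))) (hA (hS hy.1))) ?_
    have h2 := hy.2
    simp only [commutatorElement_def, inv_inv] at h2
    have h3 : y * x * y⁻¹ = y₀ * x * y₀⁻¹ := by
      have := congrArg (fun t => x * t) h2
      simpa [mul_assoc] using this
    calc x * (y₀⁻¹ * y) = y₀⁻¹ * (y₀ * x * y₀⁻¹) * y := by group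
      _ = y₀⁻¹ * (y * x * y⁻¹) * y := by rw [h3]
      _ = y₀⁻¹ * y * x := by group
  refine (Finset.card_le_card h1).trans (Finset.card_image_le.trans ?_)
  have h4 : ((Γ (n - 1) : Set G).toFinset).card = Nat.card (Γ (n - 1)) := by
    rw [← Set.ncard_eq_toFinset_card']
    rfl
  rw [h4, hcard]

/-- Every element of `Γ 2` is of the form `[x⁻¹, y]`, `y ∈ Γ 1`. -/
theorem Unif.surj [Finite G] [hp : Fact p.Prime] (h : Chain p n Γ) (hn : 2 ≤ n)
    (hx : Unif n Γ x) {u : G} (hu : u ∈ Γ 2) : ∃ y ∈ Γ 1, ⁅x⁻¹, y⁆ = u := by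
  have h1 := card_le_mul h (by omega) hx (Γ 1) le_rfl (Γ 1 : Set G) subset_rfl
  have h2 : (fun y => ⁅x⁻¹, y⁆) '' (Γ 1 : Set G) ⊆ (Γ 2 : Set G) := by
    rintro _ ⟨y, hy, rfl⟩
    exact h.comm_mem le_rfl _ hy
  have h3 : ((Γ 1 : Set G)).ncard = p ^ (n - 1) := by
    rw [← h.card 1 (by omega)]; rfl
  have h4 : ((Γ 2 : Set G)).ncard = p ^ (n - 2) := by
    rw [← h.card 2 (by omega)]; rfl
  have h5 : (fun y => ⁅x⁻¹, y⁆) '' (Γ 1 : Set G) = (Γ 2 : Set G) := by
    refine Set.eq_of_subset_of_ncard_le h2 ?_ (Set.toFinite _)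
    rw [h4]
    rw [h3, show n - 1 = (n - 2) + 1 by omega, pow_succ'] at h1
    exact Nat.le_of_mul_le_mul_left h1 hp.out.pos
  have h6 : u ∈ (fun y => ⁅x⁻¹, y⁆) '' (Γ 1 : Set G) := by rw [h5]; exact hu
  obtain ⟨y, hy, hyu⟩ := h6
  exact ⟨y, hy, hyu⟩

/-- `x` is conjugate to `x u`, `u ∈ Γ 2`. -/
theorem Unif.conj [Finite G] [hp : Fact p.Prime] (h : Chain p n Γ) (hn : 2 ≤ n)
    (hx : Unif n Γ x) {u : G} (hu : u ∈ Γ 2) : ∃ g : G, x * u = g * x * g⁻¹ := by
  obtain ⟨y, -, rfl⟩ := hx.surj h hn hu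
  refine ⟨y, ?_⟩
  simp only [commutatorElement_def, inv_inv]
  group

/-- `[x⁻¹, y] ∈ Γ (i + 1)`, `y ∈ Γ 1` implies `y ∈ Γ i`. -/
theorem Unif.mem_of_comm [Finite G] (h : Chain p n Γ)
    (hx : Unif n Γ x) {i : ℕ} (hi : 1 ≤ i) (hin : i + 1 ≤ n) {y : G} (hy : y ∈ Γ 1)
    (hc : ⁅x⁻¹, y⁆ ∈ Γ (i + 1)) : y ∈ Γ i := by
  let S : Set G := {y | y ∈ Γ 1 ∧ ⁅x⁻¹, y⁆ ∈ Γ (i + 1)}
  have h1 := card_le_mul h (by omega) hx (Γ 1) le_rfl S (fun y hy => hy.1)
  have h2 : ((fun y => ⁅x⁻¹, y⁆) '' S).ncard ≤ p ^ (n - (i + 1)) := by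
    rw [← h.card (i + 1) hin]
    refine (Set.ncard_le_ncard (t := (Γ (i + 1) : Set G)) ?_ (Set.toFinite _)).trans le_rfl
    rintro _ ⟨y, hy, rfl⟩
    exact hy.2
  have h3 : (Γ i : Set G) ⊆ S := fun z hz => ⟨h.mono_le hi hz, h.comm_mem hi _ hz⟩
  have h4 : ((Γ i : Set G)).ncard = p ^ (n - i) := by
    rw [← h.card i (by omega)]; rfl
  have h5 : (Γ i : Set G) = S := by
    refine Set.eq_of_subset_of_ncard_le h3 ?_ (Set.toFinite _)
    rw [h4]
    refine h1.trans ((Nat.mul_le_mul_left p h2).trans (le_of_eq ?_))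
    rw [← pow_succ', show n - (i + 1) + 1 = n - i by omega]
  have h6 : y ∈ S := ⟨hy, hc⟩
  rw [← h5] at h6
  exact h6

/-- `x ^ p ∈ Γ (n - 1)`. -/
theorem Unif.pow_mem_last [Finite G] [hp : Fact p.Prime] (h : Chain p n Γ) (hn : 1 ≤ n)
    (hx : Unif n Γ x) : x ^ p ∈ Γ (n - 1) := by
  refine hx.cent _ ?_ (by rw [← pow_succ, ← pow_succ'])
  have := h.normal 1
  have h1 : Nat.card (G ⧸ Γ 1) = p := by
    have h2 := Subgroup.card_eq_card_quotient_mul_card_subgroup (Γ 1)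
    have h3 : Nat.card G = p ^ n := by
      rw [← Subgroup.card_top, ← h.zero, h.card 0 (by omega), Nat.sub_zero]
    rw [h3, h.card 1 hn, show n = (n - 1) + 1 by omega, pow_succ', Nat.add_sub_cancel] at h2
    exact (Nat.eq_of_mul_eq_mul_right (pow_pos hp.out.pos _) h2).symm
  have h2 : ((x : G ⧸ Γ 1)) ^ p = 1 := by rw [← h1]; exact pow_card_eq_one'
  rwa [← QuotientGroup.mk_pow, QuotientGroup.eq_one_iff] at h2

theorem Unif.pow_comm [Finite G] [hp : Fact p.Prime] (h : Chain p n Γ) (hn : 1 ≤ n)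
    (hx : Unif n Γ x) (g : G) (hn2 : 2 ≤ n) : g * x ^ p * g⁻¹ = x ^ p := by
  have h1 := h.comm_mem (i := n - 1) (by omega) g (hx.pow_mem_last h hn)
  rw [h.last _ (by omega), Subgroup.mem_bot, commutatorElement_def] at h1
  exact mul_inv_eq_one.1 h1

/-- The iterated commutators with `x⁻¹`. -/
theorem ads_not_mem [Finite G] (h : Chain p n Γ) (hx : Unif n Γ x) (k : ℕ) :
    ∀ (i : ℕ) (y : G), 1 ≤ i → i + k + 1 ≤ n → y ∈ Γ i → y ∉ Γ (i + 1) →
      ads x k y ∉ Γ (i + k + 1) := by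
  induction k with
  | zero => intro i y _ _ _ hy; exact hy
  | succ k ih =>
    intro i y hi hin hy hy'
    have h1 := ih (i + 1) ⁅x⁻¹, y⁆ (by omega) (by omega) (h.comm_mem hi _ hy) (fun h2 =>
      hy' (hx.mem_of_comm h (i := i + 1) (by omega) (by omega) (h.mono_le hi hy) h2))
    rwa [show i + (k + 1) + 1 = i + 1 + k + 1 by ring]

/-- The factors of the Taylor product other than the first and the last. -/
theorem tay_mem (hp : p.Prime) (c : ℕ → G) (L : Subgroup G) (h0 : c 0 = 1)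
    (hc : ∀ j, 2 ≤ j → j < p → c j ^ p ∈ L) (m : ℕ) (hm : 2 ≤ m) (hmp : m ≤ p) :
    ∃ e ∈ L, Filt.tay c m p = c 1 ^ p * e := by
  induction m, hm using Nat.le_induction with
  | base =>
    refine ⟨1, one_mem _, ?_⟩
    simp [Filt.tay, h0]
  | succ m hm ih =>
    obtain ⟨e, he, h1⟩ := ih (by omega)
    refine ⟨e * c m ^ p.choose m, mul_mem he ?_, ?_⟩
    · obtain ⟨q, hq⟩ := hp.dvd_choose_self (by omega : m ≠ 0) (by omega : m < p)
      rw [hq, pow_mul]
      exact pow_mem (hc m hm (by omega)) _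
    · rw [Filt.tay, h1, mul_assoc]

/-- **Power structure**, general step: `i ≥ 2`. -/
theorem pow_struct [Finite G] [hp : Fact p.Prime] (h : Chain p n Γ) (hn : 2 ≤ n)
    (hx : Unif n Γ x) (k : ℕ) : ∀ i : ℕ, 2 ≤ i → n - i ≤ k → ∀ y ∈ Γ i,
      y ^ p ∈ Γ (i + p - 1) ∧ (i + p ≤ n → y ∉ Γ (i + 1) → y ^ p ∉ Γ (i + p)) := by
  induction k with
  | zero =>
    intro i hi hni y hy
    rw [h.last i (by omega), Subgroup.mem_bot] at hy
    subst hy
    exact ⟨by rw [one_pow]; exact one_mem _, fun _ h1 => absurd (one_mem _) h1⟩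
  | succ k ih =>
    intro i hi hni y hy
    have hp2 := hp.out.two_le
    have hF := h.filt_lowF
    have hxF : x ∈ lowF Γ 1 := by unfold lowF; simp
    have hyF : y ∈ lowF Γ (i - 1 + 1) := by
      rw [show i - 1 + 1 = i by omega, lowF_of hi]; exact hy
    obtain ⟨c, hc, hc0, hc1, hca, hct⟩ := exists_pow_formula hF h.lowF_normal hxF (i - 1) (by omega)
      hyF p
    have hcΓ : ∀ j, 1 ≤ j → c j ∈ Γ (i + j - 1) := by
      intro j hj
      have := hc j
      rwa [lowF_of (by omega), show i - 1 + j = i + j - 1 by omega] at this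
    have hcp : ∀ j, 2 ≤ j → j < p → c j ^ p ∈ Γ (i + p) := by
      intro j hj hjp
      by_cases hjn : n ≤ i + j - 1
      · have := hcΓ j (by omega)
        rw [h.last _ hjn, Subgroup.mem_bot] at this
        rw [this, one_pow]
        exact one_mem _
      · exact h.mono_le (by omega) (ih (i + j - 1) (by omega) (by omega) _ (hcΓ j (by omega))).1
    obtain ⟨e, he, het⟩ := tay_mem hp.out c _ hc0 hcp p hp2 le_rfl
    obtain ⟨e', he', hads⟩ := hca p (by omega) le_rfl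
    have hf := hct p le_rfl
    rw [Filt.tay, het, hc1 (by omega), Nat.choose_self, pow_one] at hf
    -- the left side is `1`
    have hl : (x ^ p)⁻¹ * (x * y) ^ p = 1 := by
      obtain ⟨g, hg⟩ := hx.conj h hn (h.mono_le hi hy)
      rw [hg, conj_pow, hx.pow_comm h (by omega) g hn, inv_mul_cancel]
    rw [hl] at hf
    have hyp : y ^ p = (e * c p)⁻¹ := by
      rw [eq_inv_iff_mul_eq_one, ← mul_assoc]; exact hf.symm
    have hcp' := hcΓ p (by omega)
    constructor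
    · rw [hyp]
      exact inv_mem (mul_mem (h.mono_le (by omega) he) hcp')
    · intro hin hy' hyp'
      rw [hyp] at hyp'
      have h1 : e * c p ∈ Γ (i + p) := by
        have := inv_mem hyp'
        rwa [inv_inv] at this
      have h2 : c p ∈ Γ (i + p) := by
        have := mul_mem (inv_mem he) h1
        rwa [inv_mul_cancel_left] at this
      have h3 : ads x (p - 1) y ∈ Γ (i + p) := by
        rw [hads]
        refine mul_mem h2 ?_
        rw [show i - 1 + p + 1 = i + p by omega, lowF_of (by omega)] at he'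
        exact he'
      have h4 := ads_not_mem h hx (p - 1) i y (by omega) (by omega) hy hy'
      rw [show i + (p - 1) + 1 = i + p by omega] at h4
      exact h4 h3

theorem pow_mem [Finite G] [hp : Fact p.Prime] (h : Chain p n Γ) (hn : 2 ≤ n)
    (hx : Unif n Γ x) {i : ℕ} (hi : 2 ≤ i) {y : G} (hy : y ∈ Γ i) : y ^ p ∈ Γ (i + p - 1) :=
  (pow_struct h hn hx (n - i) i hi le_rfl y hy).1

theorem pow_not_mem [Finite G] [hp : Fact p.Prime] (h : Chain p n Γ) (hn : 2 ≤ n)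
    (hx : Unif n Γ x) {i : ℕ} (hi : 2 ≤ i) (hin : i + p ≤ n) {y : G} (hy : y ∈ Γ i)
    (hy' : y ∉ Γ (i + 1)) : y ^ p ∉ Γ (i + p) :=
  (pow_struct h hn hx (n - i) i hi le_rfl y hy).2 hin hy'

/-- Consecutive terms of the chain `K ∩ Γ i`. -/
theorem card_inf_le [Finite G] (hp : p.Prime) (h : Chain p n Γ) (K : Subgroup G) {i : ℕ}
    (hi : i + 1 ≤ n) :
    Nat.card (K ⊓ Γ i : Subgroup G) ≤ p * Nat.card (K ⊓ Γ (i + 1) : Subgroup G) := by
  have h1 : (Γ (i + 1)).relIndex (Γ i) = p := by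
    have h2 := Subgroup.relIndex_mul_relIndex ⊥ (Γ (i + 1)) (Γ i) bot_le (h.anti i)
    rw [Subgroup.relIndex_bot_left, Subgroup.relIndex_bot_left, h.card _ hi, h.card i (by omega),
      show n - i = n - (i + 1) + 1 by omega, pow_succ] at h2
    exact Nat.eq_of_mul_eq_mul_left (pow_pos hp.pos _) h2
  have h3 := Subgroup.relIndex_mul_relIndex ⊥ (K ⊓ Γ (i + 1)) (K ⊓ Γ i) bot_le
    (inf_le_inf_left K (h.anti i))
  rw [Subgroup.relIndex_bot_left, Subgroup.relIndex_bot_left] at h3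
  have h4 : (K ⊓ Γ (i + 1)).relIndex (K ⊓ Γ i) = (Γ (i + 1)).relIndex (K ⊓ Γ i) := by
    rw [← Subgroup.inf_relIndex_right, ← Subgroup.inf_relIndex_right (H := Γ (i + 1))]
    congr 1
    ext z
    simp only [Subgroup.mem_inf]
    tauto
  have h5 : (Γ (i + 1)).relIndex (K ⊓ Γ i) ≤ (Γ (i + 1)).relIndex (Γ i) :=
    Subgroup.relIndex_le_of_le_right inf_le_right (by rw [h1]; exact hp.ne_zero)
  rw [← h3, h4, mul_comm]
  exact Nat.mul_le_mul_right _ (h5.trans h1.le)

/-- Proper inclusions in a `p`-group. -/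
theorem mul_card_le_of_lt [Finite G] (hp : p.Prime) (hG : IsPGroup p G) {A B : Subgroup G}
    (hAB : A < B) : p * Nat.card A ≤ Nat.card B := by
  have : Fact p.Prime := ⟨hp⟩
  obtain ⟨a, ha⟩ := (hG.to_subgroup A).exists_card_eq
  obtain ⟨b, hb⟩ := (hG.to_subgroup B).exists_card_eq
  have h1 : Nat.card A < Nat.card B := by
    refine lt_of_le_of_ne (Subgroup.card_le_of_le hAB.le) (fun he => hAB.ne ?_)
    exact Subgroup.eq_of_le_of_card_ge hAB.le he.ge
  rw [ha, hb] at h1 ⊢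
  rw [← pow_succ']
  exact Nat.pow_le_pow_right hp.pos ((Nat.pow_lt_pow_iff_right hp.one_lt).1 h1)

theorem Chain.isPGroup (h : Chain p n Γ) : IsPGroup p G := by
  refine IsPGroup.of_card (n := n) ?_
  rw [← Subgroup.card_top, ← h.zero, h.card 0 (by omega), Nat.sub_zero]

/-- Counting along the chain. -/
theorem card_inf_le_of [Finite G] [hp : Fact p.Prime] (h : Chain p n Γ) (hn : 2 ≤ n)
    (hx : Unif n Γ x) (K U : Subgroup G) (hU : ∀ k ∈ K, k ^ p ∈ U) (k : ℕ) :
    ∀ i, 2 ≤ i → i + p - 1 + k = n →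
      Nat.card (K ⊓ Γ i : Subgroup G) ≤ p ^ (p - 1) * Nat.card (U ⊓ Γ (i + p - 1) : Subgroup G) := by
  have hpG := h.isPGroup
  have hp2 := hp.out.two_le
  induction k with
  | zero =>
    intro i hi hik
    have h1 : Nat.card (K ⊓ Γ i : Subgroup G) ≤ Nat.card (Γ i) :=
      Subgroup.card_le_of_le inf_le_right
    rw [h.card i (by omega), show n - i = p - 1 by omega] at h1
    exact h1.trans (Nat.le_mul_of_pos_right _ Nat.card_pos)
  | succ k ih =>
    intro i hi hik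
    have h1 := ih (i + 1) (by omega) (by omega)
    have h2 : i + 1 + p - 1 = i + p - 1 + 1 := by omega
    rw [h2] at h1
    by_cases hK : K ⊓ Γ i ≤ Γ (i + 1)
    · have h3 : K ⊓ Γ i = K ⊓ Γ (i + 1) :=
        le_antisymm (le_inf inf_le_left hK) (inf_le_inf_left K (h.anti i))
      rw [h3]
      exact h1.trans (Nat.mul_le_mul_left _
        (Subgroup.card_le_of_le (inf_le_inf_left U (h.anti _))))
    · obtain ⟨z, hz, hz'⟩ := SetLike.not_le_iff_exists.1 hK
      have h3 : z ^ p ∈ U ⊓ Γ (i + p - 1) := ⟨hU z hz.1, pow_mem h hn hx hi hz.2⟩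
      have h4 : z ^ p ∉ Γ (i + p - 1 + 1) := by
        rw [show i + p - 1 + 1 = i + p by omega]
        exact pow_not_mem h hn hx hi (by omega) hz.2 hz'
      have h5 : U ⊓ Γ (i + p - 1 + 1) < U ⊓ Γ (i + p - 1) := by
        refine lt_of_le_of_ne (inf_le_inf_left U (h.anti _)) (fun he => h4 ?_)
        rw [← he] at h3
        exact h3.2
      have h6 := mul_card_le_of_lt hp.out hpG h5
      calc Nat.card (K ⊓ Γ i : Subgroup G) ≤ p * Nat.card (K ⊓ Γ (i + 1) : Subgroup G) :=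
            card_inf_le hp.out h K (by omega)
        _ ≤ p * (p ^ (p - 1) * Nat.card (U ⊓ Γ (i + p - 1 + 1) : Subgroup G)) :=
            Nat.mul_le_mul_left _ h1
        _ = p ^ (p - 1) * (p * Nat.card (U ⊓ Γ (i + p - 1 + 1) : Subgroup G)) := by ring
        _ ≤ _ := Nat.mul_le_mul_left _ h6

/-- `|K| ≤ p ^ (p - 1) |℧₁(K)|` for `K ≤ Γ 2`. -/
theorem card_le_of_le_two [Finite G] [hp : Fact p.Prime] (h : Chain p n Γ) (hn : 2 ≤ n)
    (hx : Unif n Γ x) (K U : Subgroup G) (hK : K ≤ Γ 2) (hU : ∀ k ∈ K, k ^ p ∈ U) :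
    Nat.card K ≤ p ^ (p - 1) * Nat.card U := by
  have hp2 := hp.out.two_le
  by_cases hpn : p + 1 ≤ n
  · have h1 := card_inf_le_of h hn hx K U hU (n - (p + 1)) 2 le_rfl (by omega)
    rw [inf_eq_left.2 hK] at h1
    exact h1.trans (Nat.mul_le_mul_left _ (Subgroup.card_le_of_le inf_le_left))
  · have h1 : Nat.card K ≤ p ^ (n - 2) := by
      rw [← h.card 2 hn]; exact Subgroup.card_le_of_le hK
    calc Nat.card K ≤ p ^ (n - 2) := h1
      _ ≤ p ^ (p - 1) := Nat.pow_le_pow_right hp.out.pos (by omega)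
      _ ≤ _ := Nat.le_mul_of_pos_right _ Nat.card_pos

/-- `|H| ≤ p ^ p |℧₁(H)|` for a proper subgroup `H`. -/
theorem card_le_of_ne_top [Finite G] [hp : Fact p.Prime] (h : Chain p n Γ) (hn : 2 ≤ n)
    (hx : Unif n Γ x) (H U : Subgroup G) (hH : H ≠ ⊤) (hU : ∀ k ∈ H, k ^ p ∈ U) :
    Nat.card H ≤ p ^ p * Nat.card U := by
  have hpG := h.isPGroup
  obtain ⟨M, hM, hHM⟩ := (eq_top_or_exists_le_coatom H).resolve_left hH
  have hMn := Cfsg.Agent.Lib.FrattiniPGroup.normal_of_coatom hpG hM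
  have hMi := Cfsg.Agent.Lib.FrattiniPGroup.index_of_coatom hpG hM
  -- `Γ 2 ≤ M`
  have h2M : Γ 2 ≤ M := by
    rw [← h.der]
    refine le_trans (Subgroup.commutator_mono le_rfl le_rfl) ?_
    have hc : IsCyclic (G ⧸ M) := isCyclic_of_prime_card (p := p) (by rw [← Subgroup.index_eq_card, hMi])
    let _ := IsCyclic.commGroup (α := G ⧸ M)
    rw [Subgroup.commutator_le]
    intro a _ b _
    rw [← QuotientGroup.eq_one_iff]
    show (QuotientGroup.mk' M) ⁅a, b⁆ = 1
    rw [map_commutatorElement, commutatorElement_eq_one_iff_mul_comm]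
    exact mul_comm _ _
  have hMc : Nat.card M = p ^ (n - 1) := by
    have h1 := M.card_mul_index
    have h3 : Nat.card G = p ^ n := by
      rw [← Subgroup.card_top, ← h.zero, h.card 0 (by omega), Nat.sub_zero]
    rw [h3, hMi, show p ^ n = p ^ (n - 1) * p by rw [← pow_succ, show n - 1 + 1 = n by omega]] at h1
    exact Nat.eq_of_mul_eq_mul_right hp.out.pos h1
  have h2i : (Γ 2).relIndex M = p := by
    have h2 := Subgroup.relIndex_mul_relIndex ⊥ (Γ 2) M bot_le h2M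
    rw [Subgroup.relIndex_bot_left, Subgroup.relIndex_bot_left, h.card 2 hn, hMc,
      show n - 1 = (n - 2) + 1 by omega, pow_succ] at h2
    exact Nat.eq_of_mul_eq_mul_left (pow_pos hp.out.pos _) h2
  have h3 : Nat.card H ≤ p * Nat.card (H ⊓ Γ 2 : Subgroup G) := by
    have h4 := Subgroup.relIndex_mul_relIndex ⊥ (H ⊓ Γ 2) H bot_le inf_le_left
    rw [Subgroup.relIndex_bot_left, Subgroup.relIndex_bot_left, Subgroup.inf_relIndex_left] at h4
    have h5 : (Γ 2).relIndex H ≤ (Γ 2).relIndex M :=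
      Subgroup.relIndex_le_of_le_right hHM (by rw [h2i]; exact hp.out.ne_zero)
    rw [← h4, mul_comm]
    exact Nat.mul_le_mul_right _ (h5.trans h2i.le)
  have h4 := card_le_of_le_two h hn hx (H ⊓ Γ 2) U inf_le_right (fun k hk => hU k hk.1)
  have hp2 := hp.out.two_le
  calc Nat.card H ≤ p * Nat.card (H ⊓ Γ 2 : Subgroup G) := h3
    _ ≤ p * (p ^ (p - 1) * Nat.card U) := Nat.mul_le_mul_left _ h4
    _ = p ^ p * Nat.card U := by
        rw [← mul_assoc, ← pow_succ', show p - 1 + 1 = p by omega]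

/-- **The sectional rank of a group of maximal class with a uniform element is at most `p`**: proper
subgroups. -/
theorem exists_gen [Finite G] [hp : Fact p.Prime] (h : Chain p n Γ) (hn : 2 ≤ n)
    (hx : Unif n Γ x) (H : Subgroup G) (hH : H ≠ ⊤) :
    ∃ T : Finset G, T.card ≤ p ∧ Subgroup.closure (T : Set G) = H := by
  classical
  have hpG := h.isPGroup
  have hpH := hpG.to_subgroup H
  have h1 := card_le_of_ne_top h hn hx H ((frattini H).map H.subtype) hH (fun k hk =>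
    ⟨(⟨k, hk⟩ : H) ^ p, Cfsg.Agent.Lib.FrattiniPGroup.pow_mem_frattini hpH _, rfl⟩)
  have h2 : Nat.card ((frattini H).map H.subtype) = Nat.card (frattini H) :=
    Nat.card_congr ((frattini H).equivMapOfInjective _ H.subtype_injective).symm.toEquiv
  rw [h2, ← (frattini H).card_mul_index, mul_comm] at h1
  have h3 : (frattini H).index ≤ p ^ p := Nat.le_of_mul_le_mul_right h1 Nat.card_pos
  obtain ⟨T, hT, hTc⟩ := Cfsg.Agent.H508.ThompsonGen.exists_gen_of_index hpH h3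
  refine ⟨T.image H.subtype, Finset.card_image_le.trans hT, ?_⟩
  rw [Finset.coe_image, ← MonoidHom.map_closure, hTc, ← MonoidHom.range_eq_map,
    Subgroup.range_subtype]

end fin

end Cfsg.Agent.H779.MaxPow
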