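import Cfsg.Agent.H779.NPCGrp

/-!
# Block NPC of S5267 (helper779): the case where `conjGrp (W 1)` is not normal in `A`

`SelfDual p` : the statement of blocks N2 and N3 (pure representation theory).
`dual_or_special_of` : the glue.
-/

set_option autoImplicit false
set_option linter.unusedSectionVars false

namespace Cfsg.Agent.H779.Core

open Subgroup Cfsg.Agent.H467.MaxClass Cfsg.Agent.H786
open scoped commutatorElement

universe u v

/-- Blocks N2, N3: if `G` (with Sylow subgroup `⟨x⟩` of order `p`, self-centralizing, not normal) has a faithful irreducible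
module on which `x` has a single Jordan block of size between `2` and `(p - 1) / 2`, then all irreducible modules of
dimension at most `p - 2` on which `x` has a single Jordan block are self-dual. -/
def SelfDual (p : ℕ) [Fact p.Prime] : Prop :=
  ∀ (G : Type u) [Group G] [Finite G] (x : G), orderOf x = p → ¬ p ^ 2 ∣ Nat.card G →
    (∀ g, Commute g x → g ∈ Subgroup.zpowers x) → ¬ (Subgroup.zpowers x).Normal →
    ∀ (B : Type u) [AddCommGroup B] [Module (ZMod p) B] [FiniteDimensional (ZMod p) B]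
      (ρ : Representation (ZMod p) G B), Function.Injective ρ →
      (∀ U : Submodule (ZMod p) B, (∀ g, ∀ u ∈ U, ρ g u ∈ U) → U = ⊥ ∨ U = ⊤) →
      2 ≤ Module.finrank (ZMod p) B → 2 * Module.finrank (ZMod p) B ≤ p - 1 →
      (ρ x - 1) ^ (Module.finrank (ZMod p) B - 1) ≠ 0 →
    ∀ (B₀ : Type u) [AddCommGroup B₀] [Module (ZMod p) B₀] [FiniteDimensional (ZMod p) B₀]
      (ρ₀ : Representation (ZMod p) G B₀),
      (∀ U : Submodule (ZMod p) B₀, (∀ g, ∀ u ∈ U, ρ₀ g u ∈ U) → U = ⊥ ∨ U = ⊤) →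
      1 ≤ Module.finrank (ZMod p) B₀ → Module.finrank (ZMod p) B₀ ≤ p - 2 →
      (ρ₀ x - 1) ^ (Module.finrank (ZMod p) B₀ - 1) ≠ 0 →
      ∃ e : Module.Dual (ZMod p) B₀ ≃ₗ[ZMod p] B₀, ∀ (g : G) (f : Module.Dual (ZMod p) B₀),
        e (f ∘ₗ ρ₀ g⁻¹) = ρ₀ g (e f)

section theta

/-- the functional of a homomorphism -/
def hatf {p : ℕ} {X : Type u} [Group X] {B : Type u} [AddCommGroup B] [Module (ZMod p) B] (Φ : X ≃* Multiplicative B)
    (f : X →* Multiplicative (ZMod p)) : Module.Dual (ZMod p) B :=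
  AddMonoidHom.toZModLinearMap p
    { toFun := fun b => (f (Φ.symm (Multiplicative.ofAdd b))).toAdd
      map_zero' := by
        rw [ofAdd_zero, map_one, map_one]; rfl
      map_add' := fun b c => by
        rw [ofAdd_add, map_mul, map_mul]; rfl }

theorem hatf_apply {p : ℕ} {X : Type u} [Group X] {B : Type u} [AddCommGroup B] [Module (ZMod p) B]
    (Φ : X ≃* Multiplicative B) (f : X →* Multiplicative (ZMod p)) (b : B) :
    hatf Φ f b = (f (Φ.symm (Multiplicative.ofAdd b))).toAdd := rfl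

theorem exists_theta {p : ℕ} {X : Type u} [Group X] {B : Type u} [AddCommGroup B] [Module (ZMod p) B]
    (Φ : X ≃* Multiplicative B) (e : Module.Dual (ZMod p) B ≃ₗ[ZMod p] B) :
    ∃ θ : (X →* Multiplicative (ZMod p)) →* X, Function.Surjective θ ∧
      ∀ f, Φ (θ f) = Multiplicative.ofAdd (e (hatf Φ f)) := by
  refine ⟨⟨⟨fun f => Φ.symm (Multiplicative.ofAdd (e (hatf Φ f))), ?_⟩, ?_⟩, ?_, ?_⟩
  · have h1 : hatf Φ (1 : X →* Multiplicative (ZMod p)) = 0 := by
      ext b; rfl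
    rw [h1, map_zero, ofAdd_zero, map_one]
  · intro f g
    show Φ.symm _ = Φ.symm _ * Φ.symm _
    have h1 : hatf Φ (f * g) = hatf Φ f + hatf Φ g := by
      ext b; rfl
    rw [h1, map_add, ofAdd_add, map_mul]
  · intro x
    obtain ⟨d, hd⟩ := e.surjective (Φ x).toAdd
    refine ⟨⟨⟨fun y => Multiplicative.ofAdd (d (Φ y).toAdd), ?_⟩, ?_⟩, ?_⟩
    · rw [map_one, toAdd_one, map_zero, ofAdd_zero]
    · intro y z
      show Multiplicative.ofAdd (d (Φ (y * z)).toAdd) = _
      rw [map_mul, toAdd_mul, map_add, ofAdd_add]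
    · show Φ.symm (Multiplicative.ofAdd (e (hatf Φ _))) = x
      rw [MulEquiv.symm_apply_eq]
      have h1 : hatf Φ (⟨⟨fun y => Multiplicative.ofAdd (d (Φ y).toAdd), by
          rw [map_one, toAdd_one, map_zero, ofAdd_zero]⟩, fun y z => by
            show Multiplicative.ofAdd (d (Φ (y * z)).toAdd) = _
            rw [map_mul, toAdd_mul, map_add, ofAdd_add]⟩ : X →* Multiplicative (ZMod p)) = d := by
        ext b
        rw [hatf_apply]
        show d (Φ (Φ.symm (Multiplicative.ofAdd b))).toAdd = d b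
        rw [MulEquiv.apply_symm_apply]
        rfl
      rw [h1, hd]
      rfl
  · intro f
    show Φ (Φ.symm _) = _
    rw [MulEquiv.apply_symm_apply]

end theta

variable {P : Type u} [Group P] {p n : ℕ} {W : ℕ → Subgroup P} [hN1 : (W 1).Normal] {A : Subgroup (MulAut (W 1))}
variable [hp : Fact p.Prime] [Finite P]

/-- **Block NPC.** -/
theorem dual_or_special_of (hSD : SelfDual.{u} p) (mc : MC P p n W) (five : 5 ≤ p)
    (deg : ∀ i j, 1 ≤ i → 1 ≤ j → ⁅W i, W j⁆ ≤ W (i + j + 1))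
    (conj_le : conjGrp (W 1) ≤ A) (sylow : ¬ p ∣ (conjGrp (W 1)).relIndex A)
    (hnab : ⁅W 1, W 1⁆ ≠ ⊥) (hnp : ¬ PClosed A) (hΩ : p + 2 ≤ n → ⁅W (n - (p - 1)), W 1⁆ ≠ ⊥) :
    (∃ i, 1 ≤ i ∧ i < n ∧ AInv A (W i) ∧ ⁅W i, W 1⁆ = ⊥ ∧ (∀ w ∈ W i, w ^ p = 1) ∧
      ∃ θ : (W i →* Multiplicative (ZMod p)) →* W i, Function.Surjective θ ∧
        ∀ a ∈ A, ∀ f f' : W i →* Multiplicative (ZMod p),
          (∀ w w' : W i, (w' : P) = ap a (w : P) → f' w' = f w) →
          ((θ f' : W i) : P) = ap a ((θ f : W i) : P)) ∨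
    (p + 2 ≤ n ∧ ⁅W (n - (p - 1)), W 2⁆ = ⊥ ∧ ⁅W (n - (p - 1)), W 1⁆ ≤ W (n - 1) ∧
      AInv A (W (n - 1))) := by
  classical
  have S : Sit p n W A := ⟨mc, deg, five, conj_le, sylow, hnab⟩
  have h4 := mc.four_le
  rcases S.pattern (S.exists_not_nor hnp) hΩ with ⟨i, i', hc, h2, h3⟩ | h
  · left
    obtain ⟨s, hs⟩ := S.exists_s
    obtain ⟨B, _, _, ρ, π, hπ1, hπ2, hπ3⟩ := S.exists_rep hc
    have hR : IsRep i i' ρ π := ⟨hπ1, hπ2, hπ3⟩
    have hBfin := hR.finite
    have hBd := hR.finrank S hc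
    -- the bottom factor
    set i0 := Nat.findGreatest (fun j => AInv A (W j)) (n - 1) with hi0
    have hinv1 : AInv A (W 1) := fun a _ e _ => (a e).2
    have hinv0 : AInv A (W i0) := Nat.findGreatest_spec (P := fun j => AInv A (W j)) (m := 1) (by omega) hinv1
    have hi01 : 1 ≤ i0 := Nat.le_findGreatest (by omega) hinv1
    have hi0n : i0 ≤ n - 1 := Nat.findGreatest_le (n - 1)
    have hc0 : Cons n W A i0 n := by
      refine ⟨hi01, by omega, le_rfl, hinv0, ?_, fun j h5 h6 h7 => ?_⟩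
      · intro a _ e he
        have h5 : (e : P) = 1 := by
          rw [mc.bot] at he
          exact Subgroup.mem_bot.1 he
        have h6 : e = 1 := Subtype.ext h5
        rw [h6, map_one]
        exact one_mem _
      · have := Nat.le_findGreatest (P := fun j => AInv A (W j)) (show j ≤ n - 1 by omega) h7
        omega
    obtain ⟨B₀, _, _, ρ₀, π₀, hπ01, hπ02, hπ03⟩ := S.exists_rep hc0
    have hR0 : IsRep i0 n ρ₀ π₀ := ⟨hπ01, hπ02, hπ03⟩
    have hB0fin := hR0.finite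
    have hB0d := hR0.finrank S hc0
    have hcen : ⁅W i0, W 1⁆ = ⊥ := by
      rw [eq_bot_iff, commutator_le]
      intro x hx y hy
      have h5 : ⁅(⟨x, mc.antitone hi01 hx⟩ : W 1), (⟨y, hy⟩ : W 1)⁆ ∈ BB W n :=
        S.cons_comm hc0 (commutator_mem_commutator hx (Subgroup.mem_top _))
      have h6 : ⁅x, y⁆ ∈ W n := h5
      rwa [mc.bot] at h6
    have hexp : ∀ w ∈ W i0, w ^ p = 1 := by
      intro w hw
      have h5 := S.cons_pow hc0 (e := ⟨w, mc.antitone hi01 hw⟩) hw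
      rw [mc.bot, Subgroup.mem_bot] at h5
      exact h5
    have hdim : n - i0 ≤ p - 2 := by
      have h5 := S.cons_le hc0
      by_contra hlt
      have h6 : i0 = n - (p - 1) := by omega
      rcases Nat.lt_or_ge n (p + 2) with h7 | h7
      · have h8 : BB W i0 ≤ Subgroup.center (W 1) := by
          intro e he
          rw [Subgroup.mem_center_iff]
          intro f
          have h9 : ⁅(e : P), (f : P)⁆ ∈ ⁅W i0, W 1⁆ := commutator_mem_commutator he f.2
          rw [hcen, Subgroup.mem_bot] at h9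
          exact Subtype.ext (commutatorElement_eq_one_iff_mul_comm.1 h9).symm
        have h9 := S.three_le_of_center hi01 h8
        omega
      · exact hΩ h7 (h6 ▸ hcen)
    obtain ⟨e, he⟩ := hSD (Abar W A) (IsRep.xb S s) (S.orderOf_xb hs) S.not_sq_dvd (S.cent_xb hs)
      (S.not_normal hs hnp) B ρ (hR.inj S hc h2) (hR.irr S hc) (by rw [hBd]; omega) (by rw [hBd]; exact h3)
      (by rw [hBd]; exact hR.reg S hc hs) B₀ ρ₀ (hR0.irr S hc0) (by rw [hB0d]; omega) (by rw [hB0d]; exact hdim)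
      (by rw [hB0d]; exact hR0.reg S hc0 hs)
    -- the isomorphism `W i0 ≃* Multiplicative B₀`
    have hbij : Function.Bijective π₀ := by
      refine ⟨?_, hR0.surj⟩
      rw [injective_iff_map_eq_one]
      intro e he
      have h5 := (hR0.ker e).1 he
      rw [mc.bot, Subgroup.mem_bot] at h5
      exact Subtype.ext (Subtype.ext h5)
    let ι : W i0 ≃* BB W i0 := (Subgroup.subgroupOfEquivOfLe (mc.antitone hi01)).symm
    let Φ : W i0 ≃* Multiplicative B₀ := ι.trans (MulEquiv.ofBijective π₀ hbij)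
    have hι : ∀ w : W i0, (((ι w : BB W i0) : W 1) : P) = w := fun w => rfl
    have hΦ : ∀ w : W i0, Φ w = π₀ (ι w) := fun w => rfl
    obtain ⟨θ, hθ1, hθ2⟩ := exists_theta Φ e
    refine ⟨i0, hi01, by omega, hinv0, hcen, hexp, θ, hθ1, ?_⟩
    intro a ha f f' hff
    -- the action of `a` on `W i0`
    have hact : ∀ w w' : W i0, (w' : P) = ap a (w : P) → ρ₀ ((⟨a, ha⟩ : A) : Abar W A) (Φ w).toAdd = (Φ w').toAdd := by
      intro w w' hw
      rw [hΦ, hΦ]
      refine hR0.equi ⟨a, ha⟩ (ι w) (ι w') ?_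
      apply Subtype.ext
      rw [hι, hw, ap_of_mem a (mc.antitone hi01 w.2)]
      rfl
    have hex : ∀ w' : W i0, ∃ w : W i0, (w' : P) = ap a (w : P) := by
      intro w'
      have hw'1 : (w' : P) ∈ W 1 := mc.antitone hi01 w'.2
      have h5 : ((a⁻¹ ⟨w', hw'1⟩ : W 1) : P) ∈ W i0 := hinv0 a⁻¹ (inv_mem ha) ⟨w', hw'1⟩ w'.2
      refine ⟨⟨_, h5⟩, ?_⟩
      rw [ap_of_mem a (SetLike.coe_mem _)]
      show (w' : P) = ((a (a⁻¹ ⟨w', hw'1⟩) : W 1) : P)
      rw [MulAut.apply_inv_self]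
    have hhat : hatf Φ f' = hatf Φ f ∘ₗ ρ₀ ((⟨a, ha⟩ : A) : Abar W A)⁻¹ := by
      ext b
      obtain ⟨w, hw⟩ := hex (Φ.symm (Multiplicative.ofAdd b))
      have h5 := hact w _ hw
      rw [MulEquiv.apply_symm_apply] at h5
      have h6 : ρ₀ ((⟨a, ha⟩ : A) : Abar W A)⁻¹ b = (Φ w).toAdd := by
        have h7 := congrArg (ρ₀ ((⟨a, ha⟩ : A) : Abar W A)⁻¹) h5
        rw [← Module.End.mul_apply, ← map_mul, inv_mul_cancel, map_one, Module.End.one_apply] at h7
        exact h7.symm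
      rw [LinearMap.comp_apply, h6, hatf_apply, hatf_apply, hff w _ hw]
      show (f w).toAdd = (f (Φ.symm (Φ w))).toAdd
      rw [MulEquiv.symm_apply_apply]
    have h5 : Φ (θ f') = Multiplicative.ofAdd (ρ₀ ((⟨a, ha⟩ : A) : Abar W A) (Φ (θ f)).toAdd) := by
      rw [hθ2, hhat, he, hθ2]
      rfl
    -- the image of `θ f` under `a`
    have h6 : ((a ⟨(θ f : W i0), mc.antitone hi01 (θ f : W i0).2⟩ : W 1) : P) ∈ W i0 := hinv0 a ha _ (θ f : W i0).2
    have h7 := hact (θ f) ⟨_, h6⟩ (by rw [ap_of_mem a (mc.antitone hi01 (θ f : W i0).2)])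
    rw [h7] at h5
    have h8 := Φ.injective h5
    rw [h8, ap_of_mem a (mc.antitone hi01 (θ f : W i0).2)]
  · exact Or.inr h

end Cfsg.Agent.H779.Core
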