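import Cfsg.Agent.H779.NPCProp
import Cfsg.Agent.H786.Weight

/-!
# The group `A / Inn (W 1)` (helper779, block NPC of S5267)
-/

set_option autoImplicit false
set_option linter.unusedSectionVars false

namespace Cfsg.Agent.H779.Core

open Subgroup Cfsg.Agent.H467.MaxClass Cfsg.Agent.H786
open scoped commutatorElement

universe u v

variable {P : Type u} [Group P] {p n : ℕ} {W : ℕ → Subgroup P} [hN1 : (W 1).Normal] {A : Subgroup (MulAut (W 1))}
variable [hp : Fact p.Prime] [Finite P]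

namespace Sit

open IsRep

theorem xb_pow (S : Sit p n W A) (s : P) : xb S s ^ p = 1 := by
  rw [xb, ← QuotientGroup.mk_pow, QuotientGroup.eq_one_iff]
  exact S.pow_mem_inn ⟨s, rfl⟩

theorem conjNormal_mem_inn_iff (S : Sit p n W A) {s : P} : MulAut.conjNormal (H := W 1) s ∈ inn (W 1) ↔ s ∈ W 1 := by
  have h4 := S.mc.four_le
  refine ⟨fun h => ?_, conjNormal_mem_inn⟩
  obtain ⟨w, hw⟩ := h
  by_contra hs
  have hx : s * (w : P)⁻¹ ∉ W 1 := fun h1 => hs (by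
    have := mul_mem h1 w.2
    rwa [inv_mul_cancel_right] at this)
  apply notMem_Ksub' S.mc S.deg hx le_rfl (show 1 + 1 < n by omega)
  rw [S.mc.mem_Ksub]
  intro v hv
  have h1 : MulAut.conjNormal (H := W 1) (s * (w : P)⁻¹) = 1 := by
    rw [map_mul, map_inv, ← hw, ← conj_eq, mul_inv_cancel]
  have h2 : ((MulAut.conjNormal (H := W 1) (s * (w : P)⁻¹) ⟨v, hv⟩ : W 1) : P) = v := by rw [h1]; rfl
  have h3 : (s * (w : P)⁻¹) * v * (s * (w : P)⁻¹)⁻¹ = v := h2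
  have h5 : ⁅v, s * (w : P)⁻¹⁆ = 1 := by
    rw [commutatorElement_eq_one_iff_mul_comm]
    exact (mul_inv_eq_iff_eq_mul.1 h3).symm
  rw [h5]
  exact one_mem _

theorem orderOf_xb (S : Sit p n W A) {s : P} (hs : s ∉ W 1) : orderOf (xb S s) = p := by
  refine orderOf_eq_prime (S.xb_pow s) ?_
  intro h
  rw [xb, QuotientGroup.eq_one_iff] at h
  exact hs (S.conjNormal_mem_inn_iff.1 h)

theorem relIndex_inn (S : Sit p n W A) : (inn (W 1)).relIndex (conjGrp (W 1)) ∣ p := by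
  have h1 : ((inn (W 1)).comap (MulAut.conjNormal (H := W 1))).index = (inn (W 1)).relIndex (conjGrp (W 1)) :=
    Subgroup.index_comap _ _
  rw [← h1]
  have h2 : W 1 ≤ (inn (W 1)).comap (MulAut.conjNormal (H := W 1)) := fun w hw => conjNormal_mem_inn hw
  have h3 := Subgroup.index_dvd_of_le h2
  rwa [S.mc.W1_index] at h3

theorem not_sq_dvd (S : Sit p n W A) : ¬ p ^ 2 ∣ Nat.card (Abar W A) := by
  intro hd
  have h1 : Nat.card (Abar W A) = (inn (W 1)).relIndex A := rfl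
  rw [h1, ← Subgroup.relIndex_mul_relIndex _ _ _ inn_le_conjGrp S.conj_le] at hd
  have h2 : p ^ 2 ∣ p * (conjGrp (W 1)).relIndex A := hd.trans (Nat.mul_dvd_mul_right S.relIndex_inn _)
  rw [pow_two] at h2
  exact S.sylow (Nat.dvd_of_mul_dvd_mul_left hp.out.pos h2)

theorem mem_zpowers_xb (S : Sit p n W A) {s : P} (hs : s ∉ W 1) {a : A} (ha : (a : MulAut (W 1)) ∈ conjGrp (W 1)) :
    (a : Abar W A) ∈ Subgroup.zpowers (xb S s) := by
  obtain ⟨y, hy⟩ := ha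
  obtain ⟨k, w, hw, rfl⟩ := exists_zp S.mc hs y
  refine ⟨k, ?_⟩
  show xb S s ^ k = _
  rw [xb, ← QuotientGroup.mk_zpow, QuotientGroup.eq]
  show (MulAut.conjNormal (H := W 1) s ^ k)⁻¹ * (a : MulAut (W 1)) ∈ inn (W 1)
  rw [← hy, ← map_zpow, ← map_inv, ← map_mul]
  refine conjNormal_mem_inn ?_
  rwa [inv_mul_cancel_left]

theorem zpowers_xb (S : Sit p n W A) {s : P} {a : A} (ha : (a : Abar W A) ∈ Subgroup.zpowers (xb S s)) :
    (a : MulAut (W 1)) ∈ conjGrp (W 1) := by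
  obtain ⟨k, hk⟩ := ha
  have h1 : xb S s ^ k = (a : Abar W A) := hk
  rw [xb, ← QuotientGroup.mk_zpow, QuotientGroup.eq] at h1
  have h2 : (MulAut.conjNormal (H := W 1) s ^ k)⁻¹ * (a : MulAut (W 1)) ∈ inn (W 1) := h1
  have h3 := mul_mem (zpow_mem (show MulAut.conjNormal (H := W 1) s ∈ conjGrp (W 1) from ⟨s, rfl⟩) k)
    (inn_le_conjGrp h2)
  rwa [mul_inv_cancel_left] at h3

theorem cent_xb (S : Sit p n W A) {s : P} (hs : s ∉ W 1) (g : Abar W A) (hg : Commute g (xb S s)) :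
    g ∈ Subgroup.zpowers (xb S s) := by
  obtain ⟨a, rfl⟩ := QuotientGroup.mk'_surjective _ g
  rw [QuotientGroup.mk'_apply] at hg ⊢
  refine S.mem_zpowers_xb hs (S.mem_conjGrp a.2 hs ?_)
  have h1 : (a : Abar W A) * xb S s * (a : Abar W A)⁻¹ * (xb S s)⁻¹ = 1 := by
    rw [hg.eq, mul_inv_cancel_right, mul_inv_cancel]
  rw [xb, ← QuotientGroup.mk_mul, ← QuotientGroup.mk_inv, ← QuotientGroup.mk_inv, ← QuotientGroup.mk_mul,
    ← QuotientGroup.mk_mul, QuotientGroup.eq_one_iff] at h1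
  exact h1

theorem not_normal (S : Sit p n W A) {s : P} (hs : s ∉ W 1) (hnp : ¬ PClosed A) :
    ¬ (Subgroup.zpowers (xb S s)).Normal := by
  intro hn
  apply hnp
  intro a ha c hc
  have h1 := S.mem_zpowers_xb hs (a := ⟨c, S.conj_le hc⟩) hc
  have h2 := hn.conj_mem _ h1 ((⟨a, ha⟩ : A) : Abar W A)
  exact S.zpowers_xb (a := ⟨a, ha⟩ * ⟨c, S.conj_le hc⟩ * (⟨a, ha⟩)⁻¹) h2

theorem exists_not_nor (S : Sit p n W A) (hnp : ¬ PClosed A) : ∃ a ∈ A, ¬ Nor a := by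
  by_contra hcon
  push Not at hcon
  apply hnp
  rintro a ha _ ⟨x, rfl⟩
  obtain ⟨y, hy⟩ := hcon a ha x
  exact ⟨y, hy.symm⟩

end Sit

end Cfsg.Agent.H779.Core
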