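import Cfsg.Agent.H779.NPCRep

/-!
# Properties of the chief factors of `A` in `W 1` (helper779, block NPC of S5267)
-/

set_option autoImplicit false
set_option linter.unusedSectionVars false

namespace Cfsg.Agent.H779.Core

open Subgroup Cfsg.Agent.H467.MaxClass Cfsg.Agent.H786
open scoped commutatorElement

universe u v

variable {P : Type u} [Group P] {p n : ℕ} {W : ℕ → Subgroup P} [hN1 : (W 1).Normal] {A : Subgroup (MulAut (W 1))}
variable [hp : Fact p.Prime] [Finite P]

/-- `ρ` is the representation of `A` on `W i / W i'` -/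
structure IsRep (i i' : ℕ) {B : Type u} [AddCommGroup B] [Module (ZMod p) B] (ρ : Representation (ZMod p) (Abar W A) B)
    (π : BB W i →* Multiplicative B) : Prop where
  surj : Function.Surjective π
  ker : ∀ e, π e = 1 ↔ ((e : W 1) : P) ∈ W i'
  equi : ∀ (a : A) (e f : BB W i), (f : W 1) = (a : MulAut (W 1)) e → ρ (a : Abar W A) (π e).toAdd = (π f).toAdd

namespace IsRep

variable {i i' : ℕ} {B : Type u} [AddCommGroup B] [Module (ZMod p) B] {ρ : Representation (ZMod p) (Abar W A) B}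
    {π : BB W i →* Multiplicative B}

theorem finite (h : IsRep i i' ρ π) : Finite B := by
  have : Finite (BB W i) := inferInstance
  have h1 : Finite (Multiplicative B) := Finite.of_surjective π h.surj
  exact h1

theorem card (S : Sit p n W A) (hc : Cons n W A i i') (h : IsRep i i' ρ π) : Nat.card B = p ^ (i' - i) := by
  have h1 := hc.one_le
  have h2 := hc.lt
  have h3 := hc.le
  have hcard : ∀ j, 1 ≤ j → j ≤ n → Nat.card (BB W j) = p ^ (n - j) := by
    intro j hj hjn
    have h4 := S.mc.card_W (n - j) (by omega)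
    rw [show n - (n - j) = j by omega] at h4
    rw [← h4]
    exact Nat.card_congr (Subgroup.subgroupOfEquivOfLe (S.mc.antitone hj)).toEquiv
  have hk : π.ker = (BB W i').subgroupOf (BB W i) := by
    ext e
    exact h.ker e
  have hkc : Nat.card π.ker = p ^ (n - i') := by
    rw [hk, ← hcard i' (by omega) h3]
    exact Nat.card_congr (Subgroup.subgroupOfEquivOfLe (BB_mono S.mc h2.le)).toEquiv
  have h5 : Nat.card (BB W i) = Nat.card B * Nat.card π.ker := by
    rw [Subgroup.card_eq_card_quotient_mul_card_subgroup π.ker]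
    congr 1
    exact Nat.card_congr (QuotientGroup.quotientKerEquivOfSurjective π h.surj).toEquiv
  rw [hcard i h1 (by omega), hkc] at h5
  have h6 : p ^ (n - i) = p ^ (i' - i) * p ^ (n - i') := by rw [← pow_add]; congr 1; omega
  rw [h6] at h5
  exact (Nat.eq_of_mul_eq_mul_right (pow_pos hp.out.pos _) h5).symm

theorem finrank (S : Sit p n W A) (hc : Cons n W A i i') (h : IsRep i i' ρ π) : Module.finrank (ZMod p) B = i' - i := by
  have := h.finite
  have h1 : Nat.card B = p ^ Module.finrank (ZMod p) B := by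
    have h2 := Module.natCard_eq_pow_finrank (K := ZMod p) (V := B)
    rwa [Nat.card_zmod] at h2
  rw [h.card S hc] at h1
  exact (Nat.pow_right_injective hp.out.two_le h1).symm

theorem irr (S : Sit p n W A) (hc : Cons n W A i i') (h : IsRep i i' ρ π) (U : Submodule (ZMod p) B)
    (hU : ∀ g, ∀ u ∈ U, ρ g u ∈ U) : U = ⊥ ∨ U = ⊤ := by
  have h1 := hc.one_le
  have h2 := hc.lt
  have h3 := hc.le
  let U' : Subgroup (W 1) :=
    { carrier := {e | ∃ he : e ∈ BB W i, (π ⟨e, he⟩).toAdd ∈ U}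
      mul_mem' := by
        rintro e f ⟨he, he2⟩ ⟨hf, hf2⟩
        refine ⟨mul_mem he hf, ?_⟩
        have : (⟨e * f, mul_mem he hf⟩ : BB W i) = ⟨e, he⟩ * ⟨f, hf⟩ := rfl
        rw [this, map_mul, toAdd_mul]
        exact U.add_mem he2 hf2
      one_mem' := ⟨one_mem _, by
        have : (⟨1, one_mem _⟩ : BB W i) = 1 := rfl
        rw [this, map_one]
        exact U.zero_mem⟩
      inv_mem' := by
        rintro e ⟨he, he2⟩
        refine ⟨inv_mem he, ?_⟩
        have : (⟨e⁻¹, inv_mem he⟩ : BB W i) = (⟨e, he⟩ : BB W i)⁻¹ := rfl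
        rw [this, map_inv, toAdd_inv]
        exact U.neg_mem he2 }
  have hU' : ∀ e, e ∈ U' ↔ ∃ he : e ∈ BB W i, (π ⟨e, he⟩).toAdd ∈ U := fun e => Iff.rfl
  have hinv : Inv A U' := by
    intro a ha e he
    obtain ⟨he1, he2⟩ := (hU' e).1 he
    refine (hU' _).2 ⟨hc.inv a ha e he1, ?_⟩
    rw [← h.equi ⟨a, ha⟩ ⟨e, he1⟩ ⟨a e, hc.inv a ha e he1⟩ rfl]
    exact hU _ _ he2
  obtain ⟨j, hj1, hj2, hj⟩ := class_of_inv S.mc U' (fun a ha => hinv a (S.conj_le ha))
  have hij : i ≤ j := by
    rcases Nat.lt_or_ge j n with h4 | h4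
    · refine BB_le_iff S.mc hj1 h4 ?_
      intro e he
      have h5 : e ∈ U' := by rw [hj]; exact he
      exact ((hU' e).1 h5).1
    · omega
  have hji : j ≤ i' := by
    rcases Nat.lt_or_ge i' n with h4 | h4
    · refine BB_le_iff S.mc (by omega) h4 ?_
      intro e he
      have h5 : e ∈ U' := by
        refine (hU' e).2 ⟨BB_mono S.mc h2.le he, ?_⟩
        have h6 : π ⟨e, BB_mono S.mc h2.le he⟩ = 1 := (h.ker _).2 he
        rw [h6]
        exact U.zero_mem
      rw [hj] at h5
      exact h5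
    · omega
  have hinvj : AInv A (W j) := by
    rw [AInv_iff, ← hj]
    exact hinv
  rcases Nat.eq_or_lt_of_le hij with h4 | h4
  · right
    rw [eq_top_iff]
    intro v _
    obtain ⟨e, he⟩ := h.surj (Multiplicative.ofAdd v)
    have h5 : (e : W 1) ∈ U' := by
      rw [hj, ← h4]
      exact e.2
    obtain ⟨h6, h7⟩ := (hU' _).1 h5
    have h8 : (π ⟨(e : W 1), h6⟩).toAdd = v := by
      show (π e).toAdd = v
      rw [he]; rfl
    rwa [h8] at h7
  · rcases Nat.eq_or_lt_of_le hji with h5 | h5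
    · left
      rw [eq_bot_iff]
      intro v hv
      obtain ⟨e, he⟩ := h.surj (Multiplicative.ofAdd v)
      have h6 : (e : W 1) ∈ U' := by
        refine (hU' _).2 ⟨e.2, ?_⟩
        show (π e).toAdd ∈ U
        rw [he]
        exact hv
      rw [hj, h5] at h6
      have h7 := (h.ker e).2 h6
      rw [h7] at he
      rw [Submodule.mem_bot]
      exact (Multiplicative.ofAdd.injective he).symm
    · exact (hc.none j h4 h5 hinvj).elim

theorem inj (S : Sit p n W A) (hc : Cons n W A i i') (h : IsRep i i' ρ π) (h2 : i + 2 ≤ i') : Function.Injective ρ := by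
  rw [injective_iff_map_eq_one]
  intro g hg
  obtain ⟨a, rfl⟩ := QuotientGroup.mk'_surjective _ g
  rw [QuotientGroup.mk'_apply] at hg ⊢
  rw [QuotientGroup.eq_one_iff]
  refine S.faithful hc.one_le h2 hc.le hc.inv hc.inv' a.2 fun e he => ?_
  have h3 := h.equi a ⟨e, he⟩ ⟨(a : MulAut (W 1)) e, hc.inv a a.2 e he⟩ rfl
  rw [hg, Module.End.one_apply] at h3
  have h4 : π (⟨e, he⟩⁻¹ * ⟨(a : MulAut (W 1)) e, hc.inv a a.2 e he⟩) = 1 := by
    rw [map_mul, map_inv, inv_mul_eq_one]
    exact Multiplicative.toAdd.injective h3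
  exact (h.ker _).1 h4

/-- the class of conjugation by `s` -/
def xb (S : Sit p n W A) (s : P) : Abar W A := ((⟨MulAut.conjNormal (H := W 1) s, S.conj_le ⟨s, rfl⟩⟩ : A) : Abar W A)

theorem reg (S : Sit p n W A) (hc : Cons n W A i i') (h : IsRep i i' ρ π) {s : P} (hs : s ∉ W 1) :
    (ρ (xb S s) - 1) ^ (i' - i - 1) ≠ 0 := by
  have h1 := hc.one_le
  have h2 := hc.lt
  have h3 := hc.le
  obtain ⟨w, hw, hw'⟩ := S.mc.ne_succ (show i < n by omega)
  have hw1 : w ∈ W 1 := S.mc.antitone h1 hw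
  have key : ∀ m, i + m < i' → ∃ e : BB W i, ((e : W 1) : P) ∈ W (i + m) ∧ ((e : W 1) : P) ∉ W (i + m + 1) ∧
      ((ρ (xb S s) - 1) ^ m) (π ⟨⟨w, hw1⟩, hw⟩).toAdd = (π e).toAdd := by
    intro m
    induction m with
    | zero => intro _; exact ⟨⟨⟨w, hw1⟩, hw⟩, hw, hw', rfl⟩
    | succ m ih =>
      intro hm
      obtain ⟨e, he, he', h4⟩ := ih (by omega)
      have hse : MulAut.conjNormal (H := W 1) s (e : W 1) ∈ BB W i := hc.inv _ (S.conj_le ⟨s, rfl⟩) e e.2
      set f : BB W i := ⟨MulAut.conjNormal (H := W 1) s (e : W 1), hse⟩ * e⁻¹ with hf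
      have hfP : ((f : W 1) : P) = (⁅((e : W 1) : P), s⁆)⁻¹ := by
        rw [hf, commutatorElement_def]
        show s * e * s⁻¹ * ((e : W 1) : P)⁻¹ = _
        group
      have hf1 := comm_notMem S.mc S.deg hs (show 1 ≤ i + m by omega) (show i + m + 1 < n by omega) he he'
      refine ⟨f, ?_, ?_, ?_⟩
      · rw [hfP]
        exact inv_mem (S.mc.comm_mem he)
      · rw [hfP]
        intro h5
        exact hf1 (inv_mem_iff.1 h5)
      · rw [pow_succ', Module.End.mul_apply, h4, LinearMap.sub_apply, Module.End.one_apply]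
        have h5 := h.equi ⟨MulAut.conjNormal (H := W 1) s, S.conj_le ⟨s, rfl⟩⟩ e
          ⟨MulAut.conjNormal (H := W 1) s (e : W 1), hse⟩ rfl
        have h6 : ρ (xb S s) (π e).toAdd = (π ⟨MulAut.conjNormal (H := W 1) s (e : W 1), hse⟩).toAdd := h5
        rw [h6, hf, map_mul, map_inv, toAdd_mul, toAdd_inv, sub_eq_add_neg]
  intro h0
  obtain ⟨e, he, he', h4⟩ := key (i' - i - 1) (by omega)
  rw [h0, LinearMap.zero_apply] at h4
  apply he'
  rw [show i + (i' - i - 1) + 1 = i' by omega, ← h.ker]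
  exact Multiplicative.toAdd.injective h4.symm

end IsRep

end Cfsg.Agent.H779.Core
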