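import Cfsg.Agent.H779.CoreN1

/-!
# The chief factors of `A` in `W 1` as representations (helper779, block NPC of S5267)
-/

set_option autoImplicit false
set_option linter.unusedSectionVars false

namespace Cfsg.Agent.H779.Core

open Subgroup Cfsg.Agent.H467.MaxClass Cfsg.Agent.H786
open scoped commutatorElement

universe u v

section general

theorem exists_mod_aux2 {G : Type v} [Group G] {V : Type u} [AddCommGroup V] (p : ℕ) [Fact p.Prime]
    [Module (ZMod p) V] (ρ : G → V →+ V) (h1 : ∀ v, ρ 1 v = v) (hm : ∀ g h v, ρ (g * h) v = ρ g (ρ h v)) :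
    ∃ (ρ' : Representation (ZMod p) G V), ∀ g v, ρ' g v = ρ g v := by
  let ρ' : G →* Module.End (ZMod p) V :=
    { toFun := fun g => (ρ g).toZModLinearMap p
      map_one' := by
        ext v
        exact h1 v
      map_mul' := by
        intro g h
        ext v
        exact hm g h v }
  exact ⟨ρ', fun g v => rfl⟩

theorem exists_mod_aux {G : Type v} [Group G] {V : Type u} [AddCommGroup V] (p : ℕ) [Fact p.Prime]
    (hexp : ∀ x : V, p • x = 0) (ρ : G → V →+ V) (h1 : ∀ v, ρ 1 v = v) (hm : ∀ g h v, ρ (g * h) v = ρ g (ρ h v)) :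
    ∃ (_ : Module (ZMod p) V) (ρ' : Representation (ZMod p) G V), ∀ g v, ρ' g v = ρ g v := by
  let _ : Module (ZMod p) V := AddCommGroup.zmodModule hexp
  exact ⟨inferInstance, exists_mod_aux2 p ρ h1 hm⟩

/-- a group of automorphisms of an elementary abelian group as a representation -/
theorem exists_mod {G : Type v} [Group G] {X : Type u} [Group X] (p : ℕ) [Fact p.Prime]
    (hcomm : ∀ x y : X, x * y = y * x) (hexp : ∀ x : X, x ^ p = 1) (ρ : G →* MulAut X) :
    ∃ (B : Type u) (_ : AddCommGroup B) (_ : Module (ZMod p) B) (ρ' : Representation (ZMod p) G B)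
      (π : X ≃* Multiplicative B), ∀ g x, ρ' g (π x).toAdd = (π (ρ g x)).toAdd := by
  let _ : CommGroup X := { (inferInstance : Group X) with mul_comm := hcomm }
  obtain ⟨i, ρ', h⟩ := exists_mod_aux (V := Additive X) p (fun x => hexp x.toMul)
    (fun g => MonoidHom.toAdditive (ρ g).toMonoidHom)
    (fun v => by
      show Additive.ofMul (ρ 1 v.toMul) = v
      rw [map_one]; rfl)
    (fun g h v => by
      show Additive.ofMul (ρ (g * h) v.toMul) = Additive.ofMul (ρ g (ρ h v.toMul))
      rw [map_mul]; rfl)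
  refine ⟨Additive X, inferInstance, i, ρ', ⟨⟨fun x => Multiplicative.ofAdd (Additive.ofMul x),
    fun x => x.toAdd.toMul, fun x => rfl, fun x => rfl⟩, fun x y => rfl⟩, fun g x => h g (Additive.ofMul x)⟩

end general

instance innNormal (M : Type*) [Group M] : (inn M).Normal := ⟨by
  rintro _ ⟨w, rfl⟩ a
  exact ⟨a w, by ext e; simp⟩⟩

variable {P : Type u} [Group P] {p n : ℕ} {W : ℕ → Subgroup P} [hN1 : (W 1).Normal] {A : Subgroup (MulAut (W 1))}
variable [hp : Fact p.Prime] [Finite P]

/-- `A` modulo the inner automorphisms of `W 1` -/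
abbrev Abar (W : ℕ → Subgroup P) (A : Subgroup (MulAut (W 1))) : Type u := A ⧸ (inn (W 1)).subgroupOf A

namespace Sit

theorem exists_rep (S : Sit p n W A) {i i' : ℕ} (hc : Cons n W A i i') :
    ∃ (B : Type u) (_ : AddCommGroup B) (_ : Module (ZMod p) B) (ρ : Representation (ZMod p) (Abar W A) B)
      (π : BB W i →* Multiplicative B), Function.Surjective π ∧ (∀ e, π e = 1 ↔ ((e : W 1) : P) ∈ W i') ∧
      ∀ (a : A) (e f : BB W i), (f : W 1) = (a : MulAut (W 1)) e → ρ (a : Abar W A) (π e).toAdd = (π f).toAdd := by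
  have hWi' := S.mc.normal i'
  set V : Subgroup (W 1) := BB W i with hV
  have hBn : (BB W i').Normal := Subgroup.normal_subgroupOf
  set N : Subgroup V := (BB W i').subgroupOf V with hN
  have hNn : N.Normal := Subgroup.normal_subgroupOf
  have hmemN : ∀ v : V, v ∈ N ↔ ((v : W 1) : P) ∈ W i' := fun v => Iff.rfl
  -- the actions
  let ρ0 : A →* MulAut V := actSub A.subtype V (fun b e he => hc.inv b b.2 e he)
  let ρ1 : A →* MulAut (V ⧸ N) := actQuot ρ0 N (fun b v hv => hc.inv' b b.2 v hv)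
  have hρ1 : ∀ (a : A) (v : V), ρ1 a (v : V ⧸ N) = ((ρ0 a v : V) : V ⧸ N) := fun a v => rfl
  have hcomm : ∀ x y : V ⧸ N, x * y = y * x := by
    intro x y
    induction x using QuotientGroup.induction_on with
    | H x =>
    induction y using QuotientGroup.induction_on with
    | H y =>
      have h1 : ⁅(x : W 1), (y : W 1)⁆ ∈ BB W i' :=
        S.cons_comm hc (commutator_mem_commutator x.2 (Subgroup.mem_top _))
      have h2 : ⁅x, y⁆ ∈ N := h1
      rw [← QuotientGroup.mk_mul, ← QuotientGroup.mk_mul, eq_comm, QuotientGroup.eq]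
      have h3 := hNn.conj_mem _ h2 (x⁻¹ * y⁻¹)
      have h4 : x⁻¹ * y⁻¹ * ⁅x, y⁆ * (x⁻¹ * y⁻¹)⁻¹ = (y * x)⁻¹ * (x * y) := by
        rw [commutatorElement_def]; group
      rwa [h4] at h3
  have hexp : ∀ x : V ⧸ N, x ^ p = 1 := by
    intro x
    induction x using QuotientGroup.induction_on with
    | H x =>
      rw [← QuotientGroup.mk_pow, QuotientGroup.eq_one_iff, hmemN]
      exact S.cons_pow hc x.2
  have hIle : ∀ a : A, (a : MulAut (W 1)) ∈ inn (W 1) → ρ1 a = 1 := by
    rintro a ⟨w, hw⟩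
    ext v
    induction v using QuotientGroup.induction_on with
    | H v =>
      rw [hρ1, MulAut.one_apply, QuotientGroup.eq, hmemN]
      have h1 : ⁅(v : W 1), w⁆ ∈ BB W i' := S.cons_comm hc (commutator_mem_commutator v.2 (Subgroup.mem_top _))
      have h2 : (((ρ0 a v : V)⁻¹ * v : V) : W 1) = w * (v : W 1)⁻¹ * w⁻¹ * v := by
        show ((a : MulAut (W 1)) (v : W 1))⁻¹ * v = _
        rw [← hw, MulAut.conj_apply]
        group
      have h3 := hBn.conj_mem _ h1 (v : W 1)⁻¹
      have h4 : (v : W 1)⁻¹ * ⁅(v : W 1), w⁆ * ((v : W 1)⁻¹)⁻¹ = w * (v : W 1)⁻¹ * w⁻¹ * v := by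
        rw [commutatorElement_def]; group
      rw [h4, ← h2] at h3
      exact h3
  let ρ : Abar W A →* MulAut (V ⧸ N) := QuotientGroup.lift _ ρ1 (fun a ha => hIle a ha)
  obtain ⟨B, i1, i2, ρ', π, hπ⟩ := exists_mod p hcomm hexp ρ
  refine ⟨B, i1, i2, ρ', π.toMonoidHom.comp (QuotientGroup.mk' N), ?_, ?_, ?_⟩
  · exact π.surjective.comp (QuotientGroup.mk'_surjective N)
  · intro e
    show π (e : V ⧸ N) = 1 ↔ _
    rw [MulEquiv.map_eq_one_iff, QuotientGroup.eq_one_iff, hmemN]
  · intro a e f hf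
    have h1 : f = ρ0 a e := Subtype.ext hf
    subst h1
    exact hπ (a : Abar W A) (e : V ⧸ N)

end Sit

end Cfsg.Agent.H779.Core
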