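import Cfsg.Agent.H747.RowTwo
import Cfsg.Agent.H767.EssFrat
import Cfsg.Agent.ClassificationK.GTwoModel
import Cfsg.Agent.Lib.FrattiniPGroup

/-!
# The model Sylow 2-subgroup of `G₂(q)`, `q` odd, has no automorphism of odd order (helper779, S5161)
-/

set_option autoImplicit false

namespace Cfsg.Agent.H779.RowHex

open Cfsg Cfsg.Agent.ClassificationK.GTwoModel Cfsg.Agent.H747
open scoped commutatorElement

variable {m : ℕ}

/-- the base group -/
def A (m : ℕ) : Subgroup (T m) where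
  carrier := {x | x.e = false ∧ x.d = false}
  mul_mem' := by
    rintro ⟨i, j, e, d⟩ ⟨i', j', e', d'⟩ ⟨h1, h2⟩ ⟨h3, h4⟩
    simp only at h1 h2 h3 h4
    subst h1 h2 h3 h4
    exact ⟨rfl, rfl⟩
  one_mem' := ⟨rfl, rfl⟩
  inv_mem' := by
    rintro ⟨i, j, e, d⟩ ⟨h1, h2⟩
    simp only at h1 h2
    subst h1 h2
    exact ⟨rfl, rfl⟩

/-- the subgroup of index 2 -/
def B (m : ℕ) : Subgroup (T m) where
  carrier := {x | x.d = false}
  mul_mem' := by
    rintro ⟨i, j, e, d⟩ ⟨i', j', e', d'⟩ h2 h4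
    simp only [Set.mem_ofPred_eq] at h2 h4
    subst h2 h4
    exact rfl
  one_mem' := rfl
  inv_mem' := by
    rintro ⟨i, j, e, d⟩ h2
    simp only [Set.mem_ofPred_eq] at h2
    subst h2
    exact rfl

theorem mem_A {x : T m} : x ∈ A m ↔ x.e = false ∧ x.d = false := Iff.rfl
theorem mem_B {x : T m} : x ∈ B m ↔ x.d = false := Iff.rfl

instance : (A m).Normal := by
  refine ⟨?_⟩
  rintro ⟨i, j, e, d⟩ ⟨h1, h2⟩ ⟨i', j', e', d'⟩
  simp only at h1 h2
  subst h1 h2
  rw [mem_A]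
  cases e' <;> cases d' <;> exact ⟨rfl, rfl⟩

instance : (B m).Normal := by
  refine ⟨?_⟩
  rintro ⟨i, j, e, d⟩ h2 ⟨i', j', e', d'⟩
  rw [mem_B] at h2 ⊢
  simp only at h2
  subst h2
  cases e <;> cases e' <;> cases d' <;> rfl

theorem two_ne {l : ℕ} (hl : 2 ≤ l) : (2 : ZMod (2 * l)) ≠ 0 := by
  intro h
  have h1 : ((2 : ℕ) : ZMod (2 * l)) = 0 := by exact_mod_cast h
  rw [ZMod.natCast_eq_zero_iff] at h1
  have := Nat.le_of_dvd (by norm_num) h1
  omega

/-- the commutator with the inverting element -/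
theorem comm_t (i j : ZMod m) : ⁅(⟨i, j, false, false⟩ : T m), (⟨0, 0, true, false⟩ : T m)⁆ = (⟨2 * i, 2 * j, false, false⟩ : T m) := by
  rw [commutatorElement_def]
  simp [T.inv_mk, T.mul_mk]
  constructor <;> ring

theorem comm_u (i j : ZMod m) : ⁅(⟨i, j, false, false⟩ : T m), (⟨0, 0, false, true⟩ : T m)⁆ = (⟨i - j, j - i, false, false⟩ : T m) := by
  rw [commutatorElement_def]
  simp [T.inv_mk, T.mul_mk]
  constructor <;> ring

/-- `A` is the centralizer of the derived subgroup -/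
theorem mem_A_iff {l : ℕ} (hl : 2 ≤ l) (x : T (2 * l)) :
    x ∈ A (2 * l) ↔ ∀ a b : T (2 * l), x * ⁅a, b⁆ = ⁅a, b⁆ * x := by
  have h2 := two_ne hl
  constructor
  · obtain ⟨i, j, e, d⟩ := x
    rintro ⟨h1, h2⟩ ⟨i1, j1, e1, d1⟩ ⟨i2, j2, e2, d2⟩
    simp only at h1 h2
    subst h1 h2
    have key : ∃ u v : ZMod (2 * l), ⁅(⟨i1, j1, e1, d1⟩ : T (2 * l)), (⟨i2, j2, e2, d2⟩ : T (2 * l))⁆ = (⟨u, v, false, false⟩ : T (2 * l)) := by
      refine ⟨⁅(⟨i1, j1, e1, d1⟩ : T (2 * l)), (⟨i2, j2, e2, d2⟩ : T (2 * l))⁆.i,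
        ⁅(⟨i1, j1, e1, d1⟩ : T (2 * l)), (⟨i2, j2, e2, d2⟩ : T (2 * l))⁆.j, ?_⟩
      apply T.ext
      · rfl
      · rfl
      · rw [commutatorElement_def]
        cases e1 <;> cases e2 <;> cases d1 <;> cases d2 <;> rfl
      · rw [commutatorElement_def]
        cases e1 <;> cases e2 <;> cases d1 <;> cases d2 <;> rfl
    obtain ⟨u, v, huv⟩ := key
    rw [huv, T.mul_mk, T.mul_mk]
    simp only [sg_false, cond_false, Bool.xor_false]
    congr 1 <;> ring
  · intro h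
    obtain ⟨i, j, e, d⟩ := x
    have h1 := h ⟨1, 0, false, false⟩ ⟨0, 0, false, true⟩
    have h3 := h ⟨1, 0, false, false⟩ ⟨0, 0, true, false⟩
    rw [comm_u] at h1
    rw [comm_t] at h3
    rw [mem_A]
    simp only [T.mul_mk, T.mk.injEq] at h1 h3
    obtain ⟨h1, -, -, -⟩ := h1
    obtain ⟨h3, -, -, -⟩ := h3
    cases e <;> cases d <;> simp only [sg_true, sg_false, cond_true, cond_false, true_and, and_true, Bool.true_eq_false,
      Bool.false_eq_true, and_false, false_and] at h1 h3 ⊢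
    · exact h2 (by linear_combination -h3)
    · exact h2 (by linear_combination -h1)
    · exact h2 (by linear_combination -h3)

/-- `B` is the centralizer of `A / A ^ 2` -/
theorem mem_B_iff {l : ℕ} (hl : 2 ≤ l) (x : T (2 * l)) :
    x ∈ B (2 * l) ↔ ∀ a ∈ A (2 * l), ∃ b ∈ A (2 * l), x * a * x⁻¹ * a⁻¹ = b * b := by
  constructor
  · obtain ⟨i, j, e, d⟩ := x
    rintro hd ⟨u, v, e', d'⟩ ⟨h1, h2⟩
    rw [mem_B] at hd
    simp only at hd h1 h2
    subst hd h1 h2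
    cases e
    · refine ⟨1, one_mem _, ?_⟩
      simp only [T.inv_mk, T.mul_mk, T.one_def, sg_false, cond_false, Bool.xor_false]
      congr 1 <;> ring
    · refine ⟨⟨-u, -v, false, false⟩, ⟨rfl, rfl⟩, ?_⟩
      simp only [T.inv_mk, T.mul_mk, sg_false, sg_true, cond_false, Bool.xor_false, Bool.xor_true, Bool.not_true]
      congr 1 <;> ring
  · intro h
    obtain ⟨i, j, e, d⟩ := x
    obtain ⟨⟨u, v, e', d'⟩, ⟨h1, h2⟩, h3⟩ := h ⟨1, 0, false, false⟩ ⟨rfl, rfl⟩
    simp only at h1 h2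
    subst h1 h2
    rw [mem_B]
    cases d
    · rfl
    · exfalso
      have h4 : ∃ w : ZMod (2 * l), (1 : ZMod (2 * l)) = 2 * w := by
        rw [T.mul_mk, T.inv_mk, T.inv_mk, T.mul_mk, T.mul_mk, T.mul_mk, T.mk.injEq] at h3
        have h5 := h3.1
        cases e <;> simp only [sg_true, sg_false, cond_true, cond_false, Bool.xor_true, Bool.xor_false,
          Bool.not_true, Bool.not_false] at h5
        · exact ⟨-u, by linear_combination -h5⟩
        · exact ⟨-u, by linear_combination -h5⟩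
      obtain ⟨w, hw⟩ := h4
      have h6 : (l : ZMod (2 * l)) = 0 := by
        have h7 : ((2 * l : ℕ) : ZMod (2 * l)) = 0 := ZMod.natCast_self _
        push_cast at h7
        calc (l : ZMod (2 * l)) = l * 1 := by ring
          _ = l * (2 * w) := by rw [← hw]
          _ = (2 * l) * w := by ring
          _ = 0 := by rw [h7, zero_mul]
      rw [ZMod.natCast_eq_zero_iff] at h6
      have := Nat.le_of_dvd (by omega) h6
      omega

/-- parity -/
theorem even_or {l : ℕ} (hl : 0 < l) (x : ZMod (2 * l)) : ∃ w : ZMod (2 * l), x = 2 * w ∨ x = 2 * w + 1 := by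
  have : NeZero (2 * l) := ⟨by omega⟩
  obtain ⟨c, hc⟩ : ∃ c : ℕ, (c : ZMod (2 * l)) = x := ⟨x.val, ZMod.natCast_zmod_val x⟩
  rcases Nat.even_or_odd' c with ⟨w, h | h⟩
  · exact ⟨w, Or.inl (by rw [← hc, h]; push_cast; ring)⟩
  · exact ⟨w, Or.inr (by rw [← hc, h]; push_cast; ring)⟩

theorem mem_comm {i j w : ZMod m} (h : i + j = 2 * w) : (⟨i, j, false, false⟩ : T m) ∈ commutator (T m) := by
  have h1 : (⟨i, j, false, false⟩ : T m) =
      ⁅(⟨i, 0, false, false⟩ : T m), (⟨0, 0, false, true⟩ : T m)⁆ *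
        ⁅(⟨0, w, false, false⟩ : T m), (⟨0, 0, true, false⟩ : T m)⁆ := by
    rw [comm_u, comm_t, T.mul_mk]
    simp only [sg_false, cond_false, Bool.xor_false]
    congr 1
    · ring
    · linear_combination h
  rw [h1]
  exact mul_mem (Subgroup.commutator_mem_commutator (Subgroup.mem_top _) (Subgroup.mem_top _))
    (Subgroup.commutator_mem_commutator (Subgroup.mem_top _) (Subgroup.mem_top _))

theorem step_A {l : ℕ} (hl : 0 < l) {x y : T (2 * l)} (hx : x ∈ A (2 * l)) (hy : y ∈ A (2 * l))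
    (hx' : x ∉ commutator (T (2 * l))) (hy' : y ∉ commutator (T (2 * l))) :
    x⁻¹ * y ∈ commutator (T (2 * l)) := by
  obtain ⟨i, j, e, d⟩ := x
  obtain ⟨i', j', e', d'⟩ := y
  obtain ⟨h1, h2⟩ := hx
  obtain ⟨h3, h4⟩ := hy
  simp only at h1 h2 h3 h4
  subst h1 h2 h3 h4
  obtain ⟨w, hw | hw⟩ := even_or hl (i + j)
  · exact absurd (mem_comm hw) hx'
  obtain ⟨w', hw' | hw'⟩ := even_or hl (i' + j')
  · exact absurd (mem_comm hw') hy'
  rw [T.inv_mk, T.mul_mk]
  simp only [sg_false, cond_false, Bool.xor_false]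
  refine mem_comm (w := w' - w) ?_
  linear_combination hw' - hw

theorem step_B {x y : T m} (hx : x ∈ B m) (hy : y ∈ B m) (hx' : x ∉ A m) (hy' : y ∉ A m) : x⁻¹ * y ∈ A m := by
  obtain ⟨i, j, e, d⟩ := x
  obtain ⟨i', j', e', d'⟩ := y
  rw [mem_B] at hx hy
  simp only at hx hy
  subst hx hy
  rw [mem_A] at hx' hy' ⊢
  cases e
  · exact absurd ⟨rfl, rfl⟩ hx'
  cases e'
  · exact absurd ⟨rfl, rfl⟩ hy'
  exact ⟨rfl, rfl⟩

theorem step_top {x y : T m} (hx' : x ∉ B m) (hy' : y ∉ B m) : x⁻¹ * y ∈ B m := by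
  obtain ⟨i, j, e, d⟩ := x
  obtain ⟨i', j', e', d'⟩ := y
  rw [mem_B] at hx' hy' ⊢
  cases d
  · exact absurd rfl hx'
  cases d'
  · exact absurd rfl hy'
  cases e <;> cases e' <;> rfl

theorem apply_mem_A {l : ℕ} (hl : 2 ≤ l) (σ : MulAut (T (2 * l))) {x : T (2 * l)} (hx : x ∈ A (2 * l)) :
    σ x ∈ A (2 * l) := by
  rw [mem_A_iff hl] at hx ⊢
  intro a b
  have h := congrArg σ (hx (σ⁻¹ a) (σ⁻¹ b))
  simpa [map_commutatorElement] using h

theorem apply_mem_B {l : ℕ} (hl : 2 ≤ l) (σ : MulAut (T (2 * l))) {x : T (2 * l)} (hx : x ∈ B (2 * l)) :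
    σ x ∈ B (2 * l) := by
  rw [mem_B_iff hl] at hx ⊢
  intro a ha
  obtain ⟨b, hb, h⟩ := hx (σ⁻¹ a) (apply_mem_A hl _ ha)
  refine ⟨σ b, apply_mem_A hl _ hb, ?_⟩
  have h1 := congrArg σ h
  simpa using h1

theorem apply_mem_comm {G : Type*} [Group G] (σ : MulAut G) {x : G} (hx : x ∈ commutator G) : σ x ∈ commutator G := by
  have h1 : (commutator G).map σ.toMonoidHom = commutator G := by
    rw [commutator_def, Subgroup.map_commutator, Subgroup.map_top_of_surjective _ σ.surjective]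
  rw [← h1]
  exact ⟨x, hx, rfl⟩

/-- the chain -/
def ch (m : ℕ) : ℕ → Subgroup (T m)
  | 0 => commutator (T m)
  | 1 => A m
  | 2 => B m
  | _ => ⊤

/-- **No automorphisms of odd order.** -/
theorem aut_eq_one {k : ℕ} (hk : 1 ≤ k) (σ : MulAut (T (2 * 2 ^ k))) {n : ℕ} (hn : Odd n) (h : σ ^ n = 1) : σ = 1 := by
  have hl : 2 ≤ 2 ^ k := by
    calc 2 = 2 ^ 1 := rfl
      _ ≤ 2 ^ k := Nat.pow_le_pow_right (by norm_num) hk
  have hl0 : 0 < 2 ^ k := by omega
  have : NeZero (2 * 2 ^ k) := ⟨by omega⟩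
  have : Fact (Nat.Prime 2) := ⟨Nat.prime_two⟩
  have hT : IsPGroup 2 (T (2 * 2 ^ k)) := by
    refine IsPGroup.of_card (n := 2 * (k + 1) + 2) ?_
    rw [T.card_T, ← pow_succ', ← pow_mul, pow_add]
    ring
  have hinv : ∀ i, ∀ α ∈ (⊤ : Subgroup (MulAut (T (2 * 2 ^ k)))), ∀ x ∈ ch (2 * 2 ^ k) i, α x ∈ ch (2 * 2 ^ k) i := by
    intro i α _ x hx
    match i with
    | 0 => exact apply_mem_comm α hx
    | 1 => exact apply_mem_A hl α hx
    | 2 => exact apply_mem_B hl α hx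
    | i + 3 => exact Subgroup.mem_top _
  have hnorm : ∀ i, (ch (2 * 2 ^ k) i).Normal := by
    intro i
    match i with
    | 0 => exact inferInstanceAs (commutator _).Normal
    | 1 => exact inferInstanceAs (A _).Normal
    | 2 => exact inferInstanceAs (B _).Normal
    | i + 3 => exact inferInstanceAs (⊤ : Subgroup _).Normal
  have hst := Cfsg.Agent.H767.EssFrat.chainStab_isPGroup hT ⊤ (ch (2 * 2 ^ k)) 3 hinv hnorm
    (Cfsg.Agent.Lib.FrattiniPGroup.commutator_le_frattini hT) rfl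
  have hmem : (⟨σ, Subgroup.mem_top _⟩ : (⊤ : Subgroup (MulAut (T (2 * 2 ^ k))))) ∈
      Cfsg.Agent.H767.EssFrat.chainStab ⊤ (ch (2 * 2 ^ k)) 3 hinv := by
    intro i hi x hx
    by_cases hx' : x ∈ ch (2 * 2 ^ k) i
    · exact mul_mem (inv_mem hx') (hinv i σ (Subgroup.mem_top _) x hx')
    have hy : σ x ∈ ch (2 * 2 ^ k) (i + 1) := hinv (i + 1) σ (Subgroup.mem_top _) x hx
    have hy' : σ x ∉ ch (2 * 2 ^ k) i := by
      intro h1
      have h2 := hinv i σ⁻¹ (Subgroup.mem_top _) _ h1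
      rw [MulAut.inv_apply_self] at h2
      exact hx' h2
    have hi' : i = 0 ∨ i = 1 ∨ i = 2 := by omega
    rcases hi' with rfl | rfl | rfl
    · exact step_A hl0 hx hy hx' hy'
    · exact step_B hx hy hx' hy'
    · exact step_top hx' hy'
  obtain ⟨r, hr⟩ := hst ⟨_, hmem⟩
  have hr' : σ ^ 2 ^ r = 1 := by
    have := congrArg (fun z => ((z : (⊤ : Subgroup (MulAut (T (2 * 2 ^ k))))) : MulAut (T (2 * 2 ^ k)))) (congrArg Subtype.val hr)
    simpa using this
  have h1 := orderOf_dvd_of_pow_eq_one hr'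
  have h2 := orderOf_dvd_of_pow_eq_one h
  have h3 : Nat.Coprime (2 ^ r) n := Nat.Coprime.pow_left r (Nat.coprime_two_left.2 hn)
  have h4 : orderOf σ = 1 := Nat.eq_one_of_dvd_coprimes h3 h1 h2
  exact orderOf_eq_one_iff.1 h4

/-- the row of a group whose Sylow 2-subgroups are of type `G₂(q)` -/
theorem row_of_equiv {K : Type*} [Group K] [Finite K] (P : Sylow 2 K) {k : ℕ} (hk : 1 ≤ k)
    (e : T (2 * 2 ^ k) ≃* (P : Subgroup K)) : RowTwo K := by
  refine Or.inl (OddRow.of_aut P fun φ n hn h => ?_)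
  have h1 : (MulAut.congr e.symm φ) ^ n = 1 := by
    rw [← map_pow, h, map_one]
  have h2 := aut_eq_one hk _ hn h1
  exact (MulAut.congr e.symm).injective (h2.trans (map_one _).symm)

end Cfsg.Agent.H779.RowHex
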