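import Cfsg.Agent.H541.PolySeq

/-!
# A refined Hall–Petrescu formula

For a filtration `F` of a group by normal subgroups, a sequence `g ∈ Poly F k i` with `i ≥ 1` and
Taylor coefficients `c j ∈ F (i + j)`: the coefficient `c k` is congruent to the `k`-th derivative of
`g` at `0` modulo `F (i + k + 1)`.

* `exists_pow_formula`: for `x ∈ F 1`, `y ∈ F (i + 1)`, `i ≥ 1`:
  `(x * y) ^ n = x ^ n * y ^ n * c_2 ^ (n choose 2) * ⋯ * c_m ^ (n choose m)` for `n ≤ m`, with
  `c_j ∈ F (i + j)` and `c_j ≡ [x⁻¹, …, x⁻¹, y]` (`j - 1` times) modulo `F (i + j + 1)`.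
-/

set_option autoImplicit false

open scoped commutatorElement

namespace Cfsg.Agent.H779.Taylor

open Cfsg.Agent.H541.PolySeq

variable {G : Type*} [Group G]

/-- The iterated derivative. -/
def difs : ℕ → (ℕ → G) → ℕ → G
  | 0, g => g
  | k + 1, g => difs k (dif g)

theorem difs_congr (k : ℕ) : ∀ (f g : ℕ → G) (n : ℕ), (∀ l ≤ n + k, f l = g l) →
    difs k f n = difs k g n := by
  induction k with
  | zero => intro f g n h; exact h n (by omega)
  | succ k ih =>
    intro f g n h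
    exact ih (dif f) (dif g) n (fun l hl => by
      simp only [dif]
      rw [h l (by omega), h (l + 1) (by omega)])

theorem difs_mem {F : ℕ → Subgroup G} (k : ℕ) : ∀ (i : ℕ) (g : ℕ → G), Poly F k i g → ∀ n,
    difs k g n ∈ F (i + k) := by
  induction k with
  | zero => intro i g hg n; exact hg n
  | succ k ih =>
    intro i g hg n
    have := ih (i + 1) (dif g) hg.2 n
    rwa [show i + (k + 1) = i + 1 + k by ring]

theorem difs_one (k : ℕ) : difs k (fun _ => (1 : G)) = fun _ => 1 := by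
  induction k with
  | zero => rfl
  | succ k ih =>
    have : dif (fun _ : ℕ => (1 : G)) = fun _ => 1 := by funext n; simp [dif]
    rw [difs, this, ih]

/-- The derivatives of `x ^ (n choose m)`. -/
theorem difs_choose (x : G) (k : ℕ) : ∀ m : ℕ,
    difs k (fun n => x ^ (n.choose m)) 0 = if m = k then x else 1 := by
  induction k with
  | zero =>
    intro m
    cases m with
    | zero => simp [difs]
    | succ m => simp [difs]
  | succ k ih =>
    intro m
    cases m with
    | zero =>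
      have : dif (fun n : ℕ => x ^ (n.choose 0)) = fun _ => 1 := by funext n; simp [dif]
      rw [difs, this, difs_one, if_neg (by omega)]
    | succ m =>
      have : dif (fun n : ℕ => x ^ (n.choose (m + 1))) = fun n => x ^ (n.choose m) := by
        funext n
        simp only [dif]
        rw [Nat.choose_succ_succ, pow_add, mul_inv_cancel_right]
      rw [difs, this, ih]
      simp

/-- The `k`-th derivative is multiplicative modulo the next term of the filtration. -/
theorem difs_mul {F : ℕ → Subgroup G} (hF : Filt F) (hn : ∀ i, (F i).Normal) (k : ℕ) :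
    ∀ (i : ℕ) (f g : ℕ → G), 1 ≤ i → Poly F k i f → Poly F k i g →
      ∃ e ∈ F (i + k + 1), difs k (fun n => f n * g n) 0 = difs k f 0 * difs k g 0 * e := by
  induction k with
  | zero => intro i f g _ _ _; exact ⟨1, one_mem _, by simp [difs]⟩
  | succ k ih =>
    intro i f g hi hf hg
    have h1 : dif (fun n => f n * g n) = fun n => dif f n * (⁅f n, dif g n⁆ * dif g n) := by
      funext n
      simp only [dif, commutatorElement_def]
      group
    have hcom : Poly F k (i + 2) (fun n => ⁅f n, dif g n⁆) :=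
      hF.poly_le (by omega) ((hF.poly_all k).2.2 _ _ _ _ (Filt.poly_pred hf) hg.2)
    have hcg : Poly F k (i + 1) (fun n => ⁅f n, dif g n⁆ * dif g n) :=
      (hF.poly_all k).1 _ _ _ (hF.poly_le (by omega) hcom) hg.2
    obtain ⟨e1, he1, h2⟩ := ih (i + 1) (dif f) (fun n => ⁅f n, dif g n⁆ * dif g n) (by omega) hf.2 hcg
    obtain ⟨e2, he2, h3⟩ := ih (i + 1) (fun n => ⁅f n, dif g n⁆) (dif g) (by omega)
      (hF.poly_le (by omega) hcom) hg.2
    have h4 : difs k (fun n => ⁅f n, dif g n⁆) 0 ∈ F (i + (k + 1) + 1) := by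
      have := difs_mem k _ _ hcom 0
      rwa [show i + (k + 1) + 1 = i + 2 + k by ring]
    have he1' : e1 ∈ F (i + (k + 1) + 1) := by rwa [show i + (k + 1) + 1 = i + 1 + k + 1 by ring]
    have he2' : e2 ∈ F (i + (k + 1) + 1) := by rwa [show i + (k + 1) + 1 = i + 1 + k + 1 by ring]
    have hN := hn (i + (k + 1) + 1)
    refine ⟨(difs k (dif g) 0)⁻¹ * difs k (fun n => ⁅f n, dif g n⁆) 0 * difs k (dif g) 0 * e2 * e1,
      mul_mem (mul_mem ?_ he2') he1', ?_⟩
    · have := hN.conj_mem _ h4 (difs k (dif g) 0)⁻¹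
      rwa [inv_inv] at this
    · rw [difs, h1, h2, h3]
      simp only [difs]
      group

/-- The Taylor coefficients are the derivatives at `0` modulo the next term of the filtration. -/
theorem difs_tay {F : ℕ → Subgroup G} (hF : Filt F) (hn : ∀ i, (F i).Normal) (i : ℕ) (hi : 1 ≤ i)
    (c : ℕ → G) (hc : ∀ j, c j ∈ F (i + j)) (k : ℕ) (m : ℕ) :
    Poly F k i (Filt.tay c m) ∧
      ∃ e ∈ F (i + k + 1), difs k (Filt.tay c m) 0 = (if k < m then c k else 1) * e := by
  induction m with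
  | zero =>
    refine ⟨Filt.poly_one _ _, 1, one_mem _, ?_⟩
    have : Filt.tay c 0 = fun _ => (1 : G) := by funext n; rfl
    rw [this, difs_one]
    simp
  | succ m ih =>
    obtain ⟨hp, e, he, h1⟩ := ih
    have hq : Poly F k i (fun n => c m ^ (n.choose m)) :=
      hF.poly_choose k m i (by rw [add_comm]; exact hc m)
    have h2 : Filt.tay c (m + 1) = fun n => Filt.tay c m n * c m ^ (n.choose m) := by
      funext n; rfl
    refine ⟨?_, ?_⟩
    · rw [h2]; exact (hF.poly_all k).1 _ _ _ hp hq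
    · obtain ⟨e', he', h3⟩ := difs_mul hF hn k i _ _ hi hp hq
      rw [h2, h3, h1, difs_choose]
      rcases lt_trichotomy k m with h | h | h
      · rw [if_pos h, if_neg (by omega), if_pos (by omega), mul_one]
        exact ⟨e * e', mul_mem he he', by group⟩
      · rw [if_neg (by omega), if_pos h.symm, if_pos (by omega), one_mul]
        subst h
        refine ⟨(c k)⁻¹ * e * c k * e', mul_mem ?_ he', by group⟩
        have := (hn (i + k + 1)).conj_mem _ he (c k)⁻¹
        rwa [inv_inv] at this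
      · rw [if_neg (by omega), if_neg (by omega), if_neg (by omega), mul_one]
        exact ⟨e * e', mul_mem he he', by group⟩

/-- The shifted filtration. -/
theorem filt_shift {F : ℕ → Subgroup G} (hF : Filt F) (i : ℕ) : Filt (fun j => F (i + j)) where
  anti j := hF.anti (i + j)
  comm a b := (hF.comm (i + a) (i + b)).trans (hF.mono_le (by omega))

theorem poly_shift {F : ℕ → Subgroup G} (i : ℕ) (k : ℕ) : ∀ (a : ℕ) (g : ℕ → G),
    Poly F k (i + a) g → Poly (fun j => F (i + j)) k a g := by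
  induction k with
  | zero => intro a g hg n; exact hg n
  | succ k ih =>
    intro a g hg
    exact ⟨hg.1, ih (a + 1) (dif g) hg.2⟩

/-- The iterated commutator `[x⁻¹, …, x⁻¹, y]`. -/
def ads (x : G) : ℕ → G → G
  | 0, y => y
  | k + 1, y => ads x k ⁅x⁻¹, y⁆

theorem ads_mem {F : ℕ → Subgroup G} (hF : Filt F) {x : G} (hx : x ∈ F 1) (k : ℕ) :
    ∀ (i : ℕ) (y : G), y ∈ F i → ads x k y ∈ F (i + k) := by
  induction k with
  | zero => intro i y hy; exact hy
  | succ k ih =>
    intro i y hy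
    have h1 : ⁅x⁻¹, y⁆ ∈ F (i + 1) := by
      rw [add_comm]; exact hF.comm_mem (inv_mem hx) hy
    have := ih (i + 1) _ h1
    rwa [show i + (k + 1) = i + 1 + k by ring]

theorem dif_conj (x y : G) :
    dif (fun n : ℕ => (x ^ n)⁻¹ * y * x ^ n) = fun n => (x ^ n)⁻¹ * ⁅x⁻¹, y⁆ * x ^ n := by
  funext n
  simp only [dif, commutatorElement_def]
  rw [pow_succ']
  group

theorem poly_conj {F : ℕ → Subgroup G} (hF : Filt F) (hn : ∀ i, (F i).Normal) {x : G}
    (hx : x ∈ F 1) (k : ℕ) : ∀ (i : ℕ) (y : G), y ∈ F i →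
      Poly F k i (fun n : ℕ => (x ^ n)⁻¹ * y * x ^ n) := by
  have h0 : ∀ (i : ℕ) (y : G), y ∈ F i → ∀ n : ℕ, (x ^ n)⁻¹ * y * x ^ n ∈ F i := by
    intro i y hy n
    have := (hn i).conj_mem _ hy (x ^ n)⁻¹
    rwa [inv_inv] at this
  induction k with
  | zero => exact h0
  | succ k ih =>
    intro i y hy
    refine ⟨h0 i y hy, ?_⟩
    rw [dif_conj]
    refine ih (i + 1) _ ?_
    rw [add_comm]; exact hF.comm_mem (inv_mem hx) hy

theorem difs_conj (x : G) (k : ℕ) : ∀ y : G,
    difs k (fun n : ℕ => (x ^ n)⁻¹ * y * x ^ n) 0 = ads x k y := by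
  induction k with
  | zero => intro y; simp [difs, ads]
  | succ k ih => intro y; rw [difs, dif_conj, ih]; rfl

theorem dif_pow (x y : G) :
    dif (fun n : ℕ => (x ^ n)⁻¹ * (x * y) ^ n) = fun n => (x ^ n)⁻¹ * y * x ^ n := by
  funext n
  simp only [dif]
  rw [pow_succ' x, pow_succ' (x * y)]
  group

theorem poly_powq {F : ℕ → Subgroup G} (hF : Filt F) (hn : ∀ i, (F i).Normal) {x y : G}
    (hx : x ∈ F 1) (i : ℕ) (hy : y ∈ F (i + 1)) (k : ℕ) :
    Poly F k i (fun n : ℕ => (x ^ n)⁻¹ * (x * y) ^ n) := by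
  have h0 : ∀ n : ℕ, (x ^ n)⁻¹ * (x * y) ^ n ∈ F (i + 1) := by
    intro n
    induction n with
    | zero => simp
    | succ n ih =>
      have h1 : (x ^ (n + 1))⁻¹ * (x * y) ^ (n + 1) =
          x⁻¹ * ((x ^ n)⁻¹ * (x * y) ^ n) * x * y := by
        rw [pow_succ x n, pow_succ (x * y)]; group
      rw [h1]
      refine mul_mem ?_ hy
      have := (hn (i + 1)).conj_mem _ ih x⁻¹
      rwa [inv_inv] at this
  cases k with
  | zero => exact fun n => hF.anti i (h0 n)
  | succ k =>
    refine ⟨fun n => hF.anti i (h0 n), ?_⟩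
    rw [dif_pow]
    exact poly_conj hF hn hx k (i + 1) y hy

/-- **Refined Hall–Petrescu formula**: for `x ∈ F 1`, `y ∈ F (i + 1)`, `i ≥ 1`,
`x ^ (-n) * (x * y) ^ n = y ^ n * c_2 ^ (n choose 2) * ⋯ * c_m ^ (n choose m)` for `n ≤ m`, where
`c_j ∈ F (i + j)` and `c_j ≡ [x⁻¹, …, x⁻¹, y]` (`j - 1` commutators) modulo `F (i + j + 1)`. -/
theorem exists_pow_formula {F : ℕ → Subgroup G} (hF : Filt F) (hn : ∀ i, (F i).Normal) {x y : G}
    (hx : x ∈ F 1) (i : ℕ) (hi : 1 ≤ i) (hy : y ∈ F (i + 1)) (m : ℕ) :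
    ∃ c : ℕ → G, (∀ j, c j ∈ F (i + j)) ∧ c 0 = 1 ∧ (1 ≤ m → c 1 = y) ∧
      (∀ j, 1 ≤ j → j ≤ m → ∃ e ∈ F (i + j + 1), ads x (j - 1) y = c j * e) ∧
      ∀ n ≤ m, (x ^ n)⁻¹ * (x * y) ^ n = Filt.tay c (m + 1) n := by
  have hpoly := poly_powq hF hn hx i hy
  have hFs := filt_shift hF i
  obtain ⟨c, hc, hcg⟩ := hFs.exists_taylor (g := fun n : ℕ => (x ^ n)⁻¹ * (x * y) ^ n)
    (fun k => poly_shift i k 0 _ (by simpa using hpoly k)) (m + 1)
  have hc' : ∀ j, c j ∈ F (i + j) := hc
  have h0 : c 0 = 1 := by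
    have h := hcg 0 (by omega)
    rw [tay_zero] at h
    simpa using h.symm
  refine ⟨c, hc', h0, ?_, ?_, fun n hn' => hcg n (by omega)⟩
  · intro hm
    obtain ⟨m', rfl⟩ : ∃ m', m = m' + 1 := ⟨m - 1, by omega⟩
    have h := hcg 1 (by omega)
    rw [tay_one c h0] at h
    simpa using h.symm
  · intro j hj hjm
    obtain ⟨j', rfl⟩ : ∃ j', j = j' + 1 := ⟨j - 1, by omega⟩
    obtain ⟨-, e, he, h⟩ := difs_tay hF hn i hi c hc' (j' + 1) (m + 1)
    rw [if_pos (by omega)] at h
    refine ⟨e, he, ?_⟩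
    rw [← h, ← difs_congr (j' + 1)
      (fun n : ℕ => (x ^ n)⁻¹ * (x * y) ^ n) _ 0 (fun l hl => hcg l (by omega))]
    rw [difs, dif_pow, difs_conj]
    rfl

end Cfsg.Agent.H779.Taylor
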