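import Cfsg.Agent.H779.CoreTorus
import Cfsg.Agent.H779.CoreThreeInv

/-!
# Step (W5) of the exceptional case of S5267 (helper779): abstract form

`Sit.le_conjGrp_of_weights`.
-/

set_option autoImplicit false
set_option linter.unusedSectionVars false

namespace Cfsg.Agent.H779.Core

open Subgroup Cfsg.Agent.H467.MaxClass Cfsg.Agent.H786
open scoped commutatorElement

universe u

theorem eq_one_of_weights {p : ℕ} [hp : Fact p.Prime] {k₀ l k M : ℕ} (hM : ((k₀ : ZMod p)) ^ M = l)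
    (l_prim : ∀ m : ℕ, (l : ZMod p) ^ m = 1 → p - 1 ∣ m) (h0 : ¬ p ∣ k₀) (hk0 : ¬ p ∣ k)
    (hk : (k : ZMod p) ^ M = 1) : k ≡ 1 [MOD p] := by
  have hp2 := hp.out.two_le
  have hz : ∀ a : ℕ, ¬ p ∣ a → (a : ZMod p) ^ (p - 1) = 1 := fun a ha =>
    ZMod.pow_card_sub_one_eq_one (by rwa [Ne, ZMod.natCast_eq_zero_iff])
  set g := Nat.gcd M (p - 1) with hg
  have hg0 : 0 < g := Nat.gcd_pos_of_pos_right _ (by omega)
  obtain ⟨M', hM'⟩ := Nat.gcd_dvd_left M (p - 1)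
  obtain ⟨r, hr⟩ := Nat.gcd_dvd_right M (p - 1)
  rw [← hg] at hM' hr
  have h1 : (l : ZMod p) ^ r = 1 := by
    rw [← hM, ← pow_mul, hM', show g * M' * r = (g * r) * M' by ring, ← hr, pow_mul, hz _ h0, one_pow]
  have h2 := l_prim r h1
  have hr0 : 0 < r := by
    rcases Nat.eq_zero_or_pos r with h | h
    · rw [h, mul_zero] at hr; omega
    · exact h
  have h3 := Nat.le_of_dvd hr0 h2
  have hg1 : g = 1 := by
    by_contra hne
    have h4 : 2 ≤ g := by omega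
    have h5 : 2 * r ≤ g * r := Nat.mul_le_mul_right r h4
    omega
  have h6 := (pow_gcd_eq_one (a := (k : ZMod p))).2 ⟨hk, hz k hk0⟩
  rw [← hg, hg1, pow_one] at h6
  rw [← ZMod.natCast_eq_natCast_iff, h6, Nat.cast_one]

variable {P : Type u} [Group P] {p n : ℕ} {W : ℕ → Subgroup P} [hN1 : (W 1).Normal] {A : Subgroup (MulAut (W 1))}
variable [hp : Fact p.Prime] [Finite P]

/-- Frattini argument. -/
theorem Sit.frattini (S : Sit p n W A) {K : Subgroup (MulAut (W 1))}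
    (hKn : ∀ a ∈ A, ∀ c ∈ K, a * c * a⁻¹ ∈ K) (hcK : conjGrp (W 1) ≤ K) {a : MulAut (W 1)} (ha : a ∈ A) :
    ∃ c ∈ K, Nor (c * a) := by
  let N : Subgroup A := K.subgroupOf A
  have hN : N.Normal := ⟨fun c hc g => hKn g g.2 c hc⟩
  have hle : (S.syl : Subgroup A) ≤ N := fun c hc => hcK (S.mem_syl.1 hc)
  have h1 := Sylow.normalizer_sup_eq_top' S.syl hle
  have h2 : (⟨a, ha⟩ : A) ∈ (⊤ : Subgroup A) := trivial
  rw [← h1] at h2
  obtain ⟨x, hx, y, hy, hxy⟩ := Subgroup.mem_sup_of_normal_right.1 h2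
  have hxa : (x : MulAut (W 1)) * y = a := congrArg Subtype.val hxy
  refine ⟨a * (y : MulAut (W 1))⁻¹ * a⁻¹, hKn a ha _ (inv_mem hy), fun s => ?_⟩
  have h3 : a * (y : MulAut (W 1))⁻¹ * a⁻¹ * a = x := by
    rw [inv_mul_cancel_right, ← hxa, mul_inv_cancel_right]
  rw [h3]
  have h4 : (⟨MulAut.conjNormal (H := W 1) s, S.conj_le ⟨s, rfl⟩⟩ : A) ∈ (S.syl : Subgroup A) := S.mem_syl.2 ⟨s, rfl⟩
  have h5 := (Subgroup.mem_normalizer_iff.1 hx _).1 h4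
  obtain ⟨y', hy'⟩ := S.mem_syl.1 h5
  exact ⟨y', hy'.symm⟩

/-- **Abstract form of (W5).** -/
theorem Sit.le_conjGrp_of_weights (S : Sit p n W A) {K : Subgroup (MulAut (W 1))} (hKA : K ≤ A)
    (hKn : ∀ a ∈ A, ∀ c ∈ K, a * c * a⁻¹ ∈ K) (hcK : conjGrp (W 1) ≤ K) {a₀ : MulAut (W 1)} (ha₀ : a₀ ∈ A)
    {l : ℕ} (l_prim : ∀ m : ℕ, (l : ZMod p) ^ m = 1 → p - 1 ∣ m)
    (h1 : ∀ c ∈ K, Nor c → ∀ r t, Sc W c 1 r → Sc W c (n - 1) t → r * t ≡ 1 [MOD p])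
    (h2 : ∀ c ∈ K, Nor (c * a₀) → ∀ r t, Sc W (c * a₀) 1 r → Sc W (c * a₀) (n - 1) t → r * t ≡ l [MOD p]) :
    K ≤ conjGrp (W 1) := by
  have h4 := S.mc.four_le
  obtain ⟨s, hs⟩ := S.exists_s
  obtain ⟨δ, -, hδ⟩ := exists_delta S.mc S.deg S.nonab
  obtain ⟨c, hc, hnor⟩ := S.frattini hKn hcK ha₀
  obtain ⟨k₀, w₀, b₀, hw₀, hcj₀, hb₀⟩ := exists_data S.mc hs hnor
  obtain ⟨hbk₀, hk₀⟩ := hδ _ _ _ _ _ hs hw₀ hnor hcj₀ hb₀
  have hM : ∀ (k b l : ℕ), b ≡ k ^ (1 + δ) [MOD p] → b * (b * k ^ (n - 1 - 1)) ≡ l [MOD p] →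
      (k : ZMod p) ^ ((1 + δ) + ((1 + δ) + (n - 1 - 1))) = l := by
    intro k b l hb hl
    rw [← ZMod.natCast_eq_natCast_iff] at hb hl
    push_cast at hb hl
    rw [hb] at hl
    rw [pow_add, pow_add _ (1 + δ), hl]
  have hM₀ := hM _ _ _ hbk₀ (h2 c hc hnor _ _ hb₀ (sc_all S.mc S.deg hs hw₀ hnor hcj₀ hb₀ (n - 1) (by omega) (by omega)))
  refine S.eq_conjGrp hKA hKn hcK fun a ha hna => ?_
  obtain ⟨k, w, b, hw, hcj, hb⟩ := exists_data S.mc hs hna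
  obtain ⟨hbk, hk⟩ := hδ _ _ _ _ _ hs hw hna hcj hb
  have hM₁ := hM _ _ _ hbk (h1 a ha hna _ _ hb (sc_all S.mc S.deg hs hw hna hcj hb (n - 1) (by omega) (by omega)))
  rw [Nat.cast_one] at hM₁
  have hk1 := eq_one_of_weights hM₀ l_prim hk₀ hk hM₁
  refine S.mem_conjGrp (hKA ha) hs ?_
  have hsp : s ^ p ∈ W 1 := by
    have h5 := Subgroup.pow_index_mem (W 1) s
    rwa [S.mc.W1_index] at h5
  have hk0 : 1 ≤ k := by
    rcases Nat.eq_zero_or_pos k with h | h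
    · rw [h] at hk; exact absurd (dvd_zero p) hk
    · exact h
  obtain ⟨m, hm⟩ := (Nat.modEq_iff_dvd' hk0).1 hk1.symm
  have hsk : s ^ k * s⁻¹ ∈ W 1 := by
    have h5 : s ^ k = s ^ (k - 1) * s := by rw [← pow_succ]; congr 1; omega
    rw [h5, mul_inv_cancel_right, hm, pow_mul]
    exact pow_mem hsp _
  rw [hcj, ← map_inv, ← map_mul]
  refine conjNormal_mem_inn ?_
  have h6 : s ^ k * w * s⁻¹ = s ^ k * s⁻¹ * (s * w * s⁻¹) := by group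
  rw [h6]
  exact mul_mem hsk (hN1.conj_mem w hw s)

end Cfsg.Agent.H779.Core
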